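import Cfsg.Agent.OddHalf.D6.Six.Parity
import Cfsg.Agent.OddHalf.D6.SixU.Ends0
import Cfsg.Agent.OddHalf.D6.SixU.EndTw
import Cfsg.Agent.OddHalf.D6.SixU.EndFin2
import Cfsg.Agent.OddHalf.D6.SixU.EndFin3

-- merged: Cfsg.Agent.OddHalf.D6.SixU.BetaEnd
section

/-!
# Case (B), the end of pattern beta (ODD D6, `q = 9`, helper751)

`R = {r ∈ C(A₁) : r x r⁻¹ ∈ x A₁}`, `A₁ = φ⟨f, z, a⟩`; the conjugates of `x` in `R` form four cosets `v_i A₁`;
`N_G(R) ∩ N(A₁)` has order `3072` and acts on the four cosets as `S₄`; the `T`-formula for the sign gives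
`96 · 1440 = 45 · 3072`.
-/

set_option autoImplicit false

namespace Cfsg.Agent.OddHalf.D6.SixU.BetaEnd

open Subgroup Equiv
open Cfsg.Agent.OddHalf.D6.Six EndPerm EndFin EndTw Ends0


/-- the data of pattern beta; `t_i` = the table of the conjugates of `x` in `T₁` -/
structure BetaIn {G : Type*} [Group G] (x : G) (φ : Perm (Fin 6) →* G) (y Y : G) : Prop
    extends Uni x φ where
  yy : y * y = 1
  yx : y * x * y⁻¹ = x * φ pf
  yu : ∀ u ∈ PU, y * φ u = φ u * y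
  Yx : Y * x * Y⁻¹ = x * φ (pf * pz)
  Yu : ∀ u ∈ P1, Y * φ u = φ u * Y
  Ye : Y * φ pe * Y⁻¹ = φ (pe * (pf * pz))
  Yy : Y * y * Y⁻¹ = y * φ (pf * pz)
  t1 : ∀ u ∈ P1, IsConj x (y * φ u)
  t2 : ∀ u ∈ P1, ¬ IsConj x (y * (x * φ u))
  t3 : ∀ u ∈ P1, ¬ IsConj x (Y * φ u)
  t4 : ∀ u ∈ P1, ¬ IsConj x (Y * (x * φ u))
  t5 : ∀ u ∈ P1, ¬ IsConj x (y * Y * φ u)
  t6 : ∀ u ∈ P1, ¬ IsConj x (y * Y * (x * φ u))
  t7 : ∀ u ∈ P1, IsConj x (y * φ (u * pe)) ↔ u ∈ PZ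
  t8 : ∀ u ∈ P1, ¬ IsConj x (y * (x * φ (u * pe)))
  t9 : ∀ u ∈ P1, ¬ IsConj x (Y * φ (u * pe))
  t10 : ∀ u ∈ P1, IsConj x (Y * (x * φ (u * pe))) ↔ u ∈ PZ
  t11 : ∀ u ∈ P1, IsConj x (y * Y * φ (u * pe)) ↔ u ∈ PZ
  t12 : ∀ u ∈ P1, ¬ IsConj x (y * Y * (x * φ (u * pe)))

variable {G : Type*} [Group G] {x : G} {φ : Perm (Fin 6) →* G} {y Y : G}

theorem conj_eq {a b c : G} (h : a * b * a⁻¹ = c) : a⁻¹ * c * a = b := by rw [← h]; group

/-- `v_i` -/
def v (x : G) (φ : Perm (Fin 6) →* G) (y : G) : Fin 4 → G :=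
  ![x, y, φ ps * y * φ ps⁻¹, φ ps⁻¹ * y * φ ps]

/-- `R` -/
def R {G : Type*} [Group G] (x : G) (φ : Perm (Fin 6) →* G) : Subgroup G where
  carrier := {r | (∀ u ∈ P1, r * φ u = φ u * r) ∧ ∃ u ∈ P1, r * x * r⁻¹ = x * φ u}
  one_mem' := ⟨fun u _ => by simp, 1, P1_one, by simp⟩
  mul_mem' := by
    rintro r s ⟨h1, u, hu, h2⟩ ⟨h3, w, hw, h4⟩
    refine ⟨fun t ht => by rw [mul_assoc, h3 t ht, ← mul_assoc, h1 t ht, mul_assoc], u * w,
      P1_mul u hu w hw, ?_⟩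
    calc r * s * x * (r * s)⁻¹ = r * (s * x * s⁻¹) * r⁻¹ := by group
      _ = r * x * (φ w * r⁻¹) := by rw [h4]; group
      _ = r * x * r⁻¹ * (r * φ w) * r⁻¹ := by group
      _ = x * φ (u * w) := by rw [h2, h1 w hw, map_mul]; group
  inv_mem' := by
    rintro r ⟨h1, u, hu, h2⟩
    have h3 : ∀ u ∈ P1, r⁻¹ * φ u = φ u * r⁻¹ := by
      intro u hu
      rw [inv_mul_eq_iff_eq_mul, ← mul_assoc, h1 u hu, mul_inv_cancel_right]
    refine ⟨h3, u, hu, ?_⟩
    have h4 : x = r⁻¹ * (x * φ u) * r := by rw [← h2]; group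
    have h5 : φ u * φ u = 1 := by rw [← map_mul, P1_sq u hu, map_one]
    calc r⁻¹ * x * r⁻¹⁻¹ = r⁻¹ * (x * φ u) * (φ u)⁻¹ * r := by group
      _ = r⁻¹ * (x * φ u) * (r * r⁻¹) * (φ u)⁻¹ * r := by group
      _ = x * (r⁻¹ * (φ u)⁻¹ * r) := by rw [← mul_assoc, ← h4]; group
      _ = x * φ u := by
        rw [inv_eq_of_mul_eq_one_left h5, h3 u hu]; group

theorem mem_R {r : G} : r ∈ R x φ ↔ (∀ u ∈ P1, r * φ u = φ u * r) ∧ ∃ u ∈ P1, r * x * r⁻¹ = x * φ u := Iff.rfl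

/-- `d` lies in the class number `i` -/
def cls (x : G) (φ : Perm (Fin 6) →* G) (y : G) (d : G) (i : Fin 4) : Prop := ∃ u ∈ P1, d = v x φ y i * φ u

namespace BetaIn

variable (B : BetaIn x φ y Y)

include B

theorem xmem : x ∈ R x φ := ⟨fun u _ => B.comm u, 1, P1_one, by simp⟩

theorem ymem : y ∈ R x φ := ⟨fun u hu => B.yu u (P1_PU u hu), pf, by decide +kernel, B.yx⟩

theorem Ymem : Y ∈ R x φ := ⟨B.Yu, _, by decide +kernel, B.Yx⟩

theorem amem {u : Perm (Fin 6)} (hu : u ∈ P1) : φ u ∈ R x φ :=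
  ⟨fun w hw => by rw [← map_mul, P1_comm u hu w hw, map_mul], 1, P1_one, by
    rw [← B.comm u]; simp⟩

/-- conjugation by `φ s` -/
theorem norm_R {s : Perm (Fin 6)} (hs : ∀ u ∈ P1, s * u * s⁻¹ ∈ P1) (hs' : ∀ u ∈ P1, s⁻¹ * u * s ∈ P1)
    {r : G} (hr : r ∈ R x φ) : φ s * r * (φ s)⁻¹ ∈ R x φ := by
  obtain ⟨h1, u, hu, h2⟩ := hr
  refine ⟨fun w hw => ?_, _, hs u hu, ?_⟩
  · have h3 := h1 _ (hs' w hw)
    rw [map_mul, map_mul, map_inv] at h3
    calc φ s * r * (φ s)⁻¹ * φ w = φ s * (r * ((φ s)⁻¹ * φ w * φ s)) * (φ s)⁻¹ := by group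
      _ = φ s * ((φ s)⁻¹ * φ w * φ s * r) * (φ s)⁻¹ := by rw [h3]
      _ = φ w * (φ s * r * (φ s)⁻¹) := by group
  · have hx : (φ s)⁻¹ * x = x * (φ s)⁻¹ := by rw [← map_inv, B.comm]
    rw [map_mul, map_mul, map_inv]
    calc φ s * r * (φ s)⁻¹ * x * (φ s * r * (φ s)⁻¹)⁻¹
        = φ s * r * ((φ s)⁻¹ * x) * φ s * r⁻¹ * (φ s)⁻¹ := by group
      _ = φ s * (r * x * r⁻¹) * (φ s)⁻¹ := by rw [hx]; group
      _ = (φ s * x) * φ u * (φ s)⁻¹ := by rw [h2]; group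
      _ = x * (φ s * φ u * (φ s)⁻¹) := by rw [← B.comm]; group

theorem smem {r : G} (hr : r ∈ R x φ) : φ ps * r * φ ps⁻¹ ∈ R x φ := by
  rw [map_inv]; exact B.norm_R P1_s P1_s' hr

theorem smem' {r : G} (hr : r ∈ R x φ) : φ ps⁻¹ * r * φ ps ∈ R x φ := by
  have h := B.norm_R (s := ps⁻¹) (by simpa using P1_s') (by simpa using P1_s) hr
  rwa [map_inv, inv_inv, ← map_inv] at h

theorem vmem (i : Fin 4) : v x φ y i ∈ R x φ := by
  fin_cases i
  · exact B.xmem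
  · exact B.ymem
  · exact B.smem B.ymem
  · exact B.smem' B.ymem

/-- conjugation of the action on `x` -/
theorem act_conj {r : G} {u s : Perm (Fin 6)} (h2 : r * x * r⁻¹ = x * φ u) :
    (φ s * r * (φ s)⁻¹) * x * (φ s * r * (φ s)⁻¹)⁻¹ = x * φ (s * u * s⁻¹) := by
  have hx : (φ s)⁻¹ * x = x * (φ s)⁻¹ := by rw [← map_inv, B.comm]
  rw [map_mul, map_mul, map_inv]
  calc φ s * r * (φ s)⁻¹ * x * (φ s * r * (φ s)⁻¹)⁻¹
      = φ s * r * ((φ s)⁻¹ * x) * φ s * r⁻¹ * (φ s)⁻¹ := by group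
    _ = φ s * (r * x * r⁻¹) * (φ s)⁻¹ := by rw [hx]; group
    _ = (φ s * x) * φ u * (φ s)⁻¹ := by rw [h2]; group
    _ = x * (φ s * φ u * (φ s)⁻¹) := by rw [← B.comm]; group

theorem v_act (i : Fin 4) : v x φ y i * x * (v x φ y i)⁻¹ = x * φ (fi i) := by
  fin_cases i
  · show x * x * x⁻¹ = x * φ 1
    simp
  · exact B.yx
  · show (φ ps * y * φ ps⁻¹) * x * (φ ps * y * φ ps⁻¹)⁻¹ = x * φ (ps * pf * ps⁻¹)
    rw [map_inv]; exact B.act_conj B.yx
  · show (φ ps⁻¹ * y * φ ps) * x * (φ ps⁻¹ * y * φ ps)⁻¹ = x * φ (ps⁻¹ * pf * ps)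
    have := B.act_conj (s := ps⁻¹) B.yx
    rwa [inv_inv, map_inv, inv_inv, ← map_inv] at this

theorem act_mul {r s : G} {u w : Perm (Fin 6)} (hr : ∀ u ∈ P1, r * φ u = φ u * r) (hw : w ∈ P1)
    (h1 : r * x * r⁻¹ = x * φ u) (h2 : s * x * s⁻¹ = x * φ w) :
    r * s * x * (r * s)⁻¹ = x * φ (u * w) := by
  calc r * s * x * (r * s)⁻¹ = r * (s * x * s⁻¹) * r⁻¹ := by group
    _ = r * x * (φ w * r⁻¹) := by rw [h2]; group
    _ = r * x * r⁻¹ * (r * φ w) * r⁻¹ := by group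
    _ = x * φ (u * w) := by rw [h1, hr w hw, map_mul]; group

theorem cls_act {d : G} {i : Fin 4} (h : cls x φ y d i) : d * x * d⁻¹ = x * φ (fi i) := by
  obtain ⟨u, hu, rfl⟩ := h
  have h1 : φ u * x * (φ u)⁻¹ = x * φ 1 := by rw [← B.comm u]; simp
  have := B.act_mul (B.vmem i).1 P1_one (B.v_act i) h1
  rwa [mul_one] at this

theorem cls_unique {d : G} {i j : Fin 4} (h : cls x φ y d i) (h' : cls x φ y d j) : i = j := by
  have h1 := B.cls_act h
  rw [B.cls_act h'] at h1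
  exact (fi_inj (B.inj (mul_left_cancel h1))).symm

theorem cls_mem {d : G} {i : Fin 4} (h : cls x φ y d i) : d ∈ R x φ := by
  obtain ⟨u, hu, rfl⟩ := h
  exact (R x φ).mul_mem (B.vmem i) (B.amem hu)

theorem cls_conj {d : G} {i : Fin 4} (h : cls x φ y d i) : IsConj x d := by
  obtain ⟨u, hu, rfl⟩ := h
  fin_cases i
  · show IsConj x (x * φ u)
    by_cases h1 : u = 1
    · rw [h1, map_one, mul_one]
    · have h2 : u * u = 1 := P1_sq u hu
      obtain ⟨g, hg⟩ := B.uni u h2 h1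
      exact isConj_iff.2 ⟨g, hg⟩
  · exact B.t1 u hu
  · show IsConj x (φ ps * y * φ ps⁻¹ * φ u)
    have h1 := B.t1 _ (P1_s' u hu)
    refine h1.trans (isConj_iff.2 ⟨φ ps, ?_⟩)
    rw [map_mul, map_mul, map_inv]; group
  · show IsConj x (φ ps⁻¹ * y * φ ps * φ u)
    have h1 := B.t1 _ (P1_s u hu)
    refine h1.trans (isConj_iff.2 ⟨φ ps⁻¹, ?_⟩)
    rw [map_mul, map_mul, map_inv]; group

/-- elements of `R` commuting with `x` -/
theorem cent_R {r : G} (h : ∀ u ∈ P1, r * φ u = φ u * r) (hx : r * x = x * r) :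
    ∃ u ∈ P1, r = φ u ∨ r = x * φ u := by
  obtain ⟨p, hp⟩ := B.cx r hx
  have key : ∀ u ∈ P1, p * u = u * p := by
    intro u hu
    apply B.inj
    rw [map_mul, map_mul]
    have h1 := h u hu
    rcases hp with rfl | rfl
    · exact h1
    · have h2 : x * (φ p * φ u) = x * (φ u * φ p) := by
        calc x * (φ p * φ u) = x * φ p * φ u := by group
          _ = φ u * (x * φ p) := h1
          _ = (φ u * x) * φ p := by group
          _ = x * (φ u * φ p) := by rw [← B.comm]; group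
      exact mul_left_cancel h2
  exact ⟨p, cent_P1 p (key pf (by decide +kernel)) (key pz (by decide +kernel)) (key pa (by decide +kernel)), hp⟩

/-- if `r, w ∈ R` act in the same way on `x` then `r ∈ w ⟨x⟩ A₁` -/
theorem eq_of_act {r w : G} {u : Perm (Fin 6)} (hr : r ∈ R x φ) (hw : w ∈ R x φ)
    (h1 : r * x * r⁻¹ = x * φ u) (h2 : w * x * w⁻¹ = x * φ u) :
    ∃ t ∈ P1, r = w * φ t ∨ r = w * (x * φ t) := by
  have h3 : w⁻¹ * r * x = x * (w⁻¹ * r) := by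
    have h4 : r * x * r⁻¹ = w * x * w⁻¹ := by rw [h1, h2]
    calc w⁻¹ * r * x = w⁻¹ * (r * x * r⁻¹) * r := by group
      _ = x * (w⁻¹ * r) := by rw [h4]; group
  obtain ⟨t, ht, h5 | h5⟩ := B.cent_R ((R x φ).mul_mem ((R x φ).inv_mem hw) hr).1 h3
  · exact ⟨t, ht, Or.inl (by rw [← h5]; group)⟩
  · exact ⟨t, ht, Or.inr (by rw [← h5]; group)⟩

theorem yY_act : (y * Y) * x * (y * Y)⁻¹ = x * φ pz := by
  have h := B.act_mul B.ymem.1 (by decide +kernel) B.yx B.Yx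
  rw [h, ← mul_assoc, ff, one_mul]

/-- the conjugates of `x` in `R`: the four classes -/
theorem exists_cls {d : G} (hd : d ∈ R x φ) (hc : IsConj x d) : ∃ i, cls x φ y d i := by
  obtain ⟨u, hu, h⟩ := hd.2
  have hP : ∀ s w : Perm (Fin 6), (∀ u ∈ P1, s * u * s⁻¹ ∈ P1) → (∀ u ∈ P1, s⁻¹ * u * s ∈ P1) →
      u = s * w * s⁻¹ → ∃ d', d' ∈ R x φ ∧ IsConj x d' ∧ d' * x * d'⁻¹ = x * φ w ∧ d = φ s * d' * (φ s)⁻¹ := by
    intro s w hs hs' hu
    refine ⟨φ s⁻¹ * d * (φ s⁻¹)⁻¹, B.norm_R (s := s⁻¹) (by simpa using hs') (by simpa using hs) hd,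
      hc.trans (isConj_iff.2 ⟨_, rfl⟩), ?_, ?_⟩
    · rw [B.act_conj h, hu]; congr 2; group
    · rw [map_inv]; group
  rcases P1_cases u hu with rfl | rfl | rfl | rfl | rfl | rfl | rfl | rfl
  · obtain ⟨t, ht, h1 | h1⟩ := B.eq_of_act (w := 1) hd (R x φ).one_mem h (by simp)
    · rw [one_mul] at h1
      obtain ⟨g, hg⟩ := isConj_iff.1 hc
      exact absurd (hg.trans h1) (B.disj t g)
    · rw [one_mul] at h1
      exact ⟨0, t, ht, h1⟩
  · obtain ⟨t, ht, h1 | h1⟩ := B.eq_of_act hd B.ymem h B.yx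
    · exact ⟨1, t, ht, h1⟩
    · exact absurd (h1 ▸ hc) (B.t2 t ht)
  · obtain ⟨d', h1, h2, h3, h4⟩ := hP ps pf P1_s P1_s' rfl
    obtain ⟨t, ht, h5 | h5⟩ := B.eq_of_act h1 B.ymem h3 B.yx
    · refine ⟨2, _, P1_s t ht, ?_⟩
      rw [h4, h5]
      show _ = φ ps * y * φ ps⁻¹ * φ (ps * t * ps⁻¹)
      rw [map_mul, map_mul, map_inv]; group
    · exact absurd (h5 ▸ h2) (B.t2 t ht)
  · obtain ⟨d', h1, h2, h3, h4⟩ := hP ps⁻¹ pf (by simpa using P1_s') (by simpa using P1_s) (by rw [inv_inv])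
    obtain ⟨t, ht, h5 | h5⟩ := B.eq_of_act h1 B.ymem h3 B.yx
    · refine ⟨3, _, P1_s' t ht, ?_⟩
      rw [h4, h5]
      show _ = φ ps⁻¹ * y * φ ps * φ (ps⁻¹ * t * ps)
      rw [map_mul, map_mul, map_inv]; group
    · exact absurd (h5 ▸ h2) (B.t2 t ht)
  · obtain ⟨t, ht, h1 | h1⟩ := B.eq_of_act hd B.Ymem h B.Yx
    · exact absurd (h1 ▸ hc) (B.t3 t ht)
    · exact absurd (h1 ▸ hc) (B.t4 t ht)
  · obtain ⟨t, ht, h1 | h1⟩ := B.eq_of_act hd ((R x φ).mul_mem B.ymem B.Ymem) h B.yY_act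
    · exact absurd (h1 ▸ hc) (B.t5 t ht)
    · exact absurd (h1 ▸ hc) (B.t6 t ht)
  · obtain ⟨d', h1, h2, h3, h4⟩ := hP ps pz P1_s P1_s' rfl
    obtain ⟨t, ht, h5 | h5⟩ := B.eq_of_act h1 ((R x φ).mul_mem B.ymem B.Ymem) h3 B.yY_act
    · exact absurd (h5 ▸ h2) (B.t5 t ht)
    · exact absurd (h5 ▸ h2) (B.t6 t ht)
  · obtain ⟨d', h1, h2, h3, h4⟩ := hP ps⁻¹ pz (by simpa using P1_s') (by simpa using P1_s) (by rw [inv_inv])
    obtain ⟨t, ht, h5 | h5⟩ := B.eq_of_act h1 ((R x φ).mul_mem B.ymem B.Ymem) h3 B.yY_act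
    · exact absurd (h5 ▸ h2) (B.t5 t ht)
    · exact absurd (h5 ▸ h2) (B.t6 t ht)

end BetaIn

end Cfsg.Agent.OddHalf.D6.SixU.BetaEnd

end

-- merged: Cfsg.Agent.OddHalf.D6.SixU.BetaEnd2
section

/-!
# Case (B), the end of pattern beta, part 2: some `g ∈ N(A₁)` maps `x` to `y` (ODD D6, `q = 9`, helper751)
-/

set_option autoImplicit false

namespace Cfsg.Agent.OddHalf.D6.SixU.BetaEnd.BetaIn

open Subgroup Equiv
open Cfsg.Agent.OddHalf.D6.Six EndPerm EndFin EndTw Ends0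

variable {G : Type*} [Group G] {x : G} {φ : Perm (Fin 6) →* G} {y Y : G}

theorem conj_x_phi (B : BetaIn x φ y Y) {u : Perm (Fin 6)} (h : u * u = 1) : IsConj x (x * φ u) := by
  by_cases h1 : u = 1
  · rw [h1, map_one, mul_one]
  · obtain ⟨g, hg⟩ := B.uni u h h1
    exact isConj_iff.2 ⟨g, hg⟩

theorem not_conj_phi (B : BetaIn x φ y Y) (u : Perm (Fin 6)) : ¬ IsConj x (φ u) := by
  intro h
  obtain ⟨g, hg⟩ := isConj_iff.1 h
  exact B.disj u g hg

/-- an element commuting with `A₂` which moves `x` to `x φ u`, `u ∈ P2`: `u = 1` or `u = f` -/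
theorem act_P2 (B : BetaIn x φ y Y) {n : G} (hn : ∀ u ∈ P2, n * φ u = φ u * n) {u : Perm (Fin 6)}
    (hu : u ∈ P2) (h : n * x * n⁻¹ = x * φ u) : u = 1 ∨ u = pf := by
  -- first the value `f z` is impossible
  have key : ∀ n : G, (∀ u ∈ P2, n * φ u = φ u * n) → n * x * n⁻¹ = x * φ (pf * pz) → False := by
    intro n hn h
    have h1 : n⁻¹ * Y * x = x * (n⁻¹ * Y) := by
      have h4 : Y * x * Y⁻¹ = n * x * n⁻¹ := by rw [B.Yx, h]
      calc n⁻¹ * Y * x = n⁻¹ * (Y * x * Y⁻¹) * Y := by group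
        _ = x * (n⁻¹ * Y) := by rw [h4]; group
    obtain ⟨p, hp⟩ := B.cx _ h1
    have h2 : φ p * φ pe * (φ p)⁻¹ = φ (pe * (pf * pz)) := by
      have h3 : (n⁻¹ * Y) * φ pe * (n⁻¹ * Y)⁻¹ = φ (pe * (pf * pz)) := by
        calc (n⁻¹ * Y) * φ pe * (n⁻¹ * Y)⁻¹ = n⁻¹ * (Y * φ pe * Y⁻¹) * n := by group
          _ = n⁻¹ * (φ (pe * (pf * pz)) * n) := by rw [B.Ye]; group
          _ = n⁻¹ * (n * φ (pe * (pf * pz))) := by rw [hn _ (by decide +kernel)]
          _ = φ (pe * (pf * pz)) := by group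
      rcases hp with hp | hp
      · rw [← hp]; exact h3
      · rw [hp] at h3
        rw [← h3]
        calc φ p * φ pe * (φ p)⁻¹ = (x * x⁻¹) * (φ p * φ pe * (φ p)⁻¹) := by group
          _ = x * (φ (p * pe * p⁻¹)) * x⁻¹ := by
            rw [map_mul, map_mul, map_inv, mul_assoc x x⁻¹]
            have : x⁻¹ * (φ p * φ pe * (φ p)⁻¹) = (φ p * φ pe * (φ p)⁻¹) * x⁻¹ := by
              rw [B.xinv, ← map_mul, ← map_inv, ← map_mul, B.comm]
            rw [this]; group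
          _ = x * φ p * φ pe * (x * φ p)⁻¹ := by rw [map_mul, map_mul, map_inv]; group
    have h3 : p * pe * p⁻¹ = pe * (pf * pz) := B.inj (by rw [← h2, map_mul, map_mul, map_inv])
    have h4 : Perm.sign (p * pe * p⁻¹) = Perm.sign pe := by
      rw [Perm.sign_mul, Perm.sign_mul, Perm.sign_inv, mul_comm, ← mul_assoc]
      simp
    rw [h3] at h4
    exact sign_ne h4.symm
  -- conjugates under `r`
  have key2 : ∀ n : G, (∀ u ∈ P2, n * φ u = φ u * n) → ∀ s : Perm (Fin 6),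
      (∀ u ∈ P2, s * u * s⁻¹ ∈ P2) → (∀ u ∈ P2, s⁻¹ * u * s ∈ P2) →
      n * x * n⁻¹ = x * φ (s * (pf * pz) * s⁻¹) → False := by
    intro n hn s hs hs' h
    apply key (φ s⁻¹ * n * (φ s⁻¹)⁻¹)
    · intro u hu
      have h3 := hn _ (hs u hu)
      rw [map_mul, map_mul, map_inv] at h3
      rw [map_inv, inv_inv]
      calc (φ s)⁻¹ * n * φ s * φ u = (φ s)⁻¹ * (n * (φ s * φ u * (φ s)⁻¹)) * φ s := by group
        _ = φ u * ((φ s)⁻¹ * n * φ s) := by rw [h3]; group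
    · rw [B.act_conj h]; congr 2; group
  have hyn : ∀ u ∈ P2, (y * n) * φ u = φ u * (y * n) := by
    intro u hu
    rw [mul_assoc, hn u hu, ← mul_assoc, B.yu u (P2_PU u hu), mul_assoc]
  have hynx : (y * n) * x * (y * n)⁻¹ = x * φ (pf * u) := by
    calc (y * n) * x * (y * n)⁻¹ = y * (n * x * n⁻¹) * y⁻¹ := by group
      _ = y * x * (φ u * y⁻¹) := by rw [h]; group
      _ = (y * x * y⁻¹) * (y * φ u) * y⁻¹ := by group
      _ = x * φ (pf * u) := by rw [B.yx, B.yu u (P2_PU u hu), map_mul]; group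
  have r1 := P2_r
  have r2 := P2_r'
  rcases P2_cases u hu with h1 | h1 | h1 | h1 | h1 | h1 | h1 | h1
  · exact Or.inl h1
  · exact Or.inr h1
  · rw [h1] at h; exact (key n hn h).elim
  · rw [h1] at h; exact (key2 n hn pr r1 r2 h).elim
  · rw [h1] at h
    exact (key2 n hn pr⁻¹ (by simpa using r2) (by simpa using r1) (by rwa [inv_inv])).elim
  · rw [h1] at hynx; exact (key _ hyn hynx).elim
  · rw [h1] at hynx; exact (key2 _ hyn pr r1 r2 hynx).elim
  · rw [h1] at hynx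
    exact (key2 _ hyn pr⁻¹ (by simpa using r2) (by simpa using r1) (by rwa [inv_inv])).elim

/-- some `g` maps `x` to `y` and normalises `A₁` -/
theorem exists_g [Finite G] (B : BetaIn x φ y Y) :
    ∃ g, g * x * g⁻¹ = y ∧ ∀ u ∈ P1, ∃ w ∈ P1, g⁻¹ * φ u * g = φ w := by
  have hxy : IsConj x y := by
    have := B.t1 1 P1_one
    rwa [map_one, mul_one] at this
  obtain ⟨g, hg, hT⟩ := exists_grow B.toSSix hxy B.yy B.yu (fun u _ h => B.not_conj_phi u (h ▸ hxy))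
  refine ⟨g, hg, ?_⟩
  have hg' : ∀ t, g⁻¹ * (g * t * g⁻¹) * g = t := fun t => by group
  -- elements of `A₁, φ(U)` come back into `T`
  have hin : ∀ u ∈ PU, ∃ w ∈ PU, g⁻¹ * φ u * g = φ w ∨ g⁻¹ * φ u * g = x * φ w := by
    intro u hu
    have h1 : g * (g⁻¹ * φ u * g) * g⁻¹ ∈ Tw φ y B.yy B.yu := by
      have : g * (g⁻¹ * φ u * g) * g⁻¹ = φ u := by group
      rw [this]
      exact ⟨u, hu, Or.inl rfl⟩
    exact (hT _).2 h1
  have hconj : ∀ u : Perm (Fin 6), ¬ IsConj x (g⁻¹ * φ u * g) := by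
    intro u h
    exact B.not_conj_phi u (h.trans (isConj_iff.2 ⟨g, by group⟩))
  -- involutions
  have hinv : ∀ u ∈ PU, u * u = 1 → ∃ w ∈ PU, g⁻¹ * φ u * g = φ w ∧ w * w = 1 := by
    intro u hu hu2
    obtain ⟨w, hw, h1 | h1⟩ := hin u hu
    · refine ⟨w, hw, h1, B.inj ?_⟩
      rw [map_mul, ← h1, map_one]
      calc g⁻¹ * φ u * g * (g⁻¹ * φ u * g) = g⁻¹ * φ (u * u) * g := by rw [map_mul]; group
        _ = 1 := by rw [hu2, map_one]; group
    · exfalso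
      have h2 : w * w = 1 := by
        apply B.inj
        rw [map_mul, map_one]
        calc φ w * φ w = x * x * φ w * φ w := by rw [B.xx, one_mul]
          _ = x * (x * φ w) * φ w := by group
          _ = x * (φ w * x) * φ w := by rw [B.comm w]
          _ = (x * φ w) * (x * φ w) := by group
          _ = g⁻¹ * φ (u * u) * g := by rw [← h1, map_mul]; group
          _ = 1 := by rw [hu2, map_one]; group
      exact hconj u (h1 ▸ B.conj_x_phi h2)
  -- `z` is fixed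
  have hz : g⁻¹ * φ pz * g = φ pz := by
    obtain ⟨a, ha, ha1, -⟩ := hinv pa (by decide +kernel) aa
    obtain ⟨e, he, he1, -⟩ := hinv pe (by decide +kernel) ee
    have h1 : pz = pa * pe * pa⁻¹ * pe⁻¹ := by decide +kernel
    have h2 : g⁻¹ * φ pz * g = φ (a * e * a⁻¹ * e⁻¹) := by
      rw [map_mul, map_mul, map_mul, map_inv, map_inv, ← ha1, ← he1]
      nth_rewrite 1 [h1]
      rw [map_mul, map_mul, map_mul, map_inv, map_inv]
      group
    rcases comm_PU a ha e he with h3 | h3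
    · exfalso
      rw [h3, map_one] at h2
      have h4 : φ pz = 1 := by
        calc φ pz = g * (g⁻¹ * φ pz * g) * g⁻¹ := by group
          _ = 1 := by rw [h2]; group
      have h5 : pz = 1 := B.inj (h4.trans (map_one φ).symm)
      revert h5; decide +kernel
    · rw [h2, h3]
  -- the image of a central involution of `φ(U)` is central
  have hcen : ∀ u ∈ PU, (∀ v ∈ PU, u * v = v * u) → ∀ w ∈ PU, g⁻¹ * φ u * g = φ w → w ∈ PZ := by
    intro u hu hc w hw h1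
    have h2 : ∀ t ∈ Tw φ x B.xx (fun u _ => B.comm u), t * φ w = φ w * t := by
      intro t ht
      have h3 := (hT t).1 ht
      have h4 : (g * t * g⁻¹) * φ u = φ u * (g * t * g⁻¹) := by
        obtain ⟨v, hv, h5 | h5⟩ := h3
        · rw [h5, ← map_mul, ← map_mul, hc v hv]
        · rw [h5, mul_assoc, ← map_mul, ← hc v hv, map_mul, ← mul_assoc, B.yu u hu, mul_assoc]
      rw [← h1]
      calc t * (g⁻¹ * φ u * g) = g⁻¹ * ((g * t * g⁻¹) * φ u) * g := by group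
        _ = g⁻¹ * (φ u * (g * t * g⁻¹)) * g := by rw [h4]
        _ = g⁻¹ * φ u * g * t := by group
    apply cen_PU w hw
    · apply B.inj
      rw [map_mul, map_mul]
      exact (h2 _ ⟨pa, by decide +kernel, Or.inl rfl⟩).symm
    · apply B.inj
      rw [map_mul, map_mul]
      exact (h2 _ ⟨pe, by decide +kernel, Or.inl rfl⟩).symm
  -- the image of `f`
  obtain ⟨f', hf', hf1, -⟩ := hinv pf (by decide +kernel) ff
  have hfZ : f' ∈ PZ := hcen pf (by decide +kernel) PU_pf f' hf' hf1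
  -- the image of `a`
  obtain ⟨a', ha', ha1, ha2⟩ := hinv pa (by decide +kernel) aa
  have gen : ∀ (P : Finset (Perm (Fin 6))), (∀ u ∈ P, ∀ w ∈ P, u * w ∈ P) → f' ∈ P → pz ∈ P → a' ∈ P → 1 ∈ P →
      ∀ u ∈ P1, ∃ w ∈ P, g⁻¹ * φ u * g = φ w := by
    intro P hP h1 h2 h3 h4
    have hm : ∀ u w u' w' : Perm (Fin 6), g⁻¹ * φ u * g = φ u' → g⁻¹ * φ w * g = φ w' →
        g⁻¹ * φ (u * w) * g = φ (u' * w') := by
      intro u w u' w' h5 h6
      rw [map_mul, map_mul, ← h5, ← h6]; group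
    have h0 : g⁻¹ * φ 1 * g = φ 1 := by rw [map_one]; group
    intro u hu
    rcases P1_list u hu with rfl | rfl | rfl | rfl | rfl | rfl | rfl | rfl
    · exact ⟨1, h4, h0⟩
    · exact ⟨_, h1, hf1⟩
    · exact ⟨_, h2, hz⟩
    · exact ⟨_, hP _ h1 _ h2, hm _ _ _ _ hf1 hz⟩
    · exact ⟨_, h3, ha1⟩
    · exact ⟨_, hP _ h1 _ h3, hm _ _ _ _ hf1 ha1⟩
    · exact ⟨_, hP _ h2 _ h3, hm _ _ _ _ hz ha1⟩
    · exact ⟨_, hP _ (hP _ h1 _ h2) _ h3, hm _ _ _ _ (hm _ _ _ _ hf1 hz) ha1⟩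
  rcases inv_PU a' ha' ha2 with h1 | h1
  · exact gen P1 P1_mul (PZ_P1 _ hfZ) (by decide +kernel) h1 P1_one
  · exfalso
    have h2 := gen P2 P2_mul (PZ_P2 _ hfZ) (by decide +kernel) h1 (by decide +kernel)
    -- the inclusion is an equality
    have h3 : ∀ w ∈ P2, ∃ u ∈ P1, g⁻¹ * φ u * g = φ w := by
      choose! m hm hm1 using h2
      have h4 : P1.image m = P2 := by
        apply Finset.eq_of_subset_of_card_le
        · intro w hw
          obtain ⟨u, hu, rfl⟩ := Finset.mem_image.1 hw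
          exact hm u hu
        · rw [Finset.card_image_of_injOn, P1_card, P2_card]
          intro u hu w hw h5
          have h5' : m u = m w := h5
          have h6 : g⁻¹ * φ u * g = g⁻¹ * φ w * g := by rw [hm1 u hu, hm1 w hw, h5']
          exact B.inj (mul_left_cancel (mul_right_cancel h6))
      intro w hw
      rw [← h4] at hw
      obtain ⟨u, hu, rfl⟩ := Finset.mem_image.1 hw
      exact ⟨u, hu, hm1 u hu⟩
    have hcomm : ∀ r : G, (∀ u ∈ P1, r * φ u = φ u * r) → ∀ w ∈ P2, (g⁻¹ * r * g) * φ w = φ w * (g⁻¹ * r * g) := by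
      intro r hr w hw
      obtain ⟨u, hu, h5⟩ := h3 w hw
      rw [← h5]
      calc g⁻¹ * r * g * (g⁻¹ * φ u * g) = g⁻¹ * (r * φ u) * g := by group
        _ = g⁻¹ * φ u * g * (g⁻¹ * r * g) := by rw [hr u hu]; group
    -- the two translations
    have hx1 : x * y * x⁻¹ = y * φ pf := by
      have h5 := B.yx
      rw [mul_inv_eq_iff_eq_mul] at h5
      -- `y x = x φ f y`
      have h6 : φ pf * y = y * φ pf := (B.yu pf (by decide +kernel)).symm
      rw [mul_assoc, h6] at h5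
      rw [mul_inv_eq_iff_eq_mul]
      have h7 : φ pf * φ pf = 1 := by rw [← map_mul, ff, map_one]
      calc x * y = x * y * (φ pf * φ pf) := by rw [h7, mul_one]
        _ = (x * (y * φ pf)) * φ pf := by group
        _ = y * (x * φ pf) := by rw [← h5]; group
        _ = y * φ pf * x := by rw [B.comm]; group
    have tr : ∀ (r : G) (u : Perm (Fin 6)), u ∈ P1 → (∀ u ∈ P1, r * φ u = φ u * r) → r * y * r⁻¹ = y * φ u →
        ∃ w ∈ P2, g⁻¹ * φ u * g = φ w ∧ (w = 1 ∨ w = pf) := by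
      intro r u hu hr h5
      obtain ⟨w, hw, h6⟩ := h2 u hu
      refine ⟨w, hw, h6, B.act_P2 (n := g⁻¹ * r * g) (hcomm r hr) hw ?_⟩
      have h7 : g⁻¹ * y * g = x := by rw [← hg]; group
      calc g⁻¹ * r * g * x * (g⁻¹ * r * g)⁻¹ = g⁻¹ * (r * (g * x * g⁻¹) * r⁻¹) * g := by group
        _ = g⁻¹ * (y * φ u) * g := by rw [hg, h5]
        _ = (g⁻¹ * y * g) * (g⁻¹ * φ u * g) := by group
        _ = x * φ w := by rw [h7, h6]
    obtain ⟨w1, -, h5, h6⟩ := tr x pf (by decide +kernel) (fun u _ => B.comm u) hx1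
    obtain ⟨w2, -, h7, h8⟩ := tr Y (pf * pz) (by decide +kernel) B.Yu B.Yy
    have ne : ∀ u w : Perm (Fin 6), g⁻¹ * φ u * g = φ w → u ≠ 1 → w ≠ 1 := by
      intro u w h9 h10 h11
      apply h10
      apply B.inj
      rw [h11, map_one] at h9
      rw [map_one]
      calc φ u = g * (g⁻¹ * φ u * g) * g⁻¹ := by group
        _ = 1 := by rw [h9]; group
    have h9 := h6.resolve_left (ne _ _ h5 (by decide +kernel))
    have h10 := h8.resolve_left (ne _ _ h7 (by decide +kernel))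
    rw [h9] at h5
    rw [h10] at h7
    have h11 : φ pf = φ (pf * pz) := mul_left_cancel (mul_right_cancel (h5.trans h7.symm))
    have h12 := B.inj h11
    revert h12; decide +kernel

end Cfsg.Agent.OddHalf.D6.SixU.BetaEnd.BetaIn

end

-- merged: Cfsg.Agent.OddHalf.D6.SixU.BetaEnd3
section

/-!
# Case (B), the end of pattern beta, part 3: the group `H` of order `3072` and its action on four classes
(ODD D6, `q = 9`, helper751)
-/

set_option autoImplicit false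

namespace Cfsg.Agent.OddHalf.D6.SixU.BetaEnd

open Subgroup Equiv
open Cfsg.Agent.OddHalf.D6.Six EndPerm EndFin EndTw Ends0

variable {G : Type*} [Group G] {x : G} {φ : Perm (Fin 6) →* G} {y Y : G}

/-- `A₁` -/
def A1 {G : Type*} [Group G] (φ : Perm (Fin 6) →* G) : Subgroup G where
  carrier := {g | ∃ u ∈ P1, g = φ u}
  one_mem' := ⟨1, P1_one, (map_one φ).symm⟩
  mul_mem' := by
    rintro _ _ ⟨u, hu, rfl⟩ ⟨w, hw, rfl⟩
    exact ⟨u * w, P1_mul u hu w hw, (map_mul φ u w).symm⟩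
  inv_mem' := by
    rintro _ ⟨u, hu, rfl⟩
    exact ⟨u, hu, by rw [← map_inv, P1_inv u hu]⟩

theorem mem_A1 {g : G} : g ∈ A1 φ ↔ ∃ u ∈ P1, g = φ u := Iff.rfl

/-- one inclusion is enough in a finite group -/
theorem mem_norm_of [Finite G] {K : Subgroup G} {n : G} (h : ∀ k ∈ K, n * k * n⁻¹ ∈ K) :
    n ∈ normalizer (K : Set G) := by
  have h1 : K.map (MulAut.conj n).toMonoidHom = K := by
    apply eq_of_le_of_card_ge
    · rintro _ ⟨k, hk, rfl⟩
      exact h k hk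
    · rw [Nat.card_congr (K.equivMapOfInjective (MulAut.conj n).toMonoidHom
        (MulAut.conj n).injective).toEquiv]
  rw [mem_normalizer_iff]
  intro k
  constructor
  · exact h k
  · intro hk
    rw [← h1] at hk
    obtain ⟨k', hk', h2⟩ := hk
    have h3 : n * k' * n⁻¹ = n * k * n⁻¹ := h2
    have h4 : k' = k := mul_left_cancel (mul_right_cancel h3)
    rwa [← h4]

/-- `H` -/
def HH {G : Type*} [Group G] (x : G) (φ : Perm (Fin 6) →* G) : Subgroup G :=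
  normalizer (R x φ : Set G) ⊓ normalizer (A1 φ : Set G)

theorem HH_R {n : G} (hn : n ∈ HH x φ) {r : G} (hr : r ∈ R x φ) : n * r * n⁻¹ ∈ R x φ :=
  (mem_normalizer_iff.1 hn.1 r).1 hr

theorem HH_A {n : G} (hn : n ∈ HH x φ) {u : Perm (Fin 6)} (hu : u ∈ P1) : ∃ w ∈ P1, n * φ u * n⁻¹ = φ w :=
  (mem_normalizer_iff.1 hn.2 (φ u)).1 ⟨u, hu, rfl⟩

namespace BetaIn

theorem conj_cls (B : BetaIn x φ y Y) {n : G} (hn : n ∈ HH x φ) {d : G} {i : Fin 4} (h : cls x φ y d i) :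
    ∃ j, cls x φ y (n * d * n⁻¹) j :=
  B.exists_cls (HH_R hn (B.cls_mem h)) ((B.cls_conj h).trans (isConj_iff.2 ⟨n, rfl⟩))

theorem cls_v (i : Fin 4) : cls x φ y (v x φ y i) i := ⟨1, P1_one, by rw [map_one, mul_one]⟩

theorem cls_same {n : G} (hn : n ∈ HH x φ) {d d' : G} {i j : Fin 4} (h : cls x φ y d i) (h' : cls x φ y d' i)
    (hj : cls x φ y (n * d * n⁻¹) j) : cls x φ y (n * d' * n⁻¹) j := by
  obtain ⟨u, hu, rfl⟩ := h
  obtain ⟨u', hu', rfl⟩ := h'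
  obtain ⟨w, hw, h1⟩ := hj
  obtain ⟨t, ht, h2⟩ := HH_A hn (P1_mul u hu u' hu')
  refine ⟨w * t, P1_mul w hw t ht, ?_⟩
  have h3 : φ u * φ (u * u') = φ u' := by rw [← map_mul, ← mul_assoc, P1_sq u hu, one_mul]
  calc n * (v x φ y i * φ u') * n⁻¹ = n * (v x φ y i * (φ u * φ (u * u'))) * n⁻¹ := by rw [h3]
    _ = n * (v x φ y i * φ u) * n⁻¹ * (n * φ (u * u') * n⁻¹) := by group
    _ = v x φ y j * φ (w * t) := by rw [h1, h2, map_mul, mul_assoc]

open Classical in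
/-- the action on the classes -/
noncomputable def tau (B : BetaIn x φ y Y) (n : HH x φ) (i : Fin 4) : Fin 4 :=
  (B.conj_cls n.2 (cls_v i)).choose

theorem tau_spec (B : BetaIn x φ y Y) (n : HH x φ) (i : Fin 4) :
    cls x φ y ((n : G) * v x φ y i * (n : G)⁻¹) (B.tau n i) :=
  (B.conj_cls n.2 (cls_v i)).choose_spec

theorem tau_eq (B : BetaIn x φ y Y) (n : HH x φ) {d : G} {i j : Fin 4} (hd : cls x φ y d i)
    (h : cls x φ y ((n : G) * d * (n : G)⁻¹) j) : B.tau n i = j :=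
  B.cls_unique (cls_same n.2 (cls_v i) hd (B.tau_spec n i)) h

theorem tau_spec' (B : BetaIn x φ y Y) (n : HH x φ) {d : G} {i : Fin 4} (hd : cls x φ y d i) :
    cls x φ y ((n : G) * d * (n : G)⁻¹) (B.tau n i) :=
  cls_same n.2 (cls_v i) hd (B.tau_spec n i)

/-- the action as a homomorphism -/
noncomputable def psi (B : BetaIn x φ y Y) : HH x φ →* Perm (Fin 4) :=
  MonoidHom.toHomPerm
    { toFun := fun n => (B.tau n : Fin 4 → Fin 4)
      map_one' := by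
        funext i
        apply B.tau_eq 1 (cls_v i)
        have : ((1 : HH x φ) : G) * v x φ y i * ((1 : HH x φ) : G)⁻¹ = v x φ y i := by simp
        rw [this]
        exact cls_v i
      map_mul' := by
        intro n m
        funext i
        apply B.tau_eq (n * m) (cls_v i)
        have : ((n * m : HH x φ) : G) * v x φ y i * ((n * m : HH x φ) : G)⁻¹ =
            (n : G) * ((m : G) * v x φ y i * (m : G)⁻¹) * (n : G)⁻¹ := by
          show ((n : G) * (m : G)) * v x φ y i * ((n : G) * (m : G))⁻¹ = _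
          group
        rw [this]
        exact B.tau_spec' n (B.tau_spec m i) }

theorem psi_apply (B : BetaIn x φ y Y) (n : HH x φ) (i : Fin 4) : B.psi n i = B.tau n i := rfl

/-- elements of `R` do not change the action on `x` -/
theorem act_R (B : BetaIn x φ y Y) {r d : G} (hr : r ∈ R x φ) (hd : d ∈ R x φ) {u : Perm (Fin 6)} (hu : u ∈ P1)
    (h : d * x * d⁻¹ = x * φ u) : (r * d * r⁻¹) * x * (r * d * r⁻¹)⁻¹ = x * φ u := by
  obtain ⟨w, hw, h1⟩ := hr.2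
  have h2 : r⁻¹ * x * r⁻¹⁻¹ = x * φ w := by
    obtain ⟨t, ht, h3⟩ := ((R x φ).inv_mem hr).2
    have h4 := B.act_mul hr.1 ht h1 h3
    have h5 : x * φ 1 = x * φ (w * t) := by
      rw [← h4, mul_inv_cancel, map_one]; simp
    have h6 : 1 = w * t := B.inj (mul_left_cancel h5)
    have h7 : w = t := by
      calc w = w * (w * t) := by rw [← h6, mul_one]
        _ = t := by rw [← mul_assoc, P1_sq w hw, one_mul]
    rw [h3, h7]
  have h3 := B.act_mul hr.1 hu h1 h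
  have h4 := B.act_mul ((R x φ).mul_mem hr hd).1 hw h3 h2
  rw [h4]
  congr 2
  rw [mul_assoc, P1_comm u hu w hw, ← mul_assoc, P1_sq w hw, one_mul]

theorem R_le (B : BetaIn x φ y Y) : R x φ ≤ HH x φ := by
  intro r hr
  refine ⟨le_normalizer hr, ?_⟩
  show r ∈ normalizer (A1 φ : Set G)
  rw [mem_normalizer_iff]
  intro g
  constructor
  · rintro ⟨u, hu, rfl⟩
    exact ⟨u, hu, by rw [hr.1 u hu]; group⟩
  · rintro ⟨u, hu, h⟩
    refine ⟨u, hu, ?_⟩
    calc g = r⁻¹ * (r * g * r⁻¹) * r := by group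
      _ = r⁻¹ * (φ u * r) := by rw [h]; group
      _ = φ u := by rw [← hr.1 u hu]; group

theorem psi_R (B : BetaIn x φ y Y) {r : G} (hr : r ∈ R x φ) (hrH : r ∈ HH x φ) : B.psi ⟨r, hrH⟩ = 1 := by
  ext1 i
  rw [psi_apply]
  have h1 := B.tau_spec ⟨r, hrH⟩ i
  have h2 := B.cls_act h1
  have h3 := B.act_R hr (B.vmem i) (fi_mem i) (B.v_act i)
  have h4 : x * φ (fi i) = x * φ (fi (B.tau ⟨r, hrH⟩ i)) := by rw [← h3, ← h2]
  exact (fi_inj (B.inj (mul_left_cancel h4))).symm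

/-- `φ s`, `s` normalising `P1`, lies in `H` -/
theorem phi_mem (B : BetaIn x φ y Y) {s : Perm (Fin 6)} (hs : ∀ u ∈ P1, s * u * s⁻¹ ∈ P1)
    (hs' : ∀ u ∈ P1, s⁻¹ * u * s ∈ P1) : φ s ∈ HH x φ := by
  refine ⟨?_, ?_⟩
  · show φ s ∈ normalizer (R x φ : Set G)
    rw [mem_normalizer_iff]
    intro r
    constructor
    · exact B.norm_R hs hs'
    · intro hr
      have h := B.norm_R (s := s⁻¹) (by simpa using hs') (by simpa using hs) hr
      rw [map_inv] at h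
      have e : (φ s)⁻¹ * (φ s * r * (φ s)⁻¹) * ((φ s)⁻¹)⁻¹ = r := by group
      rwa [e] at h
  · show φ s ∈ normalizer (A1 φ : Set G)
    rw [mem_normalizer_iff]
    intro g
    constructor
    · rintro ⟨u, hu, rfl⟩
      exact ⟨_, hs u hu, by rw [map_mul, map_mul, map_inv]⟩
    · rintro ⟨u, hu, h⟩
      refine ⟨_, hs' u hu, ?_⟩
      rw [map_mul, map_mul, map_inv, ← h]; group

theorem ps_mem (B : BetaIn x φ y Y) : φ ps ∈ HH x φ := B.phi_mem P1_s P1_s'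

theorem pe_mem (B : BetaIn x φ y Y) : φ pe ∈ HH x φ := B.phi_mem P1_e P1_e'

theorem y_pe (B : BetaIn x φ y Y) : φ pe * y * (φ pe)⁻¹ = y := by
  rw [← B.yu pe pe_PU]; group

/-- `σ` acts as `(1 2 3)` -/
theorem psi_ps (B : BetaIn x φ y Y) : B.psi ⟨φ ps, B.ps_mem⟩ = swap 1 2 * swap 2 3 := by
  have h3 : φ ps * φ ps * φ ps = 1 := by rw [← map_mul, ← map_mul, sss, map_one]
  have h4 : φ ps⁻¹ = φ ps * φ ps := by
    rw [map_inv]; exact inv_eq_of_mul_eq_one_right (by rw [← mul_assoc]; exact h3)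
  ext1 i
  rw [psi_apply]
  apply B.tau_eq _ (cls_v i)
  show cls x φ y (φ ps * v x φ y i * (φ ps)⁻¹) _
  rw [← map_inv]
  fin_cases i
  · show cls x φ y (φ ps * x * φ ps⁻¹) 0
    refine ⟨1, P1_one, ?_⟩
    rw [← B.comm, map_inv, map_one]
    show _ = x * 1
    group
  · show cls x φ y (φ ps * y * φ ps⁻¹) 2
    exact cls_v 2
  · show cls x φ y (φ ps * (φ ps * y * φ ps⁻¹) * φ ps⁻¹) 3
    refine ⟨1, P1_one, ?_⟩
    show _ = φ ps⁻¹ * y * φ ps * φ 1
    rw [map_one, mul_one]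
    have h5 : φ ps = φ ps⁻¹ * φ ps⁻¹ := by
      rw [← map_mul, ← mul_inv_rev, ← pow_two]
      congr 1
      rw [eq_inv_iff_mul_eq_one, pow_two, ← mul_assoc]; exact sss
    calc φ ps * (φ ps * y * φ ps⁻¹) * φ ps⁻¹ = (φ ps * φ ps) * y * (φ ps⁻¹ * φ ps⁻¹) := by group
      _ = φ ps⁻¹ * y * φ ps := by rw [← h4, ← h5]
  · show cls x φ y (φ ps * (φ ps⁻¹ * y * φ ps) * φ ps⁻¹) 1
    refine ⟨1, P1_one, ?_⟩
    show _ = y * φ 1
    rw [map_one, map_inv]; group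

/-- `e` acts as `(2 3)` -/
theorem psi_pe (B : BetaIn x φ y Y) : B.psi ⟨φ pe, B.pe_mem⟩ = swap 2 3 := by
  have h1 : φ pe * φ ps * (φ pe)⁻¹ = φ ps⁻¹ := by rw [← map_inv, ← map_mul, ← map_mul, es]
  have h1' : φ pe * φ ps⁻¹ * (φ pe)⁻¹ = φ ps := by
    rw [← map_inv, ← map_mul, ← map_mul]
    congr 1
    calc pe * ps⁻¹ * pe⁻¹ = (pe * ps * pe⁻¹)⁻¹ := by group
      _ = ps := by rw [es, inv_inv]
  ext1 i
  rw [psi_apply]
  apply B.tau_eq _ (cls_v i)
  show cls x φ y (φ pe * v x φ y i * (φ pe)⁻¹) _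
  fin_cases i
  · show cls x φ y (φ pe * x * (φ pe)⁻¹) 0
    refine ⟨1, P1_one, ?_⟩
    rw [← B.comm, map_one]
    show _ = x * 1
    group
  · show cls x φ y (φ pe * y * (φ pe)⁻¹) 1
    rw [B.y_pe]; exact cls_v 1
  · show cls x φ y (φ pe * (φ ps * y * φ ps⁻¹) * (φ pe)⁻¹) 3
    refine ⟨1, P1_one, ?_⟩
    show _ = φ ps⁻¹ * y * φ ps * φ 1
    rw [map_one, mul_one]
    calc φ pe * (φ ps * y * φ ps⁻¹) * (φ pe)⁻¹ = (φ pe * φ ps * (φ pe)⁻¹) * (φ pe * y * (φ pe)⁻¹) *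
          (φ pe * φ ps⁻¹ * (φ pe)⁻¹) := by group
      _ = φ ps⁻¹ * y * φ ps := by rw [h1, h1', B.y_pe]
  · show cls x φ y (φ pe * (φ ps⁻¹ * y * φ ps) * (φ pe)⁻¹) 2
    refine ⟨1, P1_one, ?_⟩
    show _ = φ ps * y * φ ps⁻¹ * φ 1
    rw [map_one, mul_one]
    calc φ pe * (φ ps⁻¹ * y * φ ps) * (φ pe)⁻¹ = (φ pe * φ ps⁻¹ * (φ pe)⁻¹) * (φ pe * y * (φ pe)⁻¹) *
          (φ pe * φ ps * (φ pe)⁻¹) := by group
      _ = φ ps * y * φ ps⁻¹ := by rw [h1, h1', B.y_pe]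

/-- the growth element lies in `H` -/
theorem exists_gH [Finite G] (B : BetaIn x φ y Y) : ∃ g ∈ HH x φ, g * x * g⁻¹ = y := by
  obtain ⟨g, hg, hA⟩ := B.exists_g
  have h1 : g⁻¹ ∈ normalizer (A1 φ : Set G) := by
    apply mem_norm_of
    rintro _ ⟨u, hu, rfl⟩
    obtain ⟨w, hw, h⟩ := hA u hu
    exact ⟨w, hw, by rw [← h]; group⟩
  have h1' : g ∈ normalizer (A1 φ : Set G) := by
    have := (normalizer (A1 φ : Set G)).inv_mem h1
    rwa [inv_inv] at this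
  have h2 : g⁻¹ ∈ normalizer (R x φ : Set G) := by
    apply mem_norm_of
    intro r hr
    refine ⟨?_, ?_⟩
    · intro u hu
      obtain ⟨w, hw, h3⟩ := (mem_normalizer_iff.1 h1' (φ u)).1 ⟨u, hu, rfl⟩
      calc g⁻¹ * r * g⁻¹⁻¹ * φ u = g⁻¹ * (r * (g * φ u * g⁻¹)) * g := by group
        _ = g⁻¹ * (φ w * r) * g := by rw [h3, hr.1 w hw]
        _ = g⁻¹ * (g * φ u * g⁻¹ * r) * g := by rw [← h3]
        _ = φ u * (g⁻¹ * r * g⁻¹⁻¹) := by group
    · have h3 := B.act_R hr B.ymem (by decide +kernel) B.yx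
      obtain ⟨j, hj⟩ := B.exists_cls (d := r * y * r⁻¹)
        ((R x φ).mul_mem ((R x φ).mul_mem hr B.ymem) ((R x φ).inv_mem hr))
        ((isConj_iff.2 ⟨g, hg⟩ : IsConj x y).trans (isConj_iff.2 ⟨r, rfl⟩))
      have h4 := B.cls_act hj
      rw [h3] at h4
      have h5 : fi 1 = fi j := B.inj (mul_left_cancel h4)
      obtain ⟨t, ht, h6⟩ := fi_inj h5 ▸ hj
      have h6' : r * y * r⁻¹ = y * φ t := h6
      obtain ⟨w, hw, h7⟩ := hA t ht
      refine ⟨w, hw, ?_⟩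
      calc g⁻¹ * r * g⁻¹⁻¹ * x * (g⁻¹ * r * g⁻¹⁻¹)⁻¹ = g⁻¹ * (r * (g * x * g⁻¹) * r⁻¹) * g := by group
        _ = g⁻¹ * (y * φ t) * g := by rw [hg, h6']
        _ = (g⁻¹ * (g * x * g⁻¹) * g) * (g⁻¹ * φ t * g) := by rw [hg]; group
        _ = x * φ w := by rw [h7]; group
  refine ⟨g, ⟨?_, h1'⟩, hg⟩
  have := (normalizer (R x φ : Set G)).inv_mem h2
  rwa [inv_inv] at this

theorem psi_surj [Finite G] (B : BetaIn x φ y Y) : Function.Surjective B.psi := by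
  obtain ⟨g, hg, hx⟩ := B.exists_gH
  have h0 : B.psi ⟨g, hg⟩ 0 = 1 := by
    rw [psi_apply]
    apply B.tau_eq _ (cls_v 0)
    show cls x φ y (g * x * g⁻¹) 1
    rw [hx]; exact cls_v 1
  rw [← MonoidHom.range_eq_top]
  have hs : swap 1 2 * swap 2 3 ∈ B.psi.range := ⟨_, B.psi_ps⟩
  have he : swap 2 3 ∈ B.psi.range := ⟨_, B.psi_pe⟩
  have hg' : B.psi ⟨g, hg⟩ ∈ B.psi.range := ⟨_, rfl⟩
  have h3 : ∀ w ∈ S3L, w ∈ B.psi.range := by
    intro w hw
    rcases S3L_cases w hw with rfl | rfl | rfl | rfl | rfl | rfl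
    · exact one_mem _
    · exact hs
    · exact mul_mem hs hs
    · exact he
    · exact mul_mem hs he
    · exact mul_mem (mul_mem hs hs) he
  rw [eq_top_iff]
  intro q _
  rcases S4_gen _ h0 q with h | ⟨w1, hw1, w2, hw2, h⟩
  · exact h3 q h
  · rw [h]
    exact mul_mem (mul_mem (h3 _ hw1) hg') (h3 _ hw2)

end BetaIn

end Cfsg.Agent.OddHalf.D6.SixU.BetaEnd

end

-- merged: Cfsg.Agent.OddHalf.D6.SixU.BetaEnd4
section

/-!
# Case (B), the end of pattern beta, part 4: the count (ODD D6, `q = 9`, helper751)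
-/

set_option autoImplicit false

namespace Cfsg.Agent.OddHalf.D6.SixU.BetaEnd.BetaIn

open Subgroup Equiv
open Cfsg.Agent.OddHalf.D6.Six EndPerm EndFin EndTw Ends0

variable {G : Type*} [Group G] {x : G} {φ : Perm (Fin 6) →* G} {y Y : G}

/-- the elements of `H ∩ C(x)` -/
theorem stab_mem (B : BetaIn x φ y Y) {n : G} (hn : n ∈ HH x φ) (hx : n * x = x * n) :
    ∃ q ∈ P1, ∃ s ∈ PS, n = φ (q * s) ∨ n = x * φ (q * s) := by
  obtain ⟨p, hp⟩ := B.cx n hx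
  have key : ∀ u ∈ P1, p * u * p⁻¹ ∈ P1 := by
    intro u hu
    obtain ⟨w, hw, h⟩ := HH_A hn hu
    have h1 : φ (p * u * p⁻¹) = φ w := by
      rw [← h, map_mul, map_mul, map_inv]
      rcases hp with rfl | rfl
      · rfl
      · have h2 : x * (φ p * φ u * (φ p)⁻¹) = (φ p * φ u * (φ p)⁻¹) * x := by
          rw [← map_inv, ← map_mul, ← map_mul, B.comm]
        calc φ p * φ u * (φ p)⁻¹ = (φ p * φ u * (φ p)⁻¹) * x * x⁻¹ := by group
          _ = x * (φ p * φ u * (φ p)⁻¹) * x⁻¹ := by rw [h2]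
          _ = x * φ p * φ u * (x * φ p)⁻¹ := by group
    rw [B.inj h1]; exact hw
  obtain ⟨q, hq, s, hs, rfl⟩ := norm_P1 p (key pf (by decide +kernel)) (key pz (by decide +kernel))
    (key pa (by decide +kernel))
  exact ⟨q, hq, s, hs, hp⟩

theorem S_mem (B : BetaIn x φ y Y) {s : Perm (Fin 6)} (hs : s ∈ PS) : φ s ∈ HH x φ :=
  B.phi_mem (P1_S s hs) (P1_S' s hs)

theorem card_stab [Finite G] (B : BetaIn x φ y Y) :
    Nat.card (HH x φ ⊓ centralizer {x} : Subgroup G) = 96 := by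
  classical
  have hmem : ∀ (b : Bool) (p : Perm (Fin 6)), p ∈ N48 →
      (if b then x else 1) * φ p ∈ HH x φ ⊓ centralizer {x} := by
    intro b p hp
    obtain ⟨⟨q, s⟩, hqs, rfl⟩ := Finset.mem_image.1 hp
    obtain ⟨hq, hs⟩ := Finset.mem_product.1 hqs
    have h1 : φ (q * s) ∈ HH x φ := by
      rw [map_mul]; exact (HH x φ).mul_mem (B.R_le (B.amem hq)) (B.S_mem hs)
    have h2 : φ (q * s) ∈ centralizer ({x} : Set G) := mem_centralizer_singleton_iff.2 (B.comm _).symm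
    refine mul_mem ?_ ⟨h1, h2⟩
    cases b
    · simp only [Bool.false_eq_true, if_false]; exact one_mem _
    · simp only [if_true]
      exact ⟨B.R_le B.xmem, mem_centralizer_singleton_iff.2 rfl⟩
  let e : Bool × N48 ≃ (HH x φ ⊓ centralizer {x} : Subgroup G) := Equiv.ofBijective
    (fun b => ⟨(if b.1 then x else 1) * φ b.2, hmem b.1 b.2 b.2.2⟩) (by
    constructor
    · rintro ⟨b, p, hp⟩ ⟨c, q, hq⟩ h
      have h1 : (if b then x else 1) * φ p = (if c then x else 1) * φ q := congrArg Subtype.val h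
      cases b <;> cases c
      · simp only [Bool.false_eq_true, if_false, one_mul] at h1
        have := B.inj h1
        subst this; rfl
      · simp only [Bool.false_eq_true, if_false, one_mul, if_true] at h1
        exact absurd h1 (B.ne p q)
      · simp only [Bool.false_eq_true, if_false, one_mul, if_true] at h1
        exact absurd h1.symm (B.ne q p)
      · simp only [if_true] at h1
        have := B.mul_inj h1
        subst this; rfl
    · rintro ⟨n, hn, hx⟩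
      obtain ⟨q, hq, s, hs, h | h⟩ := B.stab_mem hn (mem_centralizer_singleton_iff.1 hx)
      · exact ⟨(false, ⟨q * s, Finset.mem_image.2 ⟨(q, s), Finset.mem_product.2 ⟨hq, hs⟩, rfl⟩⟩),
          Subtype.ext (by simp [h])⟩
      · exact ⟨(true, ⟨q * s, Finset.mem_image.2 ⟨(q, s), Finset.mem_product.2 ⟨hq, hs⟩, rfl⟩⟩),
          Subtype.ext (by simp [h])⟩)
  rw [← Nat.card_congr e, Nat.card_prod, Nat.card_eq_fintype_card, Nat.card_eq_fintype_card]
  simp [N48_card]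

/-- every translation is induced in `R` -/
theorem exists_rep (B : BetaIn x φ y Y) {u : Perm (Fin 6)} (hu : u ∈ P1) :
    ∃ r ∈ R x φ, r * x * r⁻¹ = x * φ u := by
  have hc : ∀ s w : Perm (Fin 6), (∀ u ∈ P1, s * u * s⁻¹ ∈ P1) → (∀ u ∈ P1, s⁻¹ * u * s ∈ P1) →
      (∃ r ∈ R x φ, r * x * r⁻¹ = x * φ w) → ∃ r ∈ R x φ, r * x * r⁻¹ = x * φ (s * w * s⁻¹) := by
    rintro s w h1 h2 ⟨r, hr, h3⟩
    exact ⟨_, B.norm_R h1 h2 hr, B.act_conj h3⟩
  have hc' : ∀ w : Perm (Fin 6), (∃ r ∈ R x φ, r * x * r⁻¹ = x * φ w) →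
      ∃ r ∈ R x φ, r * x * r⁻¹ = x * φ (ps⁻¹ * w * ps) := by
    intro w h
    have := hc ps⁻¹ w (by simpa using P1_s') (by simpa using P1_s) h
    rwa [inv_inv] at this
  have h1 : ∃ r ∈ R x φ, r * x * r⁻¹ = x * φ pf := ⟨y, B.ymem, B.yx⟩
  have h2 : ∃ r ∈ R x φ, r * x * r⁻¹ = x * φ pz := ⟨_, (R x φ).mul_mem B.ymem B.Ymem, B.yY_act⟩
  rcases P1_cases u hu with rfl | rfl | rfl | rfl | rfl | rfl | rfl | rfl
  · exact ⟨1, (R x φ).one_mem, by simp⟩
  · exact h1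
  · exact hc ps pf P1_s P1_s' h1
  · exact hc' pf h1
  · exact ⟨Y, B.Ymem, B.Yx⟩
  · exact h2
  · exact hc ps pz P1_s P1_s' h2
  · exact hc' pz h2

theorem orbit_eq [Finite G] (B : BetaIn x φ y Y) :
    {d : G | ∃ h ∈ HH x φ, h * x * h⁻¹ = d} = {d : G | ∃ i, cls x φ y d i} := by
  ext d
  constructor
  · rintro ⟨h, hh, rfl⟩
    exact B.conj_cls hh (cls_v 0)
  · rintro ⟨i, u, hu, rfl⟩
    obtain ⟨g, hg, hx⟩ := B.exists_gH
    have h0 : ∀ u ∈ P1, ∃ h ∈ HH x φ, h * x * h⁻¹ = x * φ u := by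
      intro u hu
      obtain ⟨r, hr, h⟩ := B.exists_rep hu
      exact ⟨r, B.R_le hr, h⟩
    have h1 : ∀ u ∈ P1, ∃ h ∈ HH x φ, h * x * h⁻¹ = y * φ u := by
      intro u hu
      obtain ⟨w, hw, h2⟩ := HH_A ((HH x φ).inv_mem hg) hu
      obtain ⟨r, hr, h⟩ := h0 w hw
      refine ⟨g * r, (HH x φ).mul_mem hg hr, ?_⟩
      calc g * r * x * (g * r)⁻¹ = g * (r * x * r⁻¹) * g⁻¹ := by group
        _ = g * x * g⁻¹ * (g * φ w * g⁻¹) := by rw [h]; group
        _ = y * φ u := by rw [hx, ← h2]; group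
    have hc : ∀ s : Perm (Fin 6), (∀ u ∈ P1, s * u * s⁻¹ ∈ P1) → (∀ u ∈ P1, s⁻¹ * u * s ∈ P1) →
        ∃ h ∈ HH x φ, h * x * h⁻¹ = φ s * y * (φ s)⁻¹ * φ u := by
      intro s hs hs'
      obtain ⟨h, hh, h2⟩ := h1 _ (hs' u hu)
      refine ⟨φ s * h, (HH x φ).mul_mem (B.phi_mem hs hs') hh, ?_⟩
      calc φ s * h * x * (φ s * h)⁻¹ = φ s * (h * x * h⁻¹) * (φ s)⁻¹ := by group
        _ = φ s * y * (φ s)⁻¹ * φ u := by rw [h2, map_mul, map_mul, map_inv]; group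
    fin_cases i
    · exact h0 u hu
    · exact h1 u hu
    · have := hc ps P1_s P1_s'
      rwa [← map_inv] at this
    · have := hc ps⁻¹ (by simpa using P1_s') (by simpa using P1_s)
      rwa [map_inv, inv_inv, ← map_inv] at this

theorem ncard_cls [Finite G] (B : BetaIn x φ y Y) : {d : G | ∃ i, cls x φ y d i}.ncard = 32 := by
  classical
  let f : Fin 4 × P1 → G := fun p => v x φ y p.1 * φ p.2
  have hf : Function.Injective f := by
    rintro ⟨i, u, hu⟩ ⟨j, w, hw⟩ h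
    have h' : v x φ y i * φ u = v x φ y j * φ w := h
    have hij : i = j := B.cls_unique (d := v x φ y i * φ u) ⟨u, hu, rfl⟩ ⟨w, hw, h'⟩
    subst hij
    have := B.inj (mul_left_cancel h')
    subst this; rfl
  have h1 : {d : G | ∃ i, cls x φ y d i} = Set.range f := by
    ext d
    constructor
    · rintro ⟨i, u, hu, rfl⟩
      exact ⟨(i, ⟨u, hu⟩), rfl⟩
    · rintro ⟨⟨i, u, hu⟩, rfl⟩
      exact ⟨i, u, hu, rfl⟩
  rw [h1, ← Nat.card_coe_set_eq, ← Nat.card_congr (Equiv.ofInjective f hf), Nat.card_prod,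
    Nat.card_eq_fintype_card, Nat.card_eq_fintype_card]
  simp [P1_card]

theorem card_HH [Finite G] (B : BetaIn x φ y Y) : Nat.card (HH x φ) = 3072 := by
  rw [Parity.card_orbit x (HH x φ), B.card_stab, B.orbit_eq, B.ncard_cls]

theorem psi_mul_R (B : BetaIn x φ y Y) {r n : G} (hr : r ∈ R x φ) (hn : n ∈ HH x φ) (h : r * n ∈ HH x φ) :
    B.psi ⟨r * n, h⟩ = B.psi ⟨n, hn⟩ := by
  have : (⟨r * n, h⟩ : HH x φ) = ⟨r, B.R_le hr⟩ * ⟨n, hn⟩ := rfl
  rw [this, map_mul, B.psi_R hr, one_mul]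

/-- the elements of `H` which act as `(2 3)` and in the same way as `r ∈ R` on `x` -/
theorem fibre_mem (B : BetaIn x φ y Y) {d r : G} (hd : d ∈ HH x φ) (hpsi : B.psi ⟨d, hd⟩ = swap 2 3)
    (hr : r ∈ R x φ) (h : r * x * r⁻¹ = d * x * d⁻¹) :
    ∃ q ∈ P1, d = r * φ (q * pe) ∨ d = r * (x * φ (q * pe)) := by
  have h1 : r⁻¹ * d ∈ HH x φ := (HH x φ).mul_mem ((HH x φ).inv_mem (B.R_le hr)) hd
  have h2 : r⁻¹ * d * x = x * (r⁻¹ * d) := by
    calc r⁻¹ * d * x = r⁻¹ * (d * x * d⁻¹) * d := by group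
      _ = x * (r⁻¹ * d) := by rw [← h]; group
  have h3 : B.psi ⟨r⁻¹ * d, h1⟩ = swap 2 3 := by
    rw [B.psi_mul_R ((R x φ).inv_mem hr) hd h1, hpsi]
  obtain ⟨q, hq, s, hs, h4⟩ := B.stab_mem h1 h2
  have h5 : B.psi ⟨φ s, B.S_mem hs⟩ = swap 2 3 := by
    rw [← h3]
    rcases h4 with h4 | h4
    · have h6 : φ q * φ s ∈ HH x φ := by rw [← map_mul, ← h4]; exact h1
      have h7 : (⟨r⁻¹ * d, h1⟩ : HH x φ) = ⟨φ q * φ s, h6⟩ := Subtype.ext (by
        show r⁻¹ * d = φ q * φ s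
        rw [h4, map_mul])
      rw [h7, B.psi_mul_R (B.amem hq) (B.S_mem hs) h6]
    · have h6 : (x * φ q) * φ s ∈ HH x φ := by rw [mul_assoc, ← map_mul, ← h4]; exact h1
      have h7 : (⟨r⁻¹ * d, h1⟩ : HH x φ) = ⟨(x * φ q) * φ s, h6⟩ := Subtype.ext (by
        show r⁻¹ * d = (x * φ q) * φ s
        rw [h4, map_mul, mul_assoc])
      rw [h7, B.psi_mul_R ((R x φ).mul_mem B.xmem (B.amem hq)) (B.S_mem hs) h6]
  have h6 : s = pe := by
    have e1 : B.psi ⟨φ ps, B.ps_mem⟩ = swap 1 2 * swap 2 3 := B.psi_ps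
    have e2 : B.psi ⟨φ pe, B.pe_mem⟩ = swap 2 3 := B.psi_pe
    have em : ∀ (a b : Perm (Fin 6)) (ha : φ a ∈ HH x φ) (hb : φ b ∈ HH x φ) (hab : φ (a * b) ∈ HH x φ),
        B.psi ⟨φ (a * b), hab⟩ = B.psi ⟨φ a, ha⟩ * B.psi ⟨φ b, hb⟩ := by
      intro a b ha hb hab
      rw [← map_mul]
      congr 1
      exact Subtype.ext (map_mul φ a b)
    have e3 : B.psi ⟨φ 1, B.S_mem (by decide +kernel)⟩ = 1 := by
      have : (⟨φ 1, B.S_mem (by decide +kernel)⟩ : HH x φ) = 1 := Subtype.ext (map_one φ)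
      rw [this, map_one]
    have e4 : B.psi ⟨φ (ps * ps), B.S_mem (by decide +kernel)⟩ =
        swap 1 2 * swap 2 3 * (swap 1 2 * swap 2 3) := by
      rw [em ps ps B.ps_mem B.ps_mem, e1]
    rcases PS_cases s hs with rfl | rfl | rfl | rfl | rfl | rfl
    · rw [e3] at h5; exact absurd h5 (by decide +kernel)
    · rw [e1] at h5; exact absurd h5 (by decide +kernel)
    · rw [e4] at h5; exact absurd h5 (by decide +kernel)
    · rfl
    · rw [em ps pe B.ps_mem B.pe_mem, e1, e2] at h5; exact absurd h5 (by decide +kernel)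
    · rw [em (ps * ps) pe (B.S_mem (by decide +kernel)) B.pe_mem, e4, e2] at h5
      exact absurd h5 (by decide +kernel)
  rw [h6] at h4
  refine ⟨q, hq, ?_⟩
  rcases h4 with h4 | h4
  · left; rw [← h4]; group
  · right; rw [← h4]; group

/-- the representatives of the cosets containing the conjugates acting as `(2 3)` -/
def wk (x y Y : G) : Fin 4 → G := ![x, y, Y * x, y * Y]

def ck : Fin 4 → Perm (Fin 6) := ![1, pf, pf * pz, pz]

theorem ck_inj : Function.Injective ck := by decide +kernel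

theorem wk_mem (B : BetaIn x φ y Y) (k : Fin 4) : wk x y Y k ∈ R x φ := by
  fin_cases k
  · exact B.xmem
  · exact B.ymem
  · exact (R x φ).mul_mem B.Ymem B.xmem
  · exact (R x φ).mul_mem B.ymem B.Ymem

theorem wk_act (B : BetaIn x φ y Y) (k : Fin 4) : wk x y Y k * x * (wk x y Y k)⁻¹ = x * φ (ck k) := by
  fin_cases k
  · show x * x * x⁻¹ = x * φ 1
    simp
  · exact B.yx
  · show Y * x * x * (Y * x)⁻¹ = x * φ (pf * pz)
    rw [← B.Yx]; group
  · exact B.yY_act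

theorem ncard_fibre [Finite G] (B : BetaIn x φ y Y) :
    {d : G | IsConj x d ∧ ∃ h : d ∈ HH x φ, B.psi ⟨d, h⟩ = swap 2 3}.ncard = 16 := by
  classical
  let f : Fin 4 × PZ → G := fun p => wk x y Y p.1 * φ (p.2 * pe)
  have hact : ∀ (k : Fin 4) (u : Perm (Fin 6)), (wk x y Y k * φ u) * x * (wk x y Y k * φ u)⁻¹ = x * φ (ck k) := by
    intro k u
    rw [← B.wk_act k]
    calc wk x y Y k * φ u * x * (wk x y Y k * φ u)⁻¹ = wk x y Y k * (φ u * x) * (φ u)⁻¹ * (wk x y Y k)⁻¹ := by group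
      _ = wk x y Y k * x * (wk x y Y k)⁻¹ := by rw [← B.comm]; group
  have hf : Function.Injective f := by
    rintro ⟨i, u, hu⟩ ⟨j, w, hw⟩ h
    have h' : wk x y Y i * φ (u * pe) = wk x y Y j * φ (w * pe) := h
    have hij : i = j := by
      have h1 := hact i (u * pe)
      rw [h', hact j] at h1
      exact (ck_inj (B.inj (mul_left_cancel h1))).symm
    subst hij
    have := mul_right_cancel (B.inj (mul_left_cancel h'))
    subst this; rfl
  have h1 : {d : G | IsConj x d ∧ ∃ h : d ∈ HH x φ, B.psi ⟨d, h⟩ = swap 2 3} = Set.range f := by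
    ext d
    constructor
    · rintro ⟨hc, hd, hpsi⟩
      -- the action on `x`
      have h0 : B.tau ⟨d, hd⟩ 0 = 0 := by
        have : B.psi ⟨d, hd⟩ 0 = 0 := by rw [hpsi]; decide +kernel
        rwa [psi_apply] at this
      have h1 := B.tau_spec ⟨d, hd⟩ 0
      rw [h0] at h1
      obtain ⟨u, hu, h2⟩ := h1
      have h2' : d * x * d⁻¹ = x * φ u := h2
      obtain ⟨r, hr, hrx⟩ := B.exists_rep hu
      obtain ⟨q, hq, h3⟩ := B.fibre_mem hd hpsi hr (by rw [hrx, h2'])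
      -- `u ∈ Z`
      have hdd : d * d = 1 := by
        obtain ⟨c, hc⟩ := isConj_iff.1 hc
        rw [← hc]
        calc c * x * c⁻¹ * (c * x * c⁻¹) = c * (x * x) * c⁻¹ := by group
          _ = 1 := by rw [B.xx]; group
      have hdu : d * φ u * d⁻¹ = φ (pe * u * pe⁻¹) := by
        have h5 : φ (q * pe) * φ u * (φ (q * pe))⁻¹ = φ (pe * u * pe⁻¹) := by
          rw [← map_mul, ← map_inv, ← map_mul]
          congr 1
          have h6 := P1_comm q hq _ (P1_e u hu)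
          calc q * pe * u * (q * pe)⁻¹ = q * (pe * u * pe⁻¹) * q⁻¹ := by group
            _ = pe * u * pe⁻¹ := by rw [h6]; group
        have h7 : r * φ (pe * u * pe⁻¹) * r⁻¹ = φ (pe * u * pe⁻¹) := by
          rw [hr.1 _ (P1_e u hu)]; group
        rcases h3 with h3 | h3
        · rw [h3]
          calc r * φ (q * pe) * φ u * (r * φ (q * pe))⁻¹ = r * (φ (q * pe) * φ u * (φ (q * pe))⁻¹) * r⁻¹ := by group
            _ = φ (pe * u * pe⁻¹) := by rw [h5, h7]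
        · rw [h3]
          calc r * (x * φ (q * pe)) * φ u * (r * (x * φ (q * pe)))⁻¹
              = r * (x * (φ (q * pe) * φ u * (φ (q * pe))⁻¹) * x⁻¹) * r⁻¹ := by group
            _ = r * φ (pe * u * pe⁻¹) * r⁻¹ := by rw [h5, B.comm]; group
            _ = φ (pe * u * pe⁻¹) := h7
      have huZ : u ∈ PZ := by
        apply e_PZ u hu
        have h5 : d * (d * x * d⁻¹) * d⁻¹ = x := by
          calc d * (d * x * d⁻¹) * d⁻¹ = (d * d) * x * (d * d)⁻¹ := by group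
            _ = x := by rw [hdd]; group
        have h6 : d * (d * x * d⁻¹) * d⁻¹ = x * φ (u * (pe * u * pe⁻¹)) := by
          rw [h2']
          calc d * (x * φ u) * d⁻¹ = (d * x * d⁻¹) * (d * φ u * d⁻¹) := by group
            _ = x * φ (u * (pe * u * pe⁻¹)) := by
              rw [h2', hdu, map_mul φ u (pe * u * pe⁻¹), mul_assoc]
        rw [h5] at h6
        have h7 : φ (u * (pe * u * pe⁻¹)) = φ 1 := by
          rw [map_one]; exact (mul_eq_left.1 h6.symm)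
        have h8 := B.inj h7
        calc pe * u * pe⁻¹ = (u * u) * (pe * u * pe⁻¹) := by rw [P1_sq u hu, one_mul]
          _ = u * (u * (pe * u * pe⁻¹)) := by group
          _ = u := by rw [h8, mul_one]
      have fin : ∀ r : G, r ∈ R x φ → r * x * r⁻¹ = x * φ u →
          ∃ q ∈ P1, d = r * φ (q * pe) ∨ d = r * (x * φ (q * pe)) :=
        fun r hr h => B.fibre_mem hd hpsi hr (by rw [h, h2'])
      rcases PZ_cases u huZ with rfl | rfl | rfl | rfl
      · obtain ⟨q, hq, h4 | h4⟩ := fin 1 (R x φ).one_mem (by simp)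
        · rw [one_mul] at h4
          exact absurd (h4 ▸ hc) (B.not_conj_phi _)
        · rw [one_mul] at h4
          refine ⟨(0, ⟨q, sq_PZ q hq ?_⟩), h4.symm⟩
          apply B.inj
          rw [map_mul, map_one]
          calc φ (q * pe) * φ (q * pe) = x * x * φ (q * pe) * φ (q * pe) := by rw [B.xx, one_mul]
            _ = x * (x * φ (q * pe)) * φ (q * pe) := by group
            _ = x * (φ (q * pe) * x) * φ (q * pe) := by rw [B.comm]
            _ = (x * φ (q * pe)) * (x * φ (q * pe)) := by group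
            _ = 1 := by rw [← h4, hdd]
      · obtain ⟨q, hq, h4 | h4⟩ := fin y B.ymem B.yx
        · exact ⟨(1, ⟨q, (B.t7 q hq).1 (h4 ▸ hc)⟩), h4.symm⟩
        · exact absurd (h4 ▸ hc) (B.t8 q hq)
      · obtain ⟨q, hq, h4 | h4⟩ := fin (y * Y) ((R x φ).mul_mem B.ymem B.Ymem) B.yY_act
        · exact ⟨(3, ⟨q, (B.t11 q hq).1 (h4 ▸ hc)⟩), h4.symm⟩
        · exact absurd (h4 ▸ hc) (B.t12 q hq)
      · obtain ⟨q, hq, h4 | h4⟩ := fin Y B.Ymem B.Yx
        · exact absurd (h4 ▸ hc) (B.t9 q hq)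
        · refine ⟨(2, ⟨q, (B.t10 q hq).1 (h4 ▸ hc)⟩), ?_⟩
          show Y * x * φ (q * pe) = d
          rw [h4, mul_assoc]
    · rintro ⟨⟨k, u, hu⟩, rfl⟩
      have hm : φ (u * pe) ∈ HH x φ := by
        rw [map_mul]; exact (HH x φ).mul_mem (B.R_le (B.amem (PZ_P1 u hu))) B.pe_mem
      refine ⟨?_, (HH x φ).mul_mem (B.R_le (B.wk_mem k)) hm, ?_⟩
      · show IsConj x (wk x y Y k * φ (u * pe))
        fin_cases k
        · exact B.conj_x_phi (sq_PZ' u hu)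
        · exact (B.t7 u (PZ_P1 u hu)).2 hu
        · show IsConj x (Y * x * φ (u * pe))
          rw [mul_assoc]; exact (B.t10 u (PZ_P1 u hu)).2 hu
        · exact (B.t11 u (PZ_P1 u hu)).2 hu
      · show B.psi ⟨wk x y Y k * φ (u * pe), _⟩ = swap 2 3
        rw [B.psi_mul_R (B.wk_mem k) hm]
        have h2 : φ u * φ pe ∈ HH x φ := by rw [← map_mul]; exact hm
        have h3 : (⟨φ (u * pe), hm⟩ : HH x φ) = ⟨φ u * φ pe, h2⟩ := Subtype.ext (map_mul φ u pe)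
        rw [h3, B.psi_mul_R (B.amem (PZ_P1 u hu)) B.pe_mem, B.psi_pe]
  rw [h1, ← Nat.card_coe_set_eq, ← Nat.card_congr (Equiv.ofInjective f hf), Nat.card_prod,
    Nat.card_eq_fintype_card, Nat.card_eq_fintype_card]
  simp [PZ_card]

/-- **pattern beta is impossible** -/
theorem false [Finite G] (hG : ∀ (m : G →* ℤˣ) (g : G), m g = 1) (B : BetaIn x φ y Y) : False := by
  have h := even_of_four hG B.xx (HH x φ) B.psi B.psi_surj B.ncard_fibre (k := 45)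
    (by rw [B.card, B.card_HH])
  revert h; decide

end Cfsg.Agent.OddHalf.D6.SixU.BetaEnd.BetaIn

end
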