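import Cfsg.Agent.OddHalf.D6.SixU.YDefs
import Cfsg.Agent.OddHalf.D6.SixU.YExist
import Cfsg.Agent.OddHalf.D6.SixU.Ends0
import Cfsg.Agent.OddHalf.D6.Six.Parity

-- merged: Cfsg.Agent.OddHalf.D6.SixU.Model
section

/-!
# ODD D6, `q = 9`, case C3a (B): the explicit model of `T₁` (helper680)

`Md c d r s`: a group of order 128, the multiplication table of `T₁ = ⟨x, y, Y, φ(U)⟩`; `SixY.psi : Md c d r s →* G`.
-/

set_option autoImplicit false

namespace Cfsg.Agent.OddHalf.D6.SixU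

open Subgroup Equiv

/-- the `pf`-part of the cocycle -/
def kf (c d r : ZMod 2) (u v : Code) : ZMod 2 :=
  u.2.1 * v.1 + u.2.2.1 * v.1 + r * u.2.2.1 * v.2.1 + c * u.2.2.2.1 * v.2.1 + d * u.2.2.2.2 * v.2.2.1

/-- the `pz`-part of the cocycle -/
def kz (d s : ZMod 2) (u v : Code) : ZMod 2 :=
  u.2.2.1 * v.1 + s * u.2.2.1 * v.2.1 + d * u.2.2.2.2 * v.2.2.1 + u.2.2.2.2 * v.2.2.2.1

theorem kf_add_left (c d r : ZMod 2) (u u' v : Code) : kf c d r (u + u') v = kf c d r u v + kf c d r u' v := by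
  simp only [kf, Prod.fst_add, Prod.snd_add]; ring

theorem kf_add_right (c d r : ZMod 2) (u v v' : Code) : kf c d r u (v + v') = kf c d r u v + kf c d r u v' := by
  simp only [kf, Prod.fst_add, Prod.snd_add]; ring

theorem kz_add_left (d s : ZMod 2) (u u' v : Code) : kz d s (u + u') v = kz d s u v + kz d s u' v := by
  simp only [kz, Prod.fst_add, Prod.snd_add]; ring

theorem kz_add_right (d s : ZMod 2) (u v v' : Code) : kz d s u (v + v') = kz d s u v + kz d s u v' := by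
  simp only [kz, Prod.fst_add, Prod.snd_add]; ring

theorem kf_zero_left (c d r : ZMod 2) (v : Code) : kf c d r 0 v = 0 := by simp [kf]

theorem kf_zero_right (c d r : ZMod 2) (v : Code) : kf c d r v 0 = 0 := by simp [kf]

theorem kz_zero_left (d s : ZMod 2) (v : Code) : kz d s 0 v = 0 := by simp [kz]

theorem kz_zero_right (d s : ZMod 2) (v : Code) : kz d s v 0 = 0 := by simp [kz]

/-- the model -/
@[ext] structure Md (c d r s : ZMod 2) where
  v : Code
  f : ZMod 2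
  z : ZMod 2

namespace Md

variable {c d r s : ZMod 2}

instance : Mul (Md c d r s) := ⟨fun m n => ⟨m.v + n.v, m.f + n.f + kf c d r m.v n.v, m.z + n.z + kz d s m.v n.v⟩⟩

instance : One (Md c d r s) := ⟨⟨0, 0, 0⟩⟩

instance : Inv (Md c d r s) := ⟨fun m => ⟨m.v, m.f + kf c d r m.v m.v, m.z + kz d s m.v m.v⟩⟩

theorem mul_v (m n : Md c d r s) : (m * n).v = m.v + n.v := rfl
theorem mul_f (m n : Md c d r s) : (m * n).f = m.f + n.f + kf c d r m.v n.v := rfl
theorem mul_z (m n : Md c d r s) : (m * n).z = m.z + n.z + kz d s m.v n.v := rfl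
theorem one_v : (1 : Md c d r s).v = 0 := rfl
theorem one_f : (1 : Md c d r s).f = 0 := rfl
theorem one_z : (1 : Md c d r s).z = 0 := rfl
theorem inv_v (m : Md c d r s) : (m⁻¹).v = m.v := rfl
theorem inv_f (m : Md c d r s) : (m⁻¹).f = m.f + kf c d r m.v m.v := rfl
theorem inv_z (m : Md c d r s) : (m⁻¹).z = m.z + kz d s m.v m.v := rfl

theorem code_add_self (v : Code) : v + v = 0 := by
  revert v; decide +kernel

instance : Group (Md c d r s) where
  mul_assoc m n k := by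
    ext1
    · simp only [mul_v]; ring
    · simp only [mul_v, mul_f, kf_add_left, kf_add_right]; ring
    · simp only [mul_v, mul_z, kz_add_left, kz_add_right]; ring
  one_mul m := by
    ext1
    · simp only [mul_v, one_v, zero_add]
    · simp only [mul_f, one_f, one_v, kf_zero_left, zero_add, add_zero]
    · simp only [mul_z, one_z, one_v, kz_zero_left, zero_add, add_zero]
  mul_one m := by
    ext1
    · simp only [mul_v, one_v, add_zero]
    · simp only [mul_f, one_f, one_v, kf_zero_right, add_zero]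
    · simp only [mul_z, one_z, one_v, kz_zero_right, add_zero]
  inv_mul_cancel m := by
    ext1
    · simp only [mul_v, inv_v, one_v, code_add_self]
    · simp only [mul_f, inv_f, inv_v, one_f]
      generalize kf c d r m.v m.v = k
      generalize m.f = l
      revert k l; decide
    · simp only [mul_z, inv_z, inv_v, one_z]
      generalize kz d s m.v m.v = k
      generalize m.z = l
      revert k l; decide

/-- the underlying type -/
def equiv (c d r s : ZMod 2) : Md c d r s ≃ Code × ZMod 2 × ZMod 2 where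
  toFun m := ⟨m.v, m.f, m.z⟩
  invFun p := ⟨p.1, p.2.1, p.2.2⟩
  left_inv _ := rfl
  right_inv _ := rfl

instance : Finite (Md c d r s) := Finite.of_equiv _ (equiv c d r s).symm

theorem card : Nat.card (Md c d r s) = 128 := by
  rw [Nat.card_congr (equiv c d r s), Nat.card_eq_fintype_card]
  rfl

end Md

variable {G : Type*} [Group G]

theorem pw_add_of {M : Type*} [Monoid M] {g : M} (h : g * g = 1) (i j : ZMod 2) : pw g i * pw g j = pw g (i + j) := by
  rcases zmod2 i with rfl | rfl <;> rcases zmod2 j with rfl | rfl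
  · rw [pw_zero, mul_one, add_zero, pw_zero]
  · rw [pw_zero, pw_one, one_mul, zero_add, pw_one]
  · rw [pw_zero, pw_one, mul_one, add_zero, pw_one]
  · rw [pw_one, h]; rfl

theorem pu_zero : pu 0 0 0 0 = 1 := by decide +kernel

theorem pw_pf (i : ZMod 2) : pw pf i = pu 0 0 i 0 := by
  rcases zmod2 i with rfl | rfl <;> decide +kernel

theorem pu_split : ∀ a e f z : ZMod 2, pu a e f z = pw pa a * pw pe e * zz f z := by decide +kernel

namespace SixY

variable {x : G} {φ : P6 →* G} {y Y : G} {c d r s : ZMod 2}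

theorem comm_pw {g k : G} (h : g * k = k * g) (i : ZMod 2) : g * pw k i = pw k i * g := by
  rcases zmod2 i with rfl | rfl
  · rw [pw_zero, mul_one, one_mul]
  · exact h

theorem phi_pw (u : P6) (i : ZMod 2) : φ (pw u i) = pw (φ u) i := by
  rcases zmod2 i with rfl | rfl
  · rw [pw_zero, pw_zero, map_one]
  · rw [pw_one, pw_one]

theorem y_zz (H : SixY x φ y Y c d r s) (f z : ZMod 2) : y * φ (zz f z) = φ (zz f z) * y := by
  rw [zz, map_mul, phi_pw, phi_pw, ← mul_assoc, comm_pw H.yf, mul_assoc, comm_pw H.yz, mul_assoc]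

theorem Y_zz (H : SixY x φ y Y c d r s) (f z : ZMod 2) : Y * φ (zz f z) = φ (zz f z) * Y := by
  rw [zz, map_mul, phi_pw, phi_pw, ← mul_assoc, comm_pw H.Yf, mul_assoc, comm_pw H.Yz, mul_assoc]

theorem pu_y_aux : ∀ a e f z c : ZMod 2, pw (pa * pw pf c) a * pw pe e * zz f z = pu a e (f + c * a) z := by
  decide +kernel

theorem pu_Y_aux : ∀ a e f z d : ZMod 2, pw pa a * pw (pe * pw ph d) e * zz f z = pu a e (f + d * e) (z + d * e) := by
  decide +kernel

theorem y_inv (H : SixY x φ y Y c d r s) : y⁻¹ = y := inv_eq_of_mul_eq_one_left H.yy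

theorem Y_inv (H : SixY x φ y Y c d r s) : Y⁻¹ = Y := inv_eq_of_mul_eq_one_left H.YY

theorem pu_y (H : SixY x φ y Y c d r s) (a e f z : ZMod 2) :
    φ (pu a e f z) * y = y * φ (pu a e (f + c * a) z) := by
  have h1 : y * pw (φ pa) a = pw (φ (pa * pw pf c)) a * y := by
    rcases zmod2 a with rfl | rfl
    · rw [pw_zero, pw_zero, mul_one, one_mul]
    · rw [pw_one, pw_one, ← H.ya]; group
  have h2 : y * φ (pu a e f z) = φ (pu a e (f + c * a) z) * y := by
    rw [← pu_y_aux, pu_split, map_mul, map_mul, map_mul, map_mul, phi_pw, phi_pw, phi_pw]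
    calc y * (pw (φ pa) a * pw (φ pe) e * φ (zz f z)) = y * pw (φ pa) a * pw (φ pe) e * φ (zz f z) := by group
      _ = pw (φ (pa * pw pf c)) a * (y * pw (φ pe) e) * φ (zz f z) := by rw [h1]; group
      _ = pw (φ (pa * pw pf c)) a * pw (φ pe) e * (y * φ (zz f z)) := by rw [comm_pw H.ye]; group
      _ = pw (φ (pa * pw pf c)) a * pw (φ pe) e * φ (zz f z) * y := by rw [H.y_zz]; group
  calc φ (pu a e f z) * y = (y * y) * φ (pu a e f z) * y := by rw [H.yy, one_mul]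
    _ = y * (y * φ (pu a e f z)) * y := by group
    _ = y * φ (pu a e (f + c * a) z) * (y * y) := by rw [h2]; group
    _ = y * φ (pu a e (f + c * a) z) := by rw [H.yy, mul_one]

theorem pu_Y (H : SixY x φ y Y c d r s) (a e f z : ZMod 2) :
    φ (pu a e f z) * Y = Y * φ (pu a e (f + d * e) (z + d * e)) := by
  have h1 : Y * pw (φ pe) e = pw (φ (pe * pw ph d)) e * Y := by
    rcases zmod2 e with rfl | rfl
    · rw [pw_zero, pw_zero, mul_one, one_mul]
    · rw [pw_one, pw_one, ← H.Ye]; group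
  have h2 : Y * φ (pu a e f z) = φ (pu a e (f + d * e) (z + d * e)) * Y := by
    rw [← pu_Y_aux, pu_split, map_mul, map_mul, map_mul, map_mul, phi_pw, phi_pw, phi_pw]
    calc Y * (pw (φ pa) a * pw (φ pe) e * φ (zz f z)) = Y * pw (φ pa) a * pw (φ pe) e * φ (zz f z) := by group
      _ = pw (φ pa) a * (Y * pw (φ pe) e) * φ (zz f z) := by rw [comm_pw H.Ya]; group
      _ = pw (φ pa) a * pw (φ (pe * pw ph d)) e * (Y * φ (zz f z)) := by rw [h1]; group
      _ = pw (φ pa) a * pw (φ (pe * pw ph d)) e * φ (zz f z) * Y := by rw [H.Y_zz]; group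
  calc φ (pu a e f z) * Y = (Y * Y) * φ (pu a e f z) * Y := by rw [H.YY, one_mul]
    _ = Y * (Y * φ (pu a e f z)) * Y := by group
    _ = Y * φ (pu a e (f + d * e) (z + d * e)) * (Y * Y) := by rw [h2]; group
    _ = Y * φ (pu a e (f + d * e) (z + d * e)) := by rw [H.YY, mul_one]

theorem pu_pw_x (H : SixY x φ y Y c d r s) (u : P6) (i : ZMod 2) : φ u * pw x i = pw x i * φ u :=
  comm_pw (H.comm' u) i

theorem pu_pw_y (H : SixY x φ y Y c d r s) (a e f z j : ZMod 2) :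
    φ (pu a e f z) * pw y j = pw y j * φ (pu a e (f + c * a * j) z) := by
  rcases zmod2 j with rfl | rfl
  · rw [pw_zero, mul_zero, add_zero, one_mul, mul_one]
  · rw [pw_one, mul_one, H.pu_y]

theorem pu_pw_Y (H : SixY x φ y Y c d r s) (a e f z k : ZMod 2) :
    φ (pu a e f z) * pw Y k = pw Y k * φ (pu a e (f + d * e * k) (z + d * e * k)) := by
  rcases zmod2 k with rfl | rfl
  · rw [pw_zero, mul_zero, add_zero, add_zero, one_mul, mul_one]
  · rw [pw_one, mul_one, H.pu_Y]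

theorem zz_pw_y (H : SixY x φ y Y c d r s) (f z j : ZMod 2) :
    φ (pu 0 0 f z) * pw y j = pw y j * φ (pu 0 0 f z) := by
  rw [H.pu_pw_y, mul_zero, zero_mul, add_zero]

theorem zz_pw_Y (H : SixY x φ y Y c d r s) (f z k : ZMod 2) :
    φ (pu 0 0 f z) * pw Y k = pw Y k * φ (pu 0 0 f z) := by
  rw [H.pu_pw_Y, mul_zero, zero_mul, add_zero, add_zero]

theorem Y_x (H : SixY x φ y Y c d r s) (k i : ZMod 2) :
    pw Y k * pw x i = pw x i * pw Y k * φ (pu 0 0 (k * i) (k * i)) := by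
  rcases zmod2 k with rfl | rfl
  · rw [pw_zero, zero_mul, pu_zero, map_one, one_mul, mul_one, mul_one]
  rcases zmod2 i with rfl | rfl
  · rw [pw_zero, mul_zero, pu_zero, map_one, one_mul, mul_one]
  have h : pu 0 0 (1 * 1) (1 * 1) = ph := by decide +kernel
  rw [pw_one, pw_one, h]
  have h2 : Y * x = x * φ ph * Y := by rw [← H.Yx]; group
  have h3 : Y * φ ph = φ ph * Y := by
    have := H.Y_zz 1 1
    have h4 : zz 1 1 = ph := by decide +kernel
    rwa [h4] at this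
  rw [h2, mul_assoc, mul_assoc, h3]

theorem y_x (H : SixY x φ y Y c d r s) (j i : ZMod 2) :
    pw y j * pw x i = pw x i * pw y j * φ (pu 0 0 (j * i) 0) := by
  rcases zmod2 j with rfl | rfl
  · rw [pw_zero, zero_mul, pu_zero, map_one, one_mul, mul_one, mul_one]
  rcases zmod2 i with rfl | rfl
  · rw [pw_zero, mul_zero, pu_zero, map_one, one_mul, mul_one]
  have h : pu 0 0 (1 * 1) 0 = pf := by decide +kernel
  rw [pw_one, pw_one, h]
  have h2 : y * x = x * φ pf * y := by rw [← H.yx]; group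
  rw [h2, mul_assoc, mul_assoc, H.yf]

theorem Y_y (H : SixY x φ y Y c d r s) (k j : ZMod 2) :
    pw Y k * pw y j = pw y j * pw Y k * φ (pu 0 0 (r * k * j) (s * k * j)) := by
  rcases zmod2 k with rfl | rfl
  · rw [pw_zero, mul_zero, mul_zero, zero_mul, pu_zero, map_one, one_mul, mul_one, mul_one]
  rcases zmod2 j with rfl | rfl
  · rw [pw_zero, mul_zero, mul_zero, pu_zero, map_one, one_mul, mul_one]
  rw [pw_one, pw_one, mul_one, mul_one, mul_one, mul_one, ← zz_eq_pu, H.yY, mul_assoc (Y * y), ← map_mul, zz_sq,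
    map_one, mul_one]

/-- THE MULTIPLICATION TABLE OF `T₁` -/
theorem elt_mul (H : SixY x φ y Y c d r s) (v : Code) (f z : ZMod 2) (v' : Code) (f' z' : ZMod 2) :
    elt x φ y Y v f z * elt x φ y Y v' f' z' =
      elt x φ y Y (v + v') (f + f' + kf c d r v v') (z + z' + kz d s v v') := by
  obtain ⟨i, j, k, a, e⟩ := v
  obtain ⟨i', j', k', a', e'⟩ := v'
  simp only [elt, kf, kz, Prod.mk_add_mk]
  calc pw x i * pw y j * pw Y k * φ (pu a e f z) * (pw x i' * pw y j' * pw Y k' * φ (pu a' e' f' z'))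
      = pw x i * pw y j * pw Y k * (φ (pu a e f z) * pw x i') * pw y j' * pw Y k' * φ (pu a' e' f' z') := by group
    _ = pw x i * pw y j * (pw Y k * pw x i') * (φ (pu a e f z) * pw y j') * pw Y k' * φ (pu a' e' f' z') := by
        rw [H.pu_pw_x]; group
    _ = pw x i * pw y j * (pw x i' * pw Y k * φ (pu 0 0 (k * i') (k * i'))) *
          (pw y j' * φ (pu a e (f + c * a * j') z)) * pw Y k' * φ (pu a' e' f' z') := by
        rw [H.Y_x, H.pu_pw_y]
    _ = pw x i * (pw y j * pw x i') * pw Y k * (φ (pu 0 0 (k * i') (k * i')) * pw y j') *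
          (φ (pu a e (f + c * a * j') z) * pw Y k') * φ (pu a' e' f' z') := by group
    _ = pw x i * (pw x i' * pw y j * φ (pu 0 0 (j * i') 0)) * pw Y k * (pw y j' * φ (pu 0 0 (k * i') (k * i'))) *
          (pw Y k' * φ (pu a e (f + c * a * j' + d * e * k') (z + d * e * k'))) * φ (pu a' e' f' z') := by
        rw [H.y_x, H.zz_pw_y, H.pu_pw_Y]
    _ = (pw x i * pw x i') * pw y j * (φ (pu 0 0 (j * i') 0) * pw Y k) * pw y j' *
          (φ (pu 0 0 (k * i') (k * i')) * pw Y k') *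
          φ (pu a e (f + c * a * j' + d * e * k') (z + d * e * k')) * φ (pu a' e' f' z') := by group
    _ = pw x (i + i') * pw y j * (pw Y k * φ (pu 0 0 (j * i') 0)) * pw y j' *
          (pw Y k' * φ (pu 0 0 (k * i') (k * i'))) *
          φ (pu a e (f + c * a * j' + d * e * k') (z + d * e * k')) * φ (pu a' e' f' z') := by
        rw [H.zz_pw_Y, H.zz_pw_Y, pw_add_of H.xx]
    _ = pw x (i + i') * pw y j * pw Y k * (φ (pu 0 0 (j * i') 0) * pw y j') * pw Y k' *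
          φ (pu 0 0 (k * i') (k * i')) *
          φ (pu a e (f + c * a * j' + d * e * k') (z + d * e * k')) * φ (pu a' e' f' z') := by group
    _ = pw x (i + i') * pw y j * (pw Y k * pw y j') * (φ (pu 0 0 (j * i') 0) * pw Y k') *
          φ (pu 0 0 (k * i') (k * i')) *
          φ (pu a e (f + c * a * j' + d * e * k') (z + d * e * k')) * φ (pu a' e' f' z') := by
        rw [H.zz_pw_y]; group
    _ = pw x (i + i') * pw y j * (pw y j' * pw Y k * φ (pu 0 0 (r * k * j') (s * k * j'))) *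
          (pw Y k' * φ (pu 0 0 (j * i') 0)) * φ (pu 0 0 (k * i') (k * i')) *
          φ (pu a e (f + c * a * j' + d * e * k') (z + d * e * k')) * φ (pu a' e' f' z') := by
        rw [H.Y_y, H.zz_pw_Y]
    _ = pw x (i + i') * (pw y j * pw y j') * pw Y k * (φ (pu 0 0 (r * k * j') (s * k * j')) * pw Y k') *
          φ (pu 0 0 (j * i') 0) * φ (pu 0 0 (k * i') (k * i')) *
          φ (pu a e (f + c * a * j' + d * e * k') (z + d * e * k')) * φ (pu a' e' f' z') := by group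
    _ = pw x (i + i') * pw y (j + j') * pw Y k * (pw Y k' * φ (pu 0 0 (r * k * j') (s * k * j'))) *
          φ (pu 0 0 (j * i') 0) * φ (pu 0 0 (k * i') (k * i')) *
          φ (pu a e (f + c * a * j' + d * e * k') (z + d * e * k')) * φ (pu a' e' f' z') := by
        rw [H.zz_pw_Y, pw_add_of H.yy]
    _ = pw x (i + i') * pw y (j + j') * (pw Y k * pw Y k') * (φ (pu 0 0 (r * k * j') (s * k * j')) *
          φ (pu 0 0 (j * i') 0) * φ (pu 0 0 (k * i') (k * i')) *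
          φ (pu a e (f + c * a * j' + d * e * k') (z + d * e * k')) * φ (pu a' e' f' z')) := by group
    _ = pw x (i + i') * pw y (j + j') * pw Y (k + k') * φ (pu (a + a') (e + e')
          (f + f' + (j * i' + k * i' + r * k * j' + c * a * j' + d * e * k'))
          (z + z' + (k * i' + s * k * j' + d * e * k' + e * a'))) := by
        rw [pw_add_of H.YY]
        congr 1
        rw [← map_mul, ← map_mul, ← map_mul, ← map_mul, pu_mul, pu_mul, pu_mul, pu_mul]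
        congr 2 <;> ring

/-- the homomorphism onto `T₁` -/
def psi (H : SixY x φ y Y c d r s) : Md c d r s →* G where
  toFun m := elt x φ y Y m.v m.f m.z
  map_one' := by
    show elt x φ y Y 0 0 0 = 1
    simp [elt, pu_zero]
  map_mul' m n := (H.elt_mul m.v m.f m.z n.v n.f n.z).symm

theorem psi_apply (H : SixY x φ y Y c d r s) (m : Md c d r s) : H.psi m = elt x φ y Y m.v m.f m.z := rfl

theorem psi_inj (H : SixY x φ y Y c d r s) : Function.Injective H.psi := by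
  rw [injective_iff_map_eq_one]
  rintro ⟨⟨i, j, k, a, e⟩, f, z⟩ h
  rw [psi_apply] at h
  simp only [elt] at h
  -- conjugate `x`
  have h1 : pw y j * pw Y k = (pw x i)⁻¹ * (φ (pu a e f z))⁻¹ := by
    calc pw y j * pw Y k = (pw x i)⁻¹ * (pw x i * pw y j * pw Y k * φ (pu a e f z)) * (φ (pu a e f z))⁻¹ := by
          group
      _ = (pw x i)⁻¹ * (φ (pu a e f z))⁻¹ := by rw [h, mul_one]
  have h2 : x * (pw y j * pw Y k) = (pw y j * pw Y k) * x := by
    rw [h1]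
    have e1 : x * (pw x i)⁻¹ = (pw x i)⁻¹ * x := by
      rcases zmod2 i with rfl | rfl
      · simp
      · simp
    have e2 : x * (φ (pu a e f z))⁻¹ = (φ (pu a e f z))⁻¹ * x := by rw [← map_inv, H.comm]
    rw [← mul_assoc, e1, mul_assoc, e2, mul_assoc]
  have h3 : (pw y j * pw Y k) * x = x * (pw y j * pw Y k) * φ (pu 0 0 (j + k) k) := by
    have e1 := H.Y_x k 1
    have e2 := H.y_x j 1
    rw [pw_one, mul_one] at e1 e2
    calc (pw y j * pw Y k) * x = pw y j * (pw Y k * x) := by group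
      _ = (pw y j * x) * pw Y k * φ (pu 0 0 k k) := by rw [e1]; group
      _ = x * pw y j * (φ (pu 0 0 j 0) * pw Y k) * φ (pu 0 0 k k) := by rw [e2]; group
      _ = x * (pw y j * pw Y k) * (φ (pu 0 0 j 0) * φ (pu 0 0 k k)) := by rw [H.zz_pw_Y]; group
      _ = x * (pw y j * pw Y k) * φ (pu 0 0 (j + k) k) := by
          rw [← map_mul, pu_mul, zero_mul, add_zero, add_zero, zero_add]
  have h4 : φ (pu 0 0 (j + k) k) = 1 := by
    rw [h2] at h3
    exact (mul_eq_left.1 h3.symm)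
  have h5 := H.phi_eq_one h4
  rw [← pu_zero] at h5
  obtain ⟨-, -, h6, h7⟩ := pu_inj _ _ _ _ _ _ _ _ h5
  subst h7
  rw [add_zero] at h6
  subst h6
  simp only [pw_zero, mul_one] at h
  rcases zmod2 i with rfl | rfl
  · rw [pw_zero, one_mul] at h
    have h5 := H.phi_eq_one h
    rw [← pu_zero] at h5
    obtain ⟨rfl, rfl, rfl, rfl⟩ := pu_inj _ _ _ _ _ _ _ _ h5
    rfl
  · exfalso
    rw [pw_one] at h
    apply H.xne 1 (pu a e f z)
    rw [h, map_one]

end SixY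

end Cfsg.Agent.OddHalf.D6.SixU

end

-- merged: Cfsg.Agent.OddHalf.D6.SixU.Tab
section

/-!
# ODD D6, `q = 9`, case C3a (B): the constraints for the table of `D` on `T₁` (helper680)
-/

set_option autoImplicit false

namespace Cfsg.Agent.OddHalf.D6.SixU

open Subgroup Equiv

/-- the codes commute -/
def com (c d r s : ZMod 2) (u v : Code) : Prop := kf c d r u v = kf c d r v u ∧ kz d s u v = kz d s v u

instance (c d r s : ZMod 2) (u v : Code) : Decidable (com c d r s u v) := by unfold com; infer_instance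

/-- a linear functional -/
def dot (l v : Code) : ZMod 2 :=
  l.1 * v.1 + l.2.1 * v.2.1 + l.2.2.1 * v.2.2.1 + l.2.2.2.1 * v.2.2.2.1 + l.2.2.2.2 * v.2.2.2.2

theorem dot_add (l u v : Code) : dot l (u + v) = dot l u + dot l v := by
  simp only [dot, Prod.fst_add, Prod.snd_add]; ring

/-- the constraints -/
structure Tab (c d r s : ZMod 2) (b : Code → Bool) : Prop where
  hx : b (1, 0, 0, 0, 0) = true
  hxa : b (1, 0, 0, 1, 0) = true
  hxe : b (1, 0, 0, 0, 1) = true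
  ha : b (0, 0, 0, 1, 0) = false
  he : b (0, 0, 0, 0, 1) = false
  h0 : b 0 = false
  sqf : ∀ v, kf c d r v v ≠ 0 → b v = false
  sqz : ∀ v, kz d s v v ≠ 0 → b v = false
  ext : ∀ v, 8 < Fintype.card {u // com c d r s v u} → b v = false
  clean : ∀ u v, com c d r s u v → kf c d r v v = 0 → kz d s v v = 0 → v ≠ 0 → v ≠ u → b u = true →
    b v = !b (u + v)
  par : ∀ l : Code, Even (Finset.univ.filter (fun v => b v = true ∧ dot l v = 1)).card

/-- the xor over a list -/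
def xs (b : Code → Bool) (l : Code) : List Code → Bool
  | [] => false
  | v :: L => if dot l v = 1 then xor (b v) (xs b l L) else xs b l L

theorem xs_eq (b : Code → Bool) (l : Code) (L : List Code) :
    xs b l L = decide (Odd (L.filter (fun v => decide (b v = true ∧ dot l v = 1))).length) := by
  induction L with
  | nil => rfl
  | cons v L ih =>
    rw [xs, List.filter_cons, ih]
    by_cases h : dot l v = 1
    · rw [if_pos h]
      cases hb : b v
      · rw [if_neg (by simp), Bool.false_xor]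
      · rw [if_pos (by simp [h]), List.length_cons, Bool.true_xor]
        simp only [Nat.odd_add_one, decide_not]
    · rw [if_neg h, if_neg (by simp [h])]

theorem Tab.xor_list {c d r s : ZMod 2} {b : Code → Bool} (h : Tab c d r s b) (l : Code) (L : List Code)
    (hn : L.Nodup) (hL : ∀ v, b v = true → v ∈ L) : xs b l L = false := by
  rw [xs_eq, decide_eq_false_iff_not, Nat.not_odd_iff_even]
  have h1 := h.par l
  have h2 : Finset.univ.filter (fun v => b v = true ∧ dot l v = 1) =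
      (L.filter (fun v => decide (b v = true ∧ dot l v = 1))).toFinset := by
    ext v
    simp only [Finset.mem_filter, Finset.mem_univ, true_and, List.mem_toFinset, List.mem_filter,
      decide_eq_true_eq]
    exact ⟨fun h => ⟨hL v h.1, h⟩, fun h => h.2⟩
  rw [h2, List.toFinset_card_of_nodup (hn.filter _)] at h1
  exact h1

variable {G : Type*} [Group G]

namespace SixY

variable {x : G} {φ : P6 →* G} {y Y : G} {c d r s : ZMod 2}

theorem isPGroup_Md : IsPGroup 2 (Md c d r s) := IsPGroup.of_card (n := 7) (by rw [Md.card]; norm_num)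

theorem z2_add_self (i : ZMod 2) : i + i = 0 := by revert i; decide

/-- an element of `D ∩ T₁` has at most `32` commuting elements in `T₁` -/
theorem card_com [Finite G] (H : SixY x φ y Y c d r s) {v : Code} {f z : ZMod 2}
    (h : IsConj x (elt x φ y Y v f z)) : Fintype.card {u // com c d r s v u} ≤ 8 := by
  let m0 : Md c d r s := ⟨v, f, z⟩
  let P : Subgroup (Md c d r s) := centralizer {m0}
  have hP : IsPGroup 2 (P.map H.psi) := (isPGroup_Md.to_subgroup P).map _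
  have h1 : ∀ p ∈ P.map H.psi, p * elt x φ y Y v f z = elt x φ y Y v f z * p := by
    rintro _ ⟨m, hm, rfl⟩
    have h2 : m * m0 = m0 * m := mem_centralizer_singleton_iff.1 hm
    have h3 := congrArg H.psi h2
    rw [map_mul, map_mul] at h3
    exact h3
  have h2 := H.card_le hP h h1
  rw [← Nat.card_congr (P.equivMapOfInjective _ H.psi_inj).toEquiv] at h2
  have e : P ≃ {u // com c d r s v u} × ZMod 2 × ZMod 2 :=
    { toFun := fun m => ⟨⟨m.1.v, by
        have h3 : m.1 * m0 = m0 * m.1 := mem_centralizer_singleton_iff.1 m.2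
        have h4 := congrArg Md.f h3
        have h5 := congrArg Md.z h3
        rw [Md.mul_f, Md.mul_f, add_comm m0.f] at h4
        rw [Md.mul_z, Md.mul_z, add_comm m0.z] at h5
        exact ⟨(add_left_cancel h4).symm, (add_left_cancel h5).symm⟩⟩, m.1.f, m.1.z⟩
      invFun := fun p => ⟨⟨p.1.1, p.2.1, p.2.2⟩, by
        rw [mem_centralizer_singleton_iff]
        ext1
        · exact add_comm _ _
        · rw [Md.mul_f, Md.mul_f, add_comm m0.f]
          congr 1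
          exact p.1.2.1.symm
        · rw [Md.mul_z, Md.mul_z, add_comm m0.z]
          congr 1
          exact p.1.2.2.symm⟩
      left_inv := fun m => rfl
      right_inv := fun p => rfl }
  rw [Nat.card_congr e, Nat.card_prod, Nat.card_prod, Nat.card_eq_fintype_card, Nat.card_zmod] at h2
  omega

theorem onto_aux : ∀ c d r s : ZMod 2, ∀ v : Code, Fintype.card {u // com c d r s v u} ≤ 8 → ∀ f z : ZMod 2,
    ∃ u : Code, kf c d r u v + kf c d r v u = f ∧ kz d s u v + kz d s v u = z := by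
  decide +kernel

/-- `D ∩ T₁` is a union of cosets of `Z` -/
theorem full [Finite G] (H : SixY x φ y Y c d r s) {v : Code} {f z : ZMod 2}
    (h : IsConj x (elt x φ y Y v f z)) (f' z' : ZMod 2) : IsConj x (elt x φ y Y v f' z') := by
  obtain ⟨u, h1, h2⟩ := onto_aux c d r s v (H.card_com h) (f + f') (z + z')
  refine h.trans (isConj_iff.2 ⟨elt x φ y Y u 0 0, ?_⟩)
  rw [mul_inv_eq_iff_eq_mul, H.elt_mul, H.elt_mul, add_comm u v]
  have key : ∀ a b f f' : ZMod 2, a + b = f + f' → 0 + f + a = f' + 0 + b := by decide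
  rw [key _ _ _ _ h1, key _ _ _ _ h2]

theorem full_iff [Finite G] (H : SixY x φ y Y c d r s) (v : Code) (f z f' z' : ZMod 2) :
    IsConj x (elt x φ y Y v f z) ↔ IsConj x (elt x φ y Y v f' z') := ⟨fun h => H.full h _ _, fun h => H.full h _ _⟩

theorem elt_eq_iff (H : SixY x φ y Y c d r s) (v : Code) (f z : ZMod 2) (v' : Code) (f' z' : ZMod 2) :
    elt x φ y Y v f z = elt x φ y Y v' f' z' ↔ v = v' ∧ f = f' ∧ z = z' := by
  constructor
  · intro h
    have h1 : (⟨v, f, z⟩ : Md c d r s) = ⟨v', f', z'⟩ := H.psi_inj h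
    exact ⟨congrArg Md.v h1, congrArg Md.f h1, congrArg Md.z h1⟩
  · rintro ⟨rfl, rfl, rfl⟩
    rfl

theorem elt_zero (_ : SixY x φ y Y c d r s) : elt x φ y Y 0 0 0 = 1 := by
  simp [elt, pu_zero]

theorem elt_sq (H : SixY x φ y Y c d r s) (v : Code) (f z : ZMod 2) :
    elt x φ y Y v f z * elt x φ y Y v f z = elt x φ y Y 0 (kf c d r v v) (kz d s v v) := by
  rw [H.elt_mul, Md.code_add_self, z2_add_self, z2_add_self, zero_add, zero_add]

theorem sq_of_isConj (H : SixY x φ y Y c d r s) {v : Code} {f z : ZMod 2}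
    (h : IsConj x (elt x φ y Y v f z)) : kf c d r v v = 0 ∧ kz d s v v = 0 := by
  have h1 : elt x φ y Y v f z * elt x φ y Y v f z = 1 := by
    obtain ⟨g, hg⟩ := isConj_iff.1 h
    rw [← hg]
    calc g * x * g⁻¹ * (g * x * g⁻¹) = g * (x * x) * g⁻¹ := by group
      _ = 1 := by rw [H.xx]; group
  rw [H.elt_sq, ← H.elt_zero, H.elt_eq_iff] at h1
  exact h1.2

/-- the sign attached to a linear functional -/
def lam (c d r s : ZMod 2) (l : Code) : Md c d r s →* ℤˣ where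
  toFun m := if dot l m.v = 0 then 1 else -1
  map_one' := by
    have : dot l (1 : Md c d r s).v = 0 := by rw [Md.one_v]; simp [dot]
    rw [if_pos this]
  map_mul' m n := by
    rw [Md.mul_v, dot_add]
    rcases zmod2 (dot l m.v) with h1 | h1 <;> rcases zmod2 (dot l n.v) with h2 | h2 <;> rw [h1, h2] <;> decide

theorem lam_eq (l : Code) (m : Md c d r s) : lam c d r s l m = -1 ↔ dot l m.v = 1 := by
  show (if dot l m.v = 0 then (1 : ℤˣ) else -1) = -1 ↔ _
  rcases zmod2 (dot l m.v) with h1 | h1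
  · rw [h1]; decide
  · rw [h1]; decide

open Classical in
/-- the table -/
noncomputable def bt (x : G) (φ : P6 →* G) (y Y : G) (v : Code) : Bool := decide (IsConj x (elt x φ y Y v 0 0))

theorem bt_iff (v : Code) : bt x φ y Y v = true ↔ IsConj x (elt x φ y Y v 0 0)  :=
  @decide_eq_true_iff _ (Classical.propDecidable _)

theorem bt_false (v : Code) : bt x φ y Y v = false ↔ ¬ IsConj x (elt x φ y Y v 0 0)  :=
  @decide_eq_false_iff_not _ (Classical.propDecidable _)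

theorem even_card [Finite G] (hG : ∀ H : Subgroup G, H.index ≠ 2) (H : SixY x φ y Y c d r s) (l : Code) :
    Even (Finset.univ.filter (fun v => bt x φ y Y v = true ∧ dot l v = 1)).card := by
  have h1 := tf_hom hG H.xx H.psi H.psi_inj (lam c d r s l)
  rw [Md.card, H.card_C] at h1
  have e : {m : Md c d r s // IsConj x (H.psi m) ∧ lam c d r s l m = -1} ≃
      {v : Code // v ∈ Finset.univ.filter (fun v => bt x φ y Y v = true ∧ dot l v = 1)} × ZMod 2 × ZMod 2 :=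
    { toFun := fun m => ⟨⟨m.1.v, by
        rw [Finset.mem_filter]
        refine ⟨Finset.mem_univ _, ?_, (lam_eq l m.1).1 m.2.2⟩
        rw [bt_iff]
        exact H.full m.2.1 _ _⟩, m.1.f, m.1.z⟩
      invFun := fun p => ⟨⟨p.1.1, p.2.1, p.2.2⟩, by
        have h2 := Finset.mem_filter.1 p.1.2
        exact ⟨H.full ((bt_iff _).1 h2.2.1) _ _, (lam_eq l _).2 h2.2.2⟩⟩
      left_inv := fun m => rfl
      right_inv := fun p => rfl }
  rw [Nat.card_congr e, Nat.card_prod, Nat.card_prod, Nat.card_zmod, Nat.card_eq_fintype_card,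
    Fintype.card_coe] at h1
  obtain ⟨k, hk⟩ := h1
  rw [Nat.even_iff]
  omega

/-- THE CONSTRAINTS HOLD -/
theorem tab [Finite G] (hG : ∀ H : Subgroup G, H.index ≠ 2) (H : SixY x φ y Y c d r s) :
    Tab c d r s (bt x φ y Y) where
  hx := by
    rw [bt_iff]
    have : elt x φ y Y (1, 0, 0, 0, 0) 0 0 = x := by simp [elt, pu_zero]
    rw [this]
  hxa := by
    rw [bt_iff]
    have : elt x φ y Y (1, 0, 0, 1, 0) 0 0 = x * φ (pu 1 0 0 0) := by simp [elt]
    rw [this]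
    exact H.isConj_x_mul (by decide +kernel)
  hxe := by
    rw [bt_iff]
    have : elt x φ y Y (1, 0, 0, 0, 1) 0 0 = x * φ (pu 0 1 0 0) := by simp [elt]
    rw [this]
    exact H.isConj_x_mul (by decide +kernel)
  ha := by
    rw [bt_false]
    have : elt x φ y Y (0, 0, 0, 1, 0) 0 0 = φ (pu 1 0 0 0) := by simp [elt]
    rw [this]
    exact H.not_isConj_phi _
  he := by
    rw [bt_false]
    have : elt x φ y Y (0, 0, 0, 0, 1) 0 0 = φ (pu 0 1 0 0) := by simp [elt]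
    rw [this]
    exact H.not_isConj_phi _
  h0 := by
    rw [bt_false, H.elt_zero]
    exact H.not_isConj_one
  sqf v hv := by
    rw [bt_false]
    exact fun h => hv (H.sq_of_isConj h).1
  sqz v hv := by
    rw [bt_false]
    exact fun h => hv (H.sq_of_isConj h).2
  ext v hv := by
    rw [bt_false]
    intro h
    have := H.card_com h
    omega
  clean u v h1 h2 h3 h4 h5 h6 := by
    have h7 := H.clean (d := elt x φ y Y u 0 0) (v := elt x φ y Y v 0 0) ((bt_iff _).1 h6)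
      (by rw [H.elt_sq, h2, h3, H.elt_zero])
      (by
        intro h
        rw [← H.elt_zero, H.elt_eq_iff] at h
        exact h4 h.1)
      (by
        intro h
        rw [H.elt_eq_iff] at h
        exact h5 h.1)
      (by
        rw [H.elt_mul, H.elt_mul, add_comm v u, h1.1, h1.2])
    rw [H.elt_mul, H.full_iff (u + v) _ _ 0 0] at h7
    cases h8 : bt x φ y Y (u + v)
    · rw [bt_false] at h8
      rw [Bool.not_false, bt_iff]
      exact h7.2 h8
    · rw [bt_iff] at h8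
      rw [Bool.not_true, bt_false]
      exact fun h => h7.1 h h8
  par := H.even_card hG

end SixY

end Cfsg.Agent.OddHalf.D6.SixU

end

-- merged: Cfsg.Agent.OddHalf.D6.SixU.Enum
section

/-!
# ODD D6, `q = 9`, case C3a (B): the sixteen cases (helper680; generated by a script)
-/

set_option autoImplicit false
set_option maxRecDepth 4000
set_option synthInstance.maxSize 2000
set_option synthInstance.maxHeartbeats 400000

namespace Cfsg.Agent.OddHalf.D6.SixU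

/-- `x, x+a, x+e, Y, Y+a, Y+e, x+y+a, y+Y+a` -/
def listBd : List Code :=
  [(1, 0, 0, 0, 0), (1, 0, 0, 1, 0), (1, 0, 0, 0, 1),
   (0, 0, 1, 0, 0), (0, 0, 1, 1, 0), (0, 0, 1, 0, 1),
   (1, 1, 0, 1, 0), (0, 1, 1, 1, 0)]

namespace Tab

theorem supp {c d r s : ZMod 2} {b : Code → Bool} (h : Tab c d r s b) (L : List Code)
    (hL : ∀ v : Code, v ∉ L → (v = 0 ∨ v = (0, 0, 0, 1, 0) ∨ v = (0, 0, 0, 0, 1)) ∨
      (kf c d r v v ≠ 0 ∨ kz d s v v ≠ 0) ∨ 8 < Fintype.card {u // com c d r s v u}) :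
    ∀ v, b v = true → v ∈ L := by
  intro v hv
  by_contra hn
  have hf : b v = false := by
    rcases hL v hn with (rfl | rfl | rfl) | (h1 | h1) | h1
    · exact h.h0
    · exact h.ha
    · exact h.he
    · exact h.sqf v h1
    · exact h.sqz v h1
    · exact h.ext v h1
  rw [hf] at hv
  exact absurd hv (by decide)

theorem off {b : Code → Bool} {L : List Code} (hL : ∀ v, b v = true → v ∈ L) {v : Code} (hv : v ∉ L) :
    b v = false := by
  cases h : b v
  · rfl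
  · exact absurd (hL v h) hv

theorem case0000 {b : Code → Bool} (h : Tab 0 0 0 0 b) : False := by
  have hL : ∀ v, b v = true → v ∈ ([(0, 0, 1, 0, 1), (0, 0, 1, 1, 0), (0, 1, 0, 0, 1), (0, 1, 0, 1, 0), (1, 0, 0, 0, 0), (1, 0, 0, 0, 1), (1, 0, 0, 1, 0), (1, 1, 1, 1, 1)] : List Code) := h.supp _ (by decide +kernel)
  have k1 : b (0, 0, 1, 0, 1) = true → b (0, 0, 1, 0, 0) = !b (0, 0, 0, 0, 1) := h.clean (0, 0, 1, 0, 1) (0, 0, 1, 0, 0) (by decide +kernel) (by decide +kernel)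
    (by decide +kernel) (by decide) (by decide)
  have k8 : b (0, 0, 1, 1, 0) = true → b (0, 1, 0, 0, 0) = !b (0, 1, 1, 1, 0) := h.clean (0, 0, 1, 1, 0) (0, 1, 0, 0, 0) (by decide +kernel) (by decide +kernel)
    (by decide +kernel) (by decide) (by decide)
  have k66 : (xor (b (0, 0, 1, 0, 1)) (xor (b (0, 0, 1, 1, 0)) (xor (b (1, 0, 0, 0, 0)) false))) = false := h.xor_list (1, 1, 0, 1, 1) [(0, 0, 1, 0, 1), (0, 0, 1, 1, 0), (0, 1, 0, 0, 1), (0, 1, 0, 1, 0), (1, 0, 0, 0, 0), (1, 0, 0, 0, 1), (1, 0, 0, 1, 0), (1, 1, 1, 1, 1)] (by decide) hL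
  have key : ∀ t0 : Bool, t0 = true → ∀ t1 : Bool, t1 = false → ∀ t2 : Bool, t2 = false → ∀ t3 : Bool, t3 = false → ∀ t4 : Bool, t4 = false → ∀ t5 t6 : Bool, (t5 = true → t2 = !t1) → (t6 = true → t3 = !t4) → (xor t5 (xor t6 (xor t0 false))) = false → False := by decide +kernel
  have nt1 : b (0, 0, 0, 0, 1) = false := off hL (by decide)
  have nt2 : b (0, 0, 1, 0, 0) = false := off hL (by decide)
  have nt3 : b (0, 1, 0, 0, 0) = false := off hL (by decide)
  have nt4 : b (0, 1, 1, 1, 0) = false := off hL (by decide)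
  exact key _ h.hx _ nt1 _ nt2 _ nt3 _ nt4 _ _ k1 k8 k66

theorem case0001 {b : Code → Bool} (h : Tab 0 0 0 1 b) : ∀ v, b v = true ↔ v ∈ listA := by
  have hL : ∀ v, b v = true → v ∈ ([(0, 0, 1, 0, 0), (0, 0, 1, 0, 1), (0, 0, 1, 1, 0), (0, 1, 0, 0, 0), (0, 1, 0, 0, 1), (0, 1, 0, 1, 0), (1, 0, 0, 0, 0), (1, 0, 0, 0, 1), (1, 0, 0, 1, 0), (1, 1, 1, 0, 0), (1, 1, 1, 0, 1), (1, 1, 1, 1, 0)] : List Code) := h.supp _ (by decide +kernel)
  have k5 : b (0, 0, 1, 0, 1) = true → b (0, 0, 1, 0, 0) = !b (0, 0, 0, 0, 1) := h.clean (0, 0, 1, 0, 1) (0, 0, 1, 0, 0) (by decide +kernel) (by decide +kernel)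
    (by decide +kernel) (by decide) (by decide)
  have k9 : b (0, 0, 1, 1, 0) = true → b (0, 0, 1, 0, 0) = !b (0, 0, 0, 1, 0) := h.clean (0, 0, 1, 1, 0) (0, 0, 1, 0, 0) (by decide +kernel) (by decide +kernel)
    (by decide +kernel) (by decide) (by decide)
  have k12 : b (0, 1, 0, 0, 0) = true → b (0, 0, 0, 0, 1) = !b (0, 1, 0, 0, 1) := h.clean (0, 1, 0, 0, 0) (0, 0, 0, 0, 1) (by decide +kernel) (by decide +kernel)
    (by decide +kernel) (by decide) (by decide)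
  have k33 : b (1, 0, 0, 1, 0) = true → b (0, 1, 1, 1, 1) = !b (1, 1, 1, 0, 1) := h.clean (1, 0, 0, 1, 0) (0, 1, 1, 1, 1) (by decide +kernel) (by decide +kernel)
    (by decide +kernel) (by decide) (by decide)
  have k43 : b (1, 1, 1, 0, 1) = true → b (1, 1, 1, 0, 0) = !b (0, 0, 0, 0, 1) := h.clean (1, 1, 1, 0, 1) (1, 1, 1, 0, 0) (by decide +kernel) (by decide +kernel)
    (by decide +kernel) (by decide) (by decide)
  have k49 : (xor (b (0, 0, 1, 1, 0)) (xor (b (0, 1, 0, 1, 0)) (xor (b (1, 0, 0, 1, 0)) (xor (b (1, 1, 1, 1, 0)) false)))) = false := h.xor_list (0, 0, 0, 1, 0) [(0, 0, 1, 0, 0), (0, 0, 1, 0, 1), (0, 0, 1, 1, 0), (0, 1, 0, 0, 0), (0, 1, 0, 0, 1), (0, 1, 0, 1, 0), (1, 0, 0, 0, 0), (1, 0, 0, 0, 1), (1, 0, 0, 1, 0), (1, 1, 1, 0, 0), (1, 1, 1, 0, 1), (1, 1, 1, 1, 0)] (by decide) hL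
  have k53 : (xor (b (0, 0, 1, 0, 0)) (xor (b (0, 0, 1, 0, 1)) (xor (b (0, 1, 0, 1, 0)) (xor (b (1, 0, 0, 1, 0)) (xor (b (1, 1, 1, 0, 0)) (xor (b (1, 1, 1, 0, 1)) false)))))) = false := h.xor_list (0, 0, 1, 1, 0) [(0, 0, 1, 0, 0), (0, 0, 1, 0, 1), (0, 0, 1, 1, 0), (0, 1, 0, 0, 0), (0, 1, 0, 0, 1), (0, 1, 0, 1, 0), (1, 0, 0, 0, 0), (1, 0, 0, 0, 1), (1, 0, 0, 1, 0), (1, 1, 1, 0, 0), (1, 1, 1, 0, 1), (1, 1, 1, 1, 0)] (by decide) hL
  have k61 : (xor (b (0, 0, 1, 0, 0)) (xor (b (0, 0, 1, 0, 1)) (xor (b (0, 1, 0, 0, 0)) (xor (b (0, 1, 0, 0, 1)) (xor (b (1, 0, 0, 1, 0)) (xor (b (1, 1, 1, 1, 0)) false)))))) = false := h.xor_list (0, 1, 1, 1, 0) [(0, 0, 1, 0, 0), (0, 0, 1, 0, 1), (0, 0, 1, 1, 0), (0, 1, 0, 0, 0), (0, 1, 0, 0, 1), (0, 1, 0, 1, 0), (1, 0, 0, 0, 0), (1, 0, 0, 0, 1), (1, 0, 0, 1, 0), (1, 1, 1, 0, 0), (1, 1, 1, 0, 1), (1, 1, 1, 1, 0)] (by decide) hL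
  have k62 : (xor (b (0, 0, 1, 0, 0)) (xor (b (0, 1, 0, 0, 0)) (xor (b (1, 0, 0, 0, 1)) (xor (b (1, 0, 0, 1, 0)) (xor (b (1, 1, 1, 0, 1)) (xor (b (1, 1, 1, 1, 0)) false)))))) = false := h.xor_list (0, 1, 1, 1, 1) [(0, 0, 1, 0, 0), (0, 0, 1, 0, 1), (0, 0, 1, 1, 0), (0, 1, 0, 0, 0), (0, 1, 0, 0, 1), (0, 1, 0, 1, 0), (1, 0, 0, 0, 0), (1, 0, 0, 0, 1), (1, 0, 0, 1, 0), (1, 1, 1, 0, 0), (1, 1, 1, 0, 1), (1, 1, 1, 1, 0)] (by decide) hL
  have k65 : (xor (b (0, 0, 1, 1, 0)) (xor (b (0, 1, 0, 1, 0)) (xor (b (1, 0, 0, 0, 0)) (xor (b (1, 0, 0, 0, 1)) (xor (b (1, 1, 1, 0, 0)) (xor (b (1, 1, 1, 0, 1)) false)))))) = false := h.xor_list (1, 0, 0, 1, 0) [(0, 0, 1, 0, 0), (0, 0, 1, 0, 1), (0, 0, 1, 1, 0), (0, 1, 0, 0, 0), (0, 1, 0, 0, 1), (0, 1, 0, 1, 0), (1, 0, 0, 0, 0), (1, 0, 0, 0, 1), (1, 0, 0, 1, 0), (1, 1, 1, 0, 0), (1, 1, 1, 0, 1), (1, 1, 1, 1, 0)] (by decide) hL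
  have key : ∀ t0 : Bool, t0 = true → ∀ t1 : Bool, t1 = true → ∀ t2 : Bool, t2 = true → ∀ t3 : Bool, t3 = false → ∀ t4 : Bool, t4 = false → ∀ t5 : Bool, t5 = false → ∀ t6 t7 t8 t9 t10 t11 t12 t13 t14 : Bool, (t7 = true → t6 = !t3) → (t8 = true → t6 = !t4) → (t9 = true → t3 = !t10) → (t1 = true → t5 = !t13) → (t13 = true → t12 = !t3) → (xor t8 (xor t11 (xor t1 (xor t14 false)))) = false → (xor t6 (xor t7 (xor t11 (xor t1 (xor t12 (xor t13 false)))))) = false → (xor t6 (xor t7 (xor t9 (xor t10 (xor t1 (xor t14 false)))))) = false → (xor t6 (xor t9 (xor t2 (xor t1 (xor t13 (xor t14 false)))))) = false → (xor t8 (xor t11 (xor t0 (xor t2 (xor t12 (xor t13 false)))))) = false → t6 = true ∧ t7 = true ∧ t8 = true ∧ t9 = true ∧ t10 = true ∧ t11 = true ∧ t12 = true ∧ t13 = true ∧ t14 = true := by decide +kernel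
  have nt3 : b (0, 0, 0, 0, 1) = false := off hL (by decide)
  have nt4 : b (0, 0, 0, 1, 0) = false := off hL (by decide)
  have nt5 : b (0, 1, 1, 1, 1) = false := off hL (by decide)
  obtain ⟨et6, et7, et8, et9, et10, et11, et12, et13, et14⟩ := key _ h.hx _ h.hxa _ h.hxe _ nt3 _ nt4 _ nt5 _ _ _ _ _ _ _ _ _ k5 k9 k12 k33 k43 k49 k53 k61 k62 k65
  intro v
  constructor
  · intro hv
    have h1 := hL v hv
    simp only [List.mem_cons, List.not_mem_nil, or_false] at h1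
    rcases h1 with rfl | rfl | rfl | rfl | rfl | rfl | rfl | rfl | rfl | rfl | rfl | rfl
    · decide
    · decide
    · decide
    · decide
    · decide
    · decide
    · decide
    · decide
    · decide
    · decide
    · decide
    · decide
  · intro hv
    simp only [listA, List.mem_cons, List.not_mem_nil, or_false] at hv
    rcases hv with rfl | rfl | rfl | rfl | rfl | rfl | rfl | rfl | rfl | rfl | rfl | rfl
    · exact h.hx
    · exact h.hxa
    · exact h.hxe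
    · exact et9
    · exact et11
    · exact et10
    · exact et6
    · exact et8
    · exact et7
    · exact et12
    · exact et14
    · exact et13

theorem case0010 {b : Code → Bool} (h : Tab 0 0 1 0 b) : False := by
  have hL : ∀ v, b v = true → v ∈ ([(0, 0, 1, 0, 0), (0, 0, 1, 0, 1), (0, 0, 1, 1, 0), (0, 1, 0, 0, 1), (0, 1, 0, 1, 0), (1, 0, 0, 0, 0), (1, 0, 0, 0, 1), (1, 0, 0, 1, 0)] : List Code) := h.supp _ (by decide +kernel)
  have k35 : (xor (b (1, 0, 0, 0, 0)) (xor (b (1, 0, 0, 0, 1)) (xor (b (1, 0, 0, 1, 0)) false))) = false := h.xor_list (1, 0, 0, 0, 0) [(0, 0, 1, 0, 0), (0, 0, 1, 0, 1), (0, 0, 1, 1, 0), (0, 1, 0, 0, 1), (0, 1, 0, 1, 0), (1, 0, 0, 0, 0), (1, 0, 0, 0, 1), (1, 0, 0, 1, 0)] (by decide) hL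
  have key : ∀ t0 : Bool, t0 = true → ∀ t1 : Bool, t1 = true → ∀ t2 : Bool, t2 = true → (xor t0 (xor t2 (xor t1 false))) = false → False := by decide +kernel
  exact key _ h.hx _ h.hxa _ h.hxe k35

theorem case0011 {b : Code → Bool} (h : Tab 0 0 1 1 b) : False := by
  have hL : ∀ v, b v = true → v ∈ ([(0, 0, 1, 0, 1), (0, 0, 1, 1, 0), (0, 1, 0, 0, 0), (0, 1, 0, 0, 1), (0, 1, 0, 1, 0), (1, 0, 0, 0, 0), (1, 0, 0, 0, 1), (1, 0, 0, 1, 0)] : List Code) := h.supp _ (by decide +kernel)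
  have k35 : (xor (b (1, 0, 0, 0, 0)) (xor (b (1, 0, 0, 0, 1)) (xor (b (1, 0, 0, 1, 0)) false))) = false := h.xor_list (1, 0, 0, 0, 0) [(0, 0, 1, 0, 1), (0, 0, 1, 1, 0), (0, 1, 0, 0, 0), (0, 1, 0, 0, 1), (0, 1, 0, 1, 0), (1, 0, 0, 0, 0), (1, 0, 0, 0, 1), (1, 0, 0, 1, 0)] (by decide) hL
  have key : ∀ t0 : Bool, t0 = true → ∀ t1 : Bool, t1 = true → ∀ t2 : Bool, t2 = true → (xor t0 (xor t2 (xor t1 false))) = false → False := by decide +kernel
  exact key _ h.hx _ h.hxa _ h.hxe k35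

theorem case0100 {b : Code → Bool} (h : Tab 0 1 0 0 b) : False := by
  have hL : ∀ v, b v = true → v ∈ ([(0, 0, 1, 1, 0), (0, 1, 0, 0, 1), (0, 1, 0, 1, 0), (0, 1, 1, 0, 0), (0, 1, 1, 1, 0), (1, 0, 0, 0, 0), (1, 0, 0, 0, 1), (1, 0, 0, 1, 0), (1, 0, 1, 0, 1)] : List Code) := h.supp _ (by decide +kernel)
  have k0 : b (0, 0, 1, 1, 0) = true → b (0, 0, 0, 1, 0) = !b (0, 0, 1, 0, 0) := h.clean (0, 0, 1, 1, 0) (0, 0, 0, 1, 0) (by decide +kernel) (by decide +kernel)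
    (by decide +kernel) (by decide) (by decide)
  have k11 : b (0, 1, 0, 1, 0) = true → b (0, 1, 0, 0, 0) = !b (0, 0, 0, 1, 0) := h.clean (0, 1, 0, 1, 0) (0, 1, 0, 0, 0) (by decide +kernel) (by decide +kernel)
    (by decide +kernel) (by decide) (by decide)
  have k50 : (xor (b (0, 0, 1, 1, 0)) (xor (b (0, 1, 0, 1, 0)) (xor (b (1, 0, 0, 0, 1)) false))) = false := h.xor_list (0, 1, 1, 0, 1) [(0, 0, 1, 1, 0), (0, 1, 0, 0, 1), (0, 1, 0, 1, 0), (0, 1, 1, 0, 0), (0, 1, 1, 1, 0), (1, 0, 0, 0, 0), (1, 0, 0, 0, 1), (1, 0, 0, 1, 0), (1, 0, 1, 0, 1)] (by decide) hL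
  have key : ∀ t0 : Bool, t0 = true → ∀ t1 : Bool, t1 = false → ∀ t2 : Bool, t2 = false → ∀ t3 : Bool, t3 = false → ∀ t4 t5 : Bool, (t4 = true → t1 = !t2) → (t5 = true → t3 = !t1) → (xor t4 (xor t5 (xor t0 false))) = false → False := by decide +kernel
  have nt1 : b (0, 0, 0, 1, 0) = false := off hL (by decide)
  have nt2 : b (0, 0, 1, 0, 0) = false := off hL (by decide)
  have nt3 : b (0, 1, 0, 0, 0) = false := off hL (by decide)
  exact key _ h.hxe _ nt1 _ nt2 _ nt3 _ _ k0 k11 k50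

theorem case0101 {b : Code → Bool} (h : Tab 0 1 0 1 b) : False := by
  have hL : ∀ v, b v = true → v ∈ ([(0, 0, 1, 0, 0), (0, 0, 1, 1, 0), (0, 1, 0, 0, 0), (0, 1, 0, 0, 1), (0, 1, 0, 1, 0), (1, 0, 0, 0, 0), (1, 0, 0, 0, 1), (1, 0, 0, 1, 0), (1, 0, 1, 0, 1), (1, 1, 1, 0, 0), (1, 1, 1, 1, 0)] : List Code) := h.supp _ (by decide +kernel)
  have k0 : b (0, 0, 1, 0, 0) = true → b (0, 0, 0, 1, 0) = !b (0, 0, 1, 1, 0) := h.clean (0, 0, 1, 0, 0) (0, 0, 0, 1, 0) (by decide +kernel) (by decide +kernel)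
    (by decide +kernel) (by decide) (by decide)
  have k5 : b (0, 0, 1, 1, 0) = true → b (0, 0, 1, 0, 0) = !b (0, 0, 0, 1, 0) := h.clean (0, 0, 1, 1, 0) (0, 0, 1, 0, 0) (by decide +kernel) (by decide +kernel)
    (by decide +kernel) (by decide) (by decide)
  have k47 : (xor (b (0, 0, 1, 0, 0)) (xor (b (0, 0, 1, 1, 0)) (xor (b (0, 1, 0, 0, 0)) (xor (b (0, 1, 0, 0, 1)) (xor (b (0, 1, 0, 1, 0)) (xor (b (1, 0, 1, 0, 1)) false)))))) = false := h.xor_list (0, 1, 1, 0, 0) [(0, 0, 1, 0, 0), (0, 0, 1, 1, 0), (0, 1, 0, 0, 0), (0, 1, 0, 0, 1), (0, 1, 0, 1, 0), (1, 0, 0, 0, 0), (1, 0, 0, 0, 1), (1, 0, 0, 1, 0), (1, 0, 1, 0, 1), (1, 1, 1, 0, 0), (1, 1, 1, 1, 0)] (by decide) hL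
  have k59 : (xor (b (0, 1, 0, 0, 0)) (xor (b (0, 1, 0, 0, 1)) (xor (b (0, 1, 0, 1, 0)) (xor (b (1, 0, 0, 0, 0)) (xor (b (1, 0, 0, 0, 1)) (xor (b (1, 0, 0, 1, 0)) (xor (b (1, 0, 1, 0, 1)) false))))))) = false := h.xor_list (1, 1, 0, 0, 0) [(0, 0, 1, 0, 0), (0, 0, 1, 1, 0), (0, 1, 0, 0, 0), (0, 1, 0, 0, 1), (0, 1, 0, 1, 0), (1, 0, 0, 0, 0), (1, 0, 0, 0, 1), (1, 0, 0, 1, 0), (1, 0, 1, 0, 1), (1, 1, 1, 0, 0), (1, 1, 1, 1, 0)] (by decide) hL
  have key : ∀ t0 : Bool, t0 = true → ∀ t1 : Bool, t1 = true → ∀ t2 : Bool, t2 = true → ∀ t3 : Bool, t3 = false → ∀ t4 t5 t6 t7 t8 t9 : Bool, (t4 = true → t3 = !t5) → (t5 = true → t4 = !t3) → (xor t4 (xor t5 (xor t6 (xor t7 (xor t8 (xor t9 false)))))) = false → (xor t6 (xor t7 (xor t8 (xor t0 (xor t2 (xor t1 (xor t9 false))))))) = false → False := by decide +kernel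
  have nt3 : b (0, 0, 0, 1, 0) = false := off hL (by decide)
  exact key _ h.hx _ h.hxa _ h.hxe _ nt3 _ _ _ _ _ _ k0 k5 k47 k59

theorem case0110 {b : Code → Bool} (h : Tab 0 1 1 0 b) : False := by
  have hL : ∀ v, b v = true → v ∈ ([(0, 0, 1, 0, 0), (0, 0, 1, 1, 0), (0, 1, 0, 0, 1), (0, 1, 0, 1, 0), (0, 1, 1, 1, 1), (1, 0, 0, 0, 0), (1, 0, 0, 0, 1), (1, 0, 0, 1, 0), (1, 0, 1, 0, 1), (1, 1, 1, 0, 1)] : List Code) := h.supp _ (by decide +kernel)
  have k33 : b (1, 0, 1, 0, 1) = true → b (1, 1, 1, 0, 1) = !b (0, 1, 0, 0, 0) := h.clean (1, 0, 1, 0, 1) (1, 1, 1, 0, 1) (by decide +kernel) (by decide +kernel)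
    (by decide +kernel) (by decide) (by decide)
  have k37 : b (1, 1, 1, 0, 1) = true → b (1, 0, 1, 0, 1) = !b (0, 1, 0, 0, 0) := h.clean (1, 1, 1, 0, 1) (1, 0, 1, 0, 1) (by decide +kernel) (by decide +kernel)
    (by decide +kernel) (by decide) (by decide)
  have k53 : (xor (b (1, 0, 0, 0, 0)) (xor (b (1, 0, 0, 0, 1)) (xor (b (1, 0, 0, 1, 0)) (xor (b (1, 0, 1, 0, 1)) (xor (b (1, 1, 1, 0, 1)) false))))) = false := h.xor_list (1, 0, 0, 0, 0) [(0, 0, 1, 0, 0), (0, 0, 1, 1, 0), (0, 1, 0, 0, 1), (0, 1, 0, 1, 0), (0, 1, 1, 1, 1), (1, 0, 0, 0, 0), (1, 0, 0, 0, 1), (1, 0, 0, 1, 0), (1, 0, 1, 0, 1), (1, 1, 1, 0, 1)] (by decide) hL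
  have key : ∀ t0 : Bool, t0 = true → ∀ t1 : Bool, t1 = true → ∀ t2 : Bool, t2 = true → ∀ t3 : Bool, t3 = false → ∀ t4 t5 : Bool, (t4 = true → t5 = !t3) → (t5 = true → t4 = !t3) → (xor t0 (xor t2 (xor t1 (xor t4 (xor t5 false))))) = false → False := by decide +kernel
  have nt3 : b (0, 1, 0, 0, 0) = false := off hL (by decide)
  exact key _ h.hx _ h.hxa _ h.hxe _ nt3 _ _ k33 k37 k53

theorem case0111 {b : Code → Bool} (h : Tab 0 1 1 1 b) : ∀ v, b v = true ↔ v ∈ listB := by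
  have hL : ∀ v, b v = true → v ∈ ([(0, 0, 1, 1, 0), (0, 1, 0, 0, 0), (0, 1, 0, 0, 1), (0, 1, 0, 1, 0), (0, 1, 1, 0, 1), (1, 0, 0, 0, 0), (1, 0, 0, 0, 1), (1, 0, 0, 1, 0), (1, 0, 1, 0, 1), (1, 1, 1, 1, 1)] : List Code) := h.supp _ (by decide +kernel)
  have k1 : b (0, 0, 1, 1, 0) = true → b (0, 0, 1, 0, 0) = !b (0, 0, 0, 1, 0) := h.clean (0, 0, 1, 1, 0) (0, 0, 1, 0, 0) (by decide +kernel) (by decide +kernel)
    (by decide +kernel) (by decide) (by decide)
  have k5 : b (0, 1, 0, 0, 0) = true → b (0, 1, 0, 1, 0) = !b (0, 0, 0, 1, 0) := h.clean (0, 1, 0, 0, 0) (0, 1, 0, 1, 0) (by decide +kernel) (by decide +kernel)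
    (by decide +kernel) (by decide) (by decide)
  have k49 : (xor (b (0, 0, 1, 1, 0)) (xor (b (0, 1, 0, 0, 0)) (xor (b (0, 1, 0, 0, 1)) (xor (b (0, 1, 0, 1, 0)) (xor (b (1, 0, 1, 0, 1)) false))))) = false := h.xor_list (0, 1, 1, 0, 0) [(0, 0, 1, 1, 0), (0, 1, 0, 0, 0), (0, 1, 0, 0, 1), (0, 1, 0, 1, 0), (0, 1, 1, 0, 1), (1, 0, 0, 0, 0), (1, 0, 0, 0, 1), (1, 0, 0, 1, 0), (1, 0, 1, 0, 1), (1, 1, 1, 1, 1)] (by decide) hL
  have k50 : (xor (b (0, 0, 1, 1, 0)) (xor (b (0, 1, 0, 0, 0)) (xor (b (0, 1, 0, 1, 0)) (xor (b (0, 1, 1, 0, 1)) (xor (b (1, 0, 0, 0, 1)) (xor (b (1, 1, 1, 1, 1)) false)))))) = false := h.xor_list (0, 1, 1, 0, 1) [(0, 0, 1, 1, 0), (0, 1, 0, 0, 0), (0, 1, 0, 0, 1), (0, 1, 0, 1, 0), (0, 1, 1, 0, 1), (1, 0, 0, 0, 0), (1, 0, 0, 0, 1), (1, 0, 0, 1, 0), (1, 0, 1, 0, 1), (1, 1, 1, 1, 1)] (by decide) hL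
  have k51 : (xor (b (0, 1, 0, 0, 0)) (xor (b (0, 1, 0, 0, 1)) (xor (b (1, 0, 0, 1, 0)) (xor (b (1, 0, 1, 0, 1)) (xor (b (1, 1, 1, 1, 1)) false))))) = false := h.xor_list (0, 1, 1, 1, 0) [(0, 0, 1, 1, 0), (0, 1, 0, 0, 0), (0, 1, 0, 0, 1), (0, 1, 0, 1, 0), (0, 1, 1, 0, 1), (1, 0, 0, 0, 0), (1, 0, 0, 0, 1), (1, 0, 0, 1, 0), (1, 0, 1, 0, 1), (1, 1, 1, 1, 1)] (by decide) hL
  have k53 : (xor (b (1, 0, 0, 0, 0)) (xor (b (1, 0, 0, 0, 1)) (xor (b (1, 0, 0, 1, 0)) (xor (b (1, 0, 1, 0, 1)) (xor (b (1, 1, 1, 1, 1)) false))))) = false := h.xor_list (1, 0, 0, 0, 0) [(0, 0, 1, 1, 0), (0, 1, 0, 0, 0), (0, 1, 0, 0, 1), (0, 1, 0, 1, 0), (0, 1, 1, 0, 1), (1, 0, 0, 0, 0), (1, 0, 0, 0, 1), (1, 0, 0, 1, 0), (1, 0, 1, 0, 1), (1, 1, 1, 1, 1)] (by decide) hL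
  have k62 : (xor (b (0, 1, 0, 0, 0)) (xor (b (0, 1, 0, 1, 0)) (xor (b (1, 0, 0, 0, 0)) (xor (b (1, 0, 0, 1, 0)) (xor (b (1, 1, 1, 1, 1)) false))))) = false := h.xor_list (1, 1, 0, 0, 1) [(0, 0, 1, 1, 0), (0, 1, 0, 0, 0), (0, 1, 0, 0, 1), (0, 1, 0, 1, 0), (0, 1, 1, 0, 1), (1, 0, 0, 0, 0), (1, 0, 0, 0, 1), (1, 0, 0, 1, 0), (1, 0, 1, 0, 1), (1, 1, 1, 1, 1)] (by decide) hL
  have key : ∀ t0 : Bool, t0 = true → ∀ t1 : Bool, t1 = true → ∀ t2 : Bool, t2 = true → ∀ t3 : Bool, t3 = false → ∀ t4 : Bool, t4 = false → ∀ t5 t6 t7 t8 t9 t10 t11 : Bool, (t5 = true → t4 = !t3) → (t6 = true → t8 = !t3) → (xor t5 (xor t6 (xor t7 (xor t8 (xor t10 false))))) = false → (xor t5 (xor t6 (xor t8 (xor t9 (xor t2 (xor t11 false)))))) = false → (xor t6 (xor t7 (xor t1 (xor t10 (xor t11 false))))) = false → (xor t0 (xor t2 (xor t1 (xor t10 (xor t11 false))))) = false → (xor t6 (xor t8 (xor t0 (xor t1 (xor t11 false))))) = false → t5 = false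 ∧ t6 = true ∧ t7 = true ∧ t8 = true ∧ t9 = true ∧ t10 = true ∧ t11 = false := by decide +kernel
  have nt3 : b (0, 0, 0, 1, 0) = false := off hL (by decide)
  have nt4 : b (0, 0, 1, 0, 0) = false := off hL (by decide)
  obtain ⟨et5, et6, et7, et8, et9, et10, et11⟩ := key _ h.hx _ h.hxa _ h.hxe _ nt3 _ nt4 _ _ _ _ _ _ _ k1 k5 k49 k50 k51 k53 k62
  intro v
  constructor
  · intro hv
    have h1 := hL v hv
    simp only [List.mem_cons, List.not_mem_nil, or_false] at h1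
    rcases h1 with rfl | rfl | rfl | rfl | rfl | rfl | rfl | rfl | rfl | rfl
    · rw [et5] at hv; exact absurd hv (by decide)
    · decide
    · decide
    · decide
    · decide
    · decide
    · decide
    · decide
    · decide
    · rw [et11] at hv; exact absurd hv (by decide)
  · intro hv
    simp only [listB, List.mem_cons, List.not_mem_nil, or_false] at hv
    rcases hv with rfl | rfl | rfl | rfl | rfl | rfl | rfl | rfl
    · exact h.hx
    · exact h.hxa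
    · exact h.hxe
    · exact et6
    · exact et8
    · exact et7
    · exact et10
    · exact et9

theorem case1000 {b : Code → Bool} (h : Tab 1 0 0 0 b) : False := by
  have hL : ∀ v, b v = true → v ∈ ([(0, 0, 1, 0, 1), (0, 0, 1, 1, 0), (0, 1, 0, 0, 1), (0, 1, 1, 0, 0), (0, 1, 1, 0, 1), (1, 0, 0, 0, 0), (1, 0, 0, 0, 1), (1, 0, 0, 1, 0), (1, 1, 0, 1, 0)] : List Code) := h.supp _ (by decide +kernel)
  have k11 : b (0, 1, 0, 0, 1) = true → b (0, 1, 0, 0, 0) = !b (0, 0, 0, 0, 1) := h.clean (0, 1, 0, 0, 1) (0, 1, 0, 0, 0) (by decide +kernel) (by decide +kernel)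
    (by decide +kernel) (by decide) (by decide)
  have k15 : b (0, 1, 1, 0, 0) = true → b (0, 0, 1, 0, 0) = !b (0, 1, 0, 0, 0) := h.clean (0, 1, 1, 0, 0) (0, 0, 1, 0, 0) (by decide +kernel) (by decide +kernel)
    (by decide +kernel) (by decide) (by decide)
  have k60 : (xor (b (0, 1, 0, 0, 1)) (xor (b (0, 1, 1, 0, 0)) (xor (b (1, 0, 0, 0, 0)) false))) = false := h.xor_list (1, 0, 1, 1, 1) [(0, 0, 1, 0, 1), (0, 0, 1, 1, 0), (0, 1, 0, 0, 1), (0, 1, 1, 0, 0), (0, 1, 1, 0, 1), (1, 0, 0, 0, 0), (1, 0, 0, 0, 1), (1, 0, 0, 1, 0), (1, 1, 0, 1, 0)] (by decide) hL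
  have key : ∀ t0 : Bool, t0 = true → ∀ t1 : Bool, t1 = false → ∀ t2 : Bool, t2 = false → ∀ t3 : Bool, t3 = false → ∀ t4 t5 : Bool, (t4 = true → t3 = !t1) → (t5 = true → t2 = !t3) → (xor t4 (xor t5 (xor t0 false))) = false → False := by decide +kernel
  have nt1 : b (0, 0, 0, 0, 1) = false := off hL (by decide)
  have nt2 : b (0, 0, 1, 0, 0) = false := off hL (by decide)
  have nt3 : b (0, 1, 0, 0, 0) = false := off hL (by decide)
  exact key _ h.hx _ nt1 _ nt2 _ nt3 _ _ k11 k15 k60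

theorem case1001 {b : Code → Bool} (h : Tab 1 0 0 1 b) : False := by
  have hL : ∀ v, b v = true → v ∈ ([(0, 0, 1, 0, 0), (0, 0, 1, 0, 1), (0, 0, 1, 1, 0), (0, 1, 0, 0, 0), (0, 1, 0, 0, 1), (1, 0, 0, 0, 0), (1, 0, 0, 0, 1), (1, 0, 0, 1, 0), (1, 1, 0, 1, 0), (1, 1, 1, 0, 0), (1, 1, 1, 0, 1)] : List Code) := h.supp _ (by decide +kernel)
  have k10 : b (0, 1, 0, 0, 0) = true → b (0, 0, 0, 0, 1) = !b (0, 1, 0, 0, 1) := h.clean (0, 1, 0, 0, 0) (0, 0, 0, 0, 1) (by decide +kernel) (by decide +kernel)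
    (by decide +kernel) (by decide) (by decide)
  have k15 : b (0, 1, 0, 0, 1) = true → b (0, 1, 0, 0, 0) = !b (0, 0, 0, 0, 1) := h.clean (0, 1, 0, 0, 1) (0, 1, 0, 0, 0) (by decide +kernel) (by decide +kernel)
    (by decide +kernel) (by decide) (by decide)
  have k59 : (xor (b (0, 1, 0, 0, 0)) (xor (b (0, 1, 0, 0, 1)) (xor (b (1, 0, 0, 0, 0)) (xor (b (1, 0, 0, 0, 1)) (xor (b (1, 0, 0, 1, 0)) false))))) = false := h.xor_list (1, 1, 0, 0, 0) [(0, 0, 1, 0, 0), (0, 0, 1, 0, 1), (0, 0, 1, 1, 0), (0, 1, 0, 0, 0), (0, 1, 0, 0, 1), (1, 0, 0, 0, 0), (1, 0, 0, 0, 1), (1, 0, 0, 1, 0), (1, 1, 0, 1, 0), (1, 1, 1, 0, 0), (1, 1, 1, 0, 1)] (by decide) hL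
  have key : ∀ t0 : Bool, t0 = true → ∀ t1 : Bool, t1 = true → ∀ t2 : Bool, t2 = true → ∀ t3 : Bool, t3 = false → ∀ t4 t5 : Bool, (t4 = true → t3 = !t5) → (t5 = true → t4 = !t3) → (xor t4 (xor t5 (xor t0 (xor t2 (xor t1 false))))) = false → False := by decide +kernel
  have nt3 : b (0, 0, 0, 0, 1) = false := off hL (by decide)
  exact key _ h.hx _ h.hxa _ h.hxe _ nt3 _ _ k10 k15 k59

theorem case1010 {b : Code → Bool} (h : Tab 1 0 1 0 b) : ∀ v, b v = true ↔ v ∈ listBd := by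
  have hL : ∀ v, b v = true → v ∈ ([(0, 0, 1, 0, 0), (0, 0, 1, 0, 1), (0, 0, 1, 1, 0), (0, 1, 0, 0, 1), (0, 1, 1, 1, 0), (1, 0, 0, 0, 0), (1, 0, 0, 0, 1), (1, 0, 0, 1, 0), (1, 1, 0, 1, 0), (1, 1, 1, 1, 1)] : List Code) := h.supp _ (by decide +kernel)
  have k15 : b (0, 1, 1, 1, 0) = true → b (0, 1, 0, 0, 0) = !b (0, 0, 1, 1, 0) := h.clean (0, 1, 1, 1, 0) (0, 1, 0, 0, 0) (by decide +kernel) (by decide +kernel)
    (by decide +kernel) (by decide) (by decide)
  have k17 : b (0, 1, 1, 1, 0) = true → b (1, 1, 1, 1, 1) = !b (1, 0, 0, 0, 1) := h.clean (0, 1, 1, 1, 0) (1, 1, 1, 1, 1) (by decide +kernel) (by decide +kernel)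
    (by decide +kernel) (by decide) (by decide)
  have k27 : b (1, 0, 0, 1, 0) = true → b (0, 1, 0, 0, 0) = !b (1, 1, 0, 1, 0) := h.clean (1, 0, 0, 1, 0) (0, 1, 0, 0, 0) (by decide +kernel) (by decide +kernel)
    (by decide +kernel) (by decide) (by decide)
  have k30 : b (1, 1, 0, 1, 0) = true → b (0, 0, 1, 0, 1) = !b (1, 1, 1, 1, 1) := h.clean (1, 1, 0, 1, 0) (0, 0, 1, 0, 1) (by decide +kernel) (by decide +kernel)
    (by decide +kernel) (by decide) (by decide)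
  have k50 : (xor (b (0, 0, 1, 0, 0)) (xor (b (0, 0, 1, 1, 0)) (xor (b (1, 0, 0, 0, 1)) (xor (b (1, 1, 0, 1, 0)) (xor (b (1, 1, 1, 1, 1)) false))))) = false := h.xor_list (0, 1, 1, 0, 1) [(0, 0, 1, 0, 0), (0, 0, 1, 0, 1), (0, 0, 1, 1, 0), (0, 1, 0, 0, 1), (0, 1, 1, 1, 0), (1, 0, 0, 0, 0), (1, 0, 0, 0, 1), (1, 0, 0, 1, 0), (1, 1, 0, 1, 0), (1, 1, 1, 1, 1)] (by decide) hL
  have k57 : (xor (b (0, 0, 1, 0, 0)) (xor (b (0, 0, 1, 0, 1)) (xor (b (0, 0, 1, 1, 0)) (xor (b (0, 1, 1, 1, 0)) (xor (b (1, 0, 0, 0, 0)) (xor (b (1, 0, 0, 0, 1)) (xor (b (1, 0, 0, 1, 0)) (xor (b (1, 1, 0, 1, 0)) false)))))))) = false := h.xor_list (1, 0, 1, 0, 0) [(0, 0, 1, 0, 0), (0, 0, 1, 0, 1), (0, 0, 1, 1, 0), (0, 1, 0, 0, 1), (0, 1, 1, 1, 0), (1, 0, 0, 0, 0), (1, 0, 0, 0, 1), (1, 0, 0, 1, 0), (1, 1, 0, 1, 0), (1, 1, 1, 1, 1)] (by decide) hL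
  have k63 : (xor (b (0, 0, 1, 1, 0)) (xor (b (0, 1, 0, 0, 1)) (xor (b (1, 0, 0, 0, 0)) (xor (b (1, 0, 0, 0, 1)) (xor (b (1, 1, 0, 1, 0)) (xor (b (1, 1, 1, 1, 1)) false)))))) = false := h.xor_list (1, 1, 0, 1, 0) [(0, 0, 1, 0, 0), (0, 0, 1, 0, 1), (0, 0, 1, 1, 0), (0, 1, 0, 0, 1), (0, 1, 1, 1, 0), (1, 0, 0, 0, 0), (1, 0, 0, 0, 1), (1, 0, 0, 1, 0), (1, 1, 0, 1, 0), (1, 1, 1, 1, 1)] (by decide) hL
  have key : ∀ t0 : Bool, t0 = true → ∀ t1 : Bool, t1 = true → ∀ t2 : Bool, t2 = true → ∀ t3 : Bool, t3 = false → ∀ t4 t5 t6 t7 t8 t9 t10 : Bool, (t8 = true → t3 = !t6) → (t8 = true → t10 = !t2) → (t1 = true → t3 = !t9) → (t9 = true → t5 = !t10) → (xor t4 (xor t6 (xor t2 (xor t9 (xor t10 false))))) = false → (xor t4 (xor t5 (xor t6 (xor t8 (xor t0 (xor t2 (xor t1 (xor t9 false)))))))) = false → (xor t6 (xor t7 (xor t0 (xor t2 (xor t9 (xor t10 false)))))) = false → t4 = true ∧ t5 = true ∧ t6 = true ∧ t7 = false ∧ t8 = true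 ∧ t9 = true ∧ t10 = false := by decide +kernel
  have nt3 : b (0, 1, 0, 0, 0) = false := off hL (by decide)
  obtain ⟨et4, et5, et6, et7, et8, et9, et10⟩ := key _ h.hx _ h.hxa _ h.hxe _ nt3 _ _ _ _ _ _ _ k15 k17 k27 k30 k50 k57 k63
  intro v
  constructor
  · intro hv
    have h1 := hL v hv
    simp only [List.mem_cons, List.not_mem_nil, or_false] at h1
    rcases h1 with rfl | rfl | rfl | rfl | rfl | rfl | rfl | rfl | rfl | rfl
    · decide
    · decide
    · decide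
    · rw [et7] at hv; exact absurd hv (by decide)
    · decide
    · decide
    · decide
    · decide
    · decide
    · rw [et10] at hv; exact absurd hv (by decide)
  · intro hv
    simp only [listBd, List.mem_cons, List.not_mem_nil, or_false] at hv
    rcases hv with rfl | rfl | rfl | rfl | rfl | rfl | rfl | rfl
    · exact h.hx
    · exact h.hxa
    · exact h.hxe
    · exact et4
    · exact et6
    · exact et5
    · exact et9
    · exact et8

theorem case1011 {b : Code → Bool} (h : Tab 1 0 1 1 b) : False := by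
  have hL : ∀ v, b v = true → v ∈ ([(0, 0, 1, 0, 1), (0, 0, 1, 1, 0), (0, 1, 0, 0, 0), (0, 1, 0, 0, 1), (0, 1, 1, 1, 1), (1, 0, 0, 0, 0), (1, 0, 0, 0, 1), (1, 0, 0, 1, 0), (1, 1, 0, 1, 0), (1, 1, 1, 1, 0)] : List Code) := h.supp _ (by decide +kernel)
  have k33 : b (1, 1, 0, 1, 0) = true → b (1, 1, 1, 1, 0) = !b (0, 0, 1, 0, 0) := h.clean (1, 1, 0, 1, 0) (1, 1, 1, 1, 0) (by decide +kernel) (by decide +kernel)
    (by decide +kernel) (by decide) (by decide)
  have k37 : b (1, 1, 1, 1, 0) = true → b (1, 1, 0, 1, 0) = !b (0, 0, 1, 0, 0) := h.clean (1, 1, 1, 1, 0) (1, 1, 0, 1, 0) (by decide +kernel) (by decide +kernel)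
    (by decide +kernel) (by decide) (by decide)
  have k53 : (xor (b (1, 0, 0, 0, 0)) (xor (b (1, 0, 0, 0, 1)) (xor (b (1, 0, 0, 1, 0)) (xor (b (1, 1, 0, 1, 0)) (xor (b (1, 1, 1, 1, 0)) false))))) = false := h.xor_list (1, 0, 0, 0, 0) [(0, 0, 1, 0, 1), (0, 0, 1, 1, 0), (0, 1, 0, 0, 0), (0, 1, 0, 0, 1), (0, 1, 1, 1, 1), (1, 0, 0, 0, 0), (1, 0, 0, 0, 1), (1, 0, 0, 1, 0), (1, 1, 0, 1, 0), (1, 1, 1, 1, 0)] (by decide) hL
  have key : ∀ t0 : Bool, t0 = true → ∀ t1 : Bool, t1 = true → ∀ t2 : Bool, t2 = true → ∀ t3 : Bool, t3 = false → ∀ t4 t5 : Bool, (t4 = true → t5 = !t3) → (t5 = true → t4 = !t3) → (xor t0 (xor t2 (xor t1 (xor t4 (xor t5 false))))) = false → False := by decide +kernel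
  have nt3 : b (0, 0, 1, 0, 0) = false := off hL (by decide)
  exact key _ h.hx _ h.hxa _ h.hxe _ nt3 _ _ k33 k37 k53

theorem case1100 {b : Code → Bool} (h : Tab 1 1 0 0 b) : False := by
  have hL : ∀ v, b v = true → v ∈ ([(0, 0, 1, 1, 0), (0, 1, 0, 0, 1), (0, 1, 1, 0, 0), (0, 1, 1, 1, 1), (1, 0, 0, 0, 0), (1, 0, 0, 0, 1), (1, 0, 0, 1, 0), (1, 0, 1, 0, 1), (1, 1, 0, 1, 0)] : List Code) := h.supp _ (by decide +kernel)
  have k19 : b (1, 0, 0, 0, 1) = true → b (0, 0, 1, 0, 0) = !b (1, 0, 1, 0, 1) := h.clean (1, 0, 0, 0, 1) (0, 0, 1, 0, 0) (by decide +kernel) (by decide +kernel)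
    (by decide +kernel) (by decide) (by decide)
  have k25 : b (1, 0, 0, 1, 0) = true → b (1, 1, 0, 1, 0) = !b (0, 1, 0, 0, 0) := h.clean (1, 0, 0, 1, 0) (1, 1, 0, 1, 0) (by decide +kernel) (by decide +kernel)
    (by decide +kernel) (by decide) (by decide)
  have k49 : (xor (b (1, 0, 0, 0, 0)) (xor (b (1, 0, 0, 0, 1)) (xor (b (1, 0, 0, 1, 0)) (xor (b (1, 0, 1, 0, 1)) (xor (b (1, 1, 0, 1, 0)) false))))) = false := h.xor_list (1, 0, 0, 0, 0) [(0, 0, 1, 1, 0), (0, 1, 0, 0, 1), (0, 1, 1, 0, 0), (0, 1, 1, 1, 1), (1, 0, 0, 0, 0), (1, 0, 0, 0, 1), (1, 0, 0, 1, 0), (1, 0, 1, 0, 1), (1, 1, 0, 1, 0)] (by decide) hL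
  have key : ∀ t0 : Bool, t0 = true → ∀ t1 : Bool, t1 = true → ∀ t2 : Bool, t2 = true → ∀ t3 : Bool, t3 = false → ∀ t4 : Bool, t4 = false → ∀ t5 t6 : Bool, (t2 = true → t3 = !t5) → (t1 = true → t6 = !t4) → (xor t0 (xor t2 (xor t1 (xor t5 (xor t6 false))))) = false → False := by decide +kernel
  have nt3 : b (0, 0, 1, 0, 0) = false := off hL (by decide)
  have nt4 : b (0, 1, 0, 0, 0) = false := off hL (by decide)
  exact key _ h.hx _ h.hxa _ h.hxe _ nt3 _ nt4 _ _ k19 k25 k49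

theorem case1101 {b : Code → Bool} (h : Tab 1 1 0 1 b) : ∀ v, b v = true ↔ v ∈ listC := by
  have hL : ∀ v, b v = true → v ∈ ([(0, 0, 1, 0, 0), (0, 0, 1, 1, 0), (0, 1, 0, 0, 0), (0, 1, 0, 0, 1), (1, 0, 0, 0, 0), (1, 0, 0, 0, 1), (1, 0, 0, 1, 0), (1, 0, 1, 0, 1), (1, 1, 0, 1, 0), (1, 1, 1, 0, 0), (1, 1, 1, 1, 1)] : List Code) := h.supp _ (by decide +kernel)
  have k8 : b (0, 1, 0, 0, 0) = true → b (0, 0, 0, 0, 1) = !b (0, 1, 0, 0, 1) := h.clean (0, 1, 0, 0, 0) (0, 0, 0, 0, 1) (by decide +kernel) (by decide +kernel)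
    (by decide +kernel) (by decide) (by decide)
  have k15 : b (0, 1, 0, 0, 1) = true → b (1, 1, 1, 0, 0) = !b (1, 0, 1, 0, 1) := h.clean (0, 1, 0, 0, 1) (1, 1, 1, 0, 0) (by decide +kernel) (by decide +kernel)
    (by decide +kernel) (by decide) (by decide)
  have k27 : b (1, 0, 0, 1, 0) = true → b (1, 1, 0, 1, 0) = !b (0, 1, 0, 0, 0) := h.clean (1, 0, 0, 1, 0) (1, 1, 0, 1, 0) (by decide +kernel) (by decide +kernel)
    (by decide +kernel) (by decide) (by decide)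
  have k32 : b (1, 1, 0, 1, 0) = true → b (0, 0, 1, 1, 0) = !b (1, 1, 1, 0, 0) := h.clean (1, 1, 0, 1, 0) (0, 0, 1, 1, 0) (by decide +kernel) (by decide +kernel)
    (by decide +kernel) (by decide) (by decide)
  have k48 : (xor (b (0, 1, 0, 0, 0)) (xor (b (1, 0, 0, 0, 1)) (xor (b (1, 0, 1, 0, 1)) (xor (b (1, 1, 0, 1, 0)) (xor (b (1, 1, 1, 0, 0)) false))))) = false := h.xor_list (0, 1, 0, 0, 1) [(0, 0, 1, 0, 0), (0, 0, 1, 1, 0), (0, 1, 0, 0, 0), (0, 1, 0, 0, 1), (1, 0, 0, 0, 0), (1, 0, 0, 0, 1), (1, 0, 0, 1, 0), (1, 0, 1, 0, 1), (1, 1, 0, 1, 0), (1, 1, 1, 0, 0), (1, 1, 1, 1, 1)] (by decide) hL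
  have k50 : (xor (b (0, 0, 1, 1, 0)) (xor (b (0, 1, 0, 0, 0)) (xor (b (1, 0, 0, 0, 1)) (xor (b (1, 0, 0, 1, 0)) (xor (b (1, 0, 1, 0, 1)) (xor (b (1, 1, 1, 0, 0)) (xor (b (1, 1, 1, 1, 1)) false))))))) = false := h.xor_list (0, 1, 0, 1, 1) [(0, 0, 1, 0, 0), (0, 0, 1, 1, 0), (0, 1, 0, 0, 0), (0, 1, 0, 0, 1), (1, 0, 0, 0, 0), (1, 0, 0, 0, 1), (1, 0, 0, 1, 0), (1, 0, 1, 0, 1), (1, 1, 0, 1, 0), (1, 1, 1, 0, 0), (1, 1, 1, 1, 1)] (by decide) hL
  have k60 : (xor (b (0, 0, 1, 0, 0)) (xor (b (0, 0, 1, 1, 0)) (xor (b (0, 1, 0, 0, 1)) (xor (b (1, 0, 0, 0, 0)) (xor (b (1, 0, 0, 1, 0)) (xor (b (1, 0, 1, 0, 1)) (xor (b (1, 1, 0, 1, 0)) (xor (b (1, 1, 1, 1, 1)) false)))))))) = false := h.xor_list (1, 0, 1, 0, 1) [(0, 0, 1, 0, 0), (0, 0, 1, 1, 0), (0, 1, 0, 0, 0), (0, 1, 0, 0, 1), (1, 0, 0, 0, 0), (1, 0, 0, 0, 1), (1, 0, 0, 1, 0), (1, 0, 1, 0, 1), (1, 1, 0, 1, 0), (1, 1, 1, 0, 0), (1, 1, 1, 1, 1)] (by decide) hL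
  have k63 : (xor (b (0, 1, 0, 0, 0)) (xor (b (0, 1, 0, 0, 1)) (xor (b (1, 0, 0, 0, 0)) (xor (b (1, 0, 0, 0, 1)) (xor (b (1, 0, 0, 1, 0)) (xor (b (1, 0, 1, 0, 1)) false)))))) = false := h.xor_list (1, 1, 0, 0, 0) [(0, 0, 1, 0, 0), (0, 0, 1, 1, 0), (0, 1, 0, 0, 0), (0, 1, 0, 0, 1), (1, 0, 0, 0, 0), (1, 0, 0, 0, 1), (1, 0, 0, 1, 0), (1, 0, 1, 0, 1), (1, 1, 0, 1, 0), (1, 1, 1, 0, 0), (1, 1, 1, 1, 1)] (by decide) hL
  have key : ∀ t0 : Bool, t0 = true → ∀ t1 : Bool, t1 = true → ∀ t2 : Bool, t2 = true → ∀ t3 : Bool, t3 = false → ∀ t4 t5 t6 t7 t8 t9 t10 t11 : Bool, (t6 = true → t3 = !t7) → (t7 = true → t10 = !t8) → (t1 = true → t9 = !t6) → (t9 = true → t5 = !t10) → (xor t6 (xor t2 (xor t8 (xor t9 (xor t10 false))))) = false → (xor t5 (xor t6 (xor t2 (xor t1 (xor t8 (xor t10 (xor t11 false))))))) = false → (xor t4 (xor t5 (xor t7 (xor t0 (xor t1 (xor t8 (xor t9 (xor t11 false)))))))) = false → (xor t6 (xor t7 (xor t0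 (xor t2 (xor t1 (xor t8 false)))))) = false → t4 = false ∧ t5 = false ∧ t6 = false ∧ t7 = false ∧ t8 = true ∧ t9 = true ∧ t10 = true ∧ t11 = false := by decide +kernel
  have nt3 : b (0, 0, 0, 0, 1) = false := off hL (by decide)
  obtain ⟨et4, et5, et6, et7, et8, et9, et10, et11⟩ := key _ h.hx _ h.hxa _ h.hxe _ nt3 _ _ _ _ _ _ _ _ k8 k15 k27 k32 k48 k50 k60 k63
  intro v
  constructor
  · intro hv
    have h1 := hL v hv
    simp only [List.mem_cons, List.not_mem_nil, or_false] at h1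
    rcases h1 with rfl | rfl | rfl | rfl | rfl | rfl | rfl | rfl | rfl | rfl | rfl
    · rw [et4] at hv; exact absurd hv (by decide)
    · rw [et5] at hv; exact absurd hv (by decide)
    · rw [et6] at hv; exact absurd hv (by decide)
    · rw [et7] at hv; exact absurd hv (by decide)
    · decide
    · decide
    · decide
    · decide
    · decide
    · decide
    · rw [et11] at hv; exact absurd hv (by decide)
  · intro hv
    simp only [listC, List.mem_cons, List.not_mem_nil, or_false] at hv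
    rcases hv with rfl | rfl | rfl | rfl | rfl | rfl
    · exact h.hx
    · exact h.hxa
    · exact h.hxe
    · exact et9
    · exact et8
    · exact et10

theorem case1110 {b : Code → Bool} (h : Tab 1 1 1 0 b) : False := by
  have hL : ∀ v, b v = true → v ∈ ([(0, 0, 1, 0, 0), (0, 0, 1, 1, 0), (0, 1, 0, 0, 1), (0, 1, 1, 1, 0), (1, 0, 0, 0, 0), (1, 0, 0, 0, 1), (1, 0, 0, 1, 0), (1, 0, 1, 0, 1), (1, 1, 0, 1, 0), (1, 1, 1, 0, 1)] : List Code) := h.supp _ (by decide +kernel)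
  have k8 : b (0, 1, 0, 0, 1) = true → b (0, 0, 0, 0, 1) = !b (0, 1, 0, 0, 0) := h.clean (0, 1, 0, 0, 1) (0, 0, 0, 0, 1) (by decide +kernel) (by decide +kernel)
    (by decide +kernel) (by decide) (by decide)
  have k25 : b (1, 0, 1, 0, 1) = true → b (0, 1, 0, 0, 0) = !b (1, 1, 1, 0, 1) := h.clean (1, 0, 1, 0, 1) (0, 1, 0, 0, 0) (by decide +kernel) (by decide +kernel)
    (by decide +kernel) (by decide) (by decide)
  have k31 : b (1, 1, 1, 0, 1) = true → b (1, 0, 1, 0, 1) = !b (0, 1, 0, 0, 0) := h.clean (1, 1, 1, 0, 1) (1, 0, 1, 0, 1) (by decide +kernel) (by decide +kernel)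
    (by decide +kernel) (by decide) (by decide)
  have k32 : (xor (b (0, 1, 0, 0, 1)) (xor (b (1, 0, 0, 0, 1)) (xor (b (1, 0, 1, 0, 1)) (xor (b (1, 1, 1, 0, 1)) false)))) = false := h.xor_list (0, 0, 0, 0, 1) [(0, 0, 1, 0, 0), (0, 0, 1, 1, 0), (0, 1, 0, 0, 1), (0, 1, 1, 1, 0), (1, 0, 0, 0, 0), (1, 0, 0, 0, 1), (1, 0, 0, 1, 0), (1, 0, 1, 0, 1), (1, 1, 0, 1, 0), (1, 1, 1, 0, 1)] (by decide) hL
  have key : ∀ t0 : Bool, t0 = true → ∀ t1 : Bool, t1 = false → ∀ t2 : Bool, t2 = false → ∀ t3 t4 t5 : Bool, (t3 = true → t1 = !t2) → (t4 = true → t2 = !t5) → (t5 = true → t4 = !t2) → (xor t3 (xor t0 (xor t4 (xor t5 false)))) = false → False := by decide +kernel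
  have nt1 : b (0, 0, 0, 0, 1) = false := off hL (by decide)
  have nt2 : b (0, 1, 0, 0, 0) = false := off hL (by decide)
  exact key _ h.hxe _ nt1 _ nt2 _ _ _ k8 k25 k31 k32

theorem case1111 {b : Code → Bool} (h : Tab 1 1 1 1 b) : False := by
  have hL : ∀ v, b v = true → v ∈ ([(0, 0, 1, 1, 0), (0, 1, 0, 0, 0), (0, 1, 0, 0, 1), (0, 1, 1, 0, 1), (1, 0, 0, 0, 0), (1, 0, 0, 0, 1), (1, 0, 0, 1, 0), (1, 0, 1, 0, 1), (1, 1, 0, 1, 0), (1, 1, 1, 1, 0)] : List Code) := h.supp _ (by decide +kernel)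
  have k1 : b (0, 0, 1, 1, 0) = true → b (0, 0, 1, 0, 0) = !b (0, 0, 0, 1, 0) := h.clean (0, 0, 1, 1, 0) (0, 0, 1, 0, 0) (by decide +kernel) (by decide +kernel)
    (by decide +kernel) (by decide) (by decide)
  have k19 : b (1, 0, 0, 0, 1) = true → b (1, 0, 1, 0, 1) = !b (0, 0, 1, 0, 0) := h.clean (1, 0, 0, 0, 1) (1, 0, 1, 0, 1) (by decide +kernel) (by decide +kernel)
    (by decide +kernel) (by decide) (by decide)
  have k49 : (xor (b (0, 0, 1, 1, 0)) (xor (b (1, 0, 0, 0, 0)) (xor (b (1, 0, 0, 0, 1)) (xor (b (1, 0, 1, 0, 1)) false)))) = false := h.xor_list (1, 0, 0, 1, 0) [(0, 0, 1, 1, 0), (0, 1, 0, 0, 0), (0, 1, 0, 0, 1), (0, 1, 1, 0, 1), (1, 0, 0, 0, 0), (1, 0, 0, 0, 1), (1, 0, 0, 1, 0), (1, 0, 1, 0, 1), (1, 1, 0, 1, 0), (1, 1, 1, 1, 0)] (by decide) hL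
  have key : ∀ t0 : Bool, t0 = true → ∀ t1 : Bool, t1 = true → ∀ t2 : Bool, t2 = false → ∀ t3 : Bool, t3 = false → ∀ t4 t5 : Bool, (t4 = true → t3 = !t2) → (t1 = true → t5 = !t3) → (xor t4 (xor t0 (xor t1 (xor t5 false)))) = false → False := by decide +kernel
  have nt2 : b (0, 0, 0, 1, 0) = false := off hL (by decide)
  have nt3 : b (0, 0, 1, 0, 0) = false := off hL (by decide)
  exact key _ h.hx _ h.hxe _ nt2 _ nt3 _ _ k1 k19 k49

/-- the four survivors -/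
theorem cases : ∀ {c d r s : ZMod 2} {b : Code → Bool}, Tab c d r s b →
    (c = 0 ∧ d = 0 ∧ r = 0 ∧ s = 1 ∧ ∀ v, b v = true ↔ v ∈ listA) ∨
    (c = 0 ∧ d = 1 ∧ r = 1 ∧ s = 1 ∧ ∀ v, b v = true ↔ v ∈ listB) ∨
    (c = 1 ∧ d = 0 ∧ r = 1 ∧ s = 0 ∧ ∀ v, b v = true ↔ v ∈ listBd) ∨
    (c = 1 ∧ d = 1 ∧ r = 0 ∧ s = 1 ∧ ∀ v, b v = true ↔ v ∈ listC) := by
  intro c d r s b h
  rcases zmod2 c with rfl | rfl <;> rcases zmod2 d with rfl | rfl <;> rcases zmod2 r with rfl | rfl <;>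
    rcases zmod2 s with rfl | rfl
  · exact (case0000 h).elim
  · exact Or.inl ⟨rfl, rfl, rfl, rfl, case0001 h⟩
  · exact (case0010 h).elim
  · exact (case0011 h).elim
  · exact (case0100 h).elim
  · exact (case0101 h).elim
  · exact (case0110 h).elim
  · exact Or.inr (Or.inl ⟨rfl, rfl, rfl, rfl, case0111 h⟩)
  · exact (case1000 h).elim
  · exact (case1001 h).elim
  · exact Or.inr (Or.inr (Or.inl ⟨rfl, rfl, rfl, rfl, case1010 h⟩))
  · exact (case1011 h).elim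
  · exact (case1100 h).elim
  · exact Or.inr (Or.inr (Or.inr ⟨rfl, rfl, rfl, rfl, case1101 h⟩))
  · exact (case1110 h).elim
  · exact (case1111 h).elim

end Tab

end Cfsg.Agent.OddHalf.D6.SixU

end

-- merged: Cfsg.Agent.OddHalf.D6.SixU.YPair
section

/-!
# ODD D6, `q = 9`, case C3a (B): the pair `y`, `Y` in case 3a (helper680)
-/

set_option autoImplicit false

namespace Cfsg.Agent.OddHalf.D6.SixU

open Subgroup Equiv

theorem pf_ph_pz : pf = ph * pz ∧ ph = pf * pz ∧ ph * pz = pz * ph := by decide +kernel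

theorem theta_pu_aux : ∀ a e f z : ZMod 2, pw (pe * ph) a * pw (pa * pf) e * pw ph f * pw pz z =
    pu e a (a + e + f) (a + f + z + a * e) := by decide +kernel

theorem theta_pw (g : P6) (i : ZMod 2) : theta (pw g i) = pw (theta g) i := by
  rcases zmod2 i with rfl | rfl
  · rw [pw_zero, pw_zero, map_one]
  · rw [pw_one, pw_one]

theorem theta_pu (a e f z : ZMod 2) : theta (pu a e f z) = pu e a (a + e + f) (a + f + z + a * e) := by
  rw [← theta_pu_aux, pu, map_mul, map_mul, map_mul, theta_pw, theta_pw, theta_pw, theta_pw, theta_pa, theta_pe,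
    theta_pf, theta_pz]

variable {G : Type*} [Group G]

namespace SixB

variable {x : G} {φ : P6 →* G}

theorem Tee_dual (_ : SixB x φ) : Tee x (φ.comp theta) = Tee x φ := by
  obtain ⟨h1, h2, h3⟩ := pf_ph_pz
  ext g
  rw [mem_Tee, mem_Tee]
  simp only [MonoidHom.comp_apply, theta_pf, theta_pz]
  constructor
  · rintro ⟨k1, k2, k3⟩
    refine ⟨k1, ?_, k3⟩
    rw [h1, map_mul, ← mul_assoc, k2, mul_assoc, k3, mul_assoc]
  · rintro ⟨k1, k2, k3⟩
    refine ⟨k1, ?_, k3⟩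
    rw [h2, map_mul, ← mul_assoc, k2, mul_assoc, k3, mul_assoc]

variable {n : G}

/-- an element of `N(T)` which does not exchange `A₁` and `A₂` normalizes `A₂` -/
theorem na_of_not_swap (H : SixB x φ) (hn : n ∈ normalizer (Tee x φ : Set G))
    (hs : ¬ ∃ f z, n * φ pa * n⁻¹ = φ (pu 0 1 f z)) : NA φ n := by
  refine na_of_gens ?_ ⟨pz, gens_aux.2.1, H.n_z hn⟩ ?_
  · rcases H.n_f hn with h | h
    · exact ⟨pf, gens_aux.1, h⟩
    · exact ⟨ph, by decide +kernel, h⟩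
  · rcases H.n_ae hn with h | h
    · obtain ⟨f, z, h⟩ := h.2
      exact ⟨_, inA_pu 1 f z, h⟩
    · exact absurd h.1 hs

theorem not_swap_inv (H : SixB x φ) (hn : n ∈ normalizer (Tee x φ : Set G))
    (hs : ¬ ∃ f z, n * φ pa * n⁻¹ = φ (pu 0 1 f z)) : ¬ ∃ f z, n⁻¹ * φ pa * n⁻¹⁻¹ = φ (pu 0 1 f z) := by
  rintro ⟨f, z, h⟩
  have h1 : φ pa = n * φ (pu 0 1 f z) * n⁻¹ := by rw [← h]; group
  obtain ⟨v, hv, h2⟩ := H.na_of_not_swap hn hs _ (inA_pu 1 f z)
  rw [h2] at h1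
  have h3 := H.inj h1
  rw [← h3] at hv
  exact absurd hv (by decide +kernel)

theorem NA_conj {g : G} (h : NA φ g⁻¹) : ∀ u, InA u → ∃ u', InA u' ∧ g⁻¹ * φ u * g = φ u' := by
  intro u hu
  obtain ⟨v, hv, h1⟩ := h u hu
  rw [inv_inv] at h1
  exact ⟨v, hv, h1⟩

/-- the dual of a non-exchanging element is non-exchanging -/
theorem not_swap_dual (H : SixB x φ) (hn : n ∈ normalizer (Tee x φ : Set G))
    (hs : ¬ ∃ f z, n * φ pa * n⁻¹ = φ (pu 0 1 f z)) :
    ¬ ∃ f z, n * (φ.comp theta) pa * n⁻¹ = (φ.comp theta) (pu 0 1 f z) := by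
  rintro ⟨f, z, h⟩
  rw [MonoidHom.comp_apply, MonoidHom.comp_apply, theta_pa, theta_pu] at h
  have e1 : pe * ph = pu 0 1 1 1 := by decide +kernel
  rw [e1] at h
  obtain ⟨v, hv, h2⟩ := H.na_of_not_swap hn hs _ (inA_pu 1 1 1)
  rw [h2] at h
  have h3 := H.inj h
  rw [h3] at hv
  obtain ⟨e, f', z', h4⟩ := exists_inA _ hv
  have h5 := (pu_inj _ _ _ _ _ _ _ _ h4).1
  exact absurd h5 (by decide)

theorem comm_cent_aux : ∀ a e f z : ZMod 2, pu a e f z * pa = pa * pu a e f z →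
    pu a e f z * pe = pe * pu a e f z → ∃ r s, pu a e f z = zz r s := by
  decide +kernel

/-- the centralizer of `T` -/
theorem mem_Z (H : SixB x φ) {g : G} (hx : g * x = x * g) (hf : g * φ pf = φ pf * g) (hz : g * φ pz = φ pz * g)
    (ha : g * φ pa = φ pa * g) (he : g * φ pe = φ pe * g) :
    ∃ r s : ZMod 2, g = φ (zz r s) ∨ g = x * φ (zz r s) := by
  have key : ∀ u, u * pf = pf * u → u * pz = pz * u → u * pa = pa * u → u * pe = pe * u →
      ∃ r s : ZMod 2, u = zz r s := by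
    intro u h1 h2 h3 h4
    obtain ⟨a, e, f, z, rfl⟩ := exists_pu u ⟨h1, h2⟩
    exact comm_cent_aux a e f z h3 h4
  obtain ⟨u, rfl | rfl⟩ := H.cases hx
  · obtain ⟨r, s, rfl⟩ := key u (H.inj (by rw [map_mul, map_mul, hf])) (H.inj (by rw [map_mul, map_mul, hz]))
      (H.inj (by rw [map_mul, map_mul, ha])) (H.inj (by rw [map_mul, map_mul, he]))
    exact ⟨r, s, Or.inl rfl⟩
  · have h0 : ∀ v, x * φ u * φ v = φ v * (x * φ u) → u * v = v * u := by
      intro v h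
      apply H.inj
      apply mul_left_cancel (a := x)
      rw [map_mul, map_mul, ← mul_assoc, h, ← mul_assoc, ← mul_assoc, H.comm v]
    obtain ⟨r, s, rfl⟩ := key u (h0 _ hf) (h0 _ hz) (h0 _ ha) (h0 _ he)
    exact ⟨r, s, Or.inr rfl⟩

/-- CASE 3a: the pair `y`, `Y` -/
theorem exists_pair [Finite G] (H : SixB x φ)
    (hs : ∀ n ∈ normalizer (Tee x φ : Set G), ¬ ∃ f z, n * φ pa * n⁻¹ = φ (pu 0 1 f z)) :
    ∃ (y Y : G) (c d r s : ZMod 2), SixY x φ y Y c d r s := by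
  obtain ⟨pf1, ph1, phz⟩ := pf_ph_pz
  obtain ⟨n, hn, nx⟩ := H.exists_n (Or.inl rfl)
  obtain ⟨m, hm, mx⟩ := H.exists_n (Or.inr (Or.inr rfl))
  obtain ⟨y, c, yy, yx, yf, yz, ye, yr, ya⟩ := H.exists_y nx (H.na_of_not_swap hn (hs n hn))
    (H.na_of_not_swap ((normalizer (Tee x φ : Set G)).inv_mem hn) (H.not_swap_inv hn (hs n hn)))
  have hm' : m ∈ normalizer (Tee x (φ.comp theta) : Set G) := by rw [H.Tee_dual]; exact hm
  have hm'' := H.not_swap_dual hm (hs m hm)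
  obtain ⟨Y, d, YY, Yx, Yh, Yz, Yaf, Ys, Yeh⟩ := H.dual.exists_y (n := m)
    (by rw [MonoidHom.comp_apply, theta_pf]; exact mx)
    (H.dual.na_of_not_swap hm' hm'')
    (H.dual.na_of_not_swap ((normalizer (Tee x (φ.comp theta) : Set G)).inv_mem hm') (H.dual.not_swap_inv hm' hm''))
  simp only [MonoidHom.comp_apply, theta_pf, theta_pz, theta_pe, theta_pr, theta_pa, map_mul, theta_pw] at Yx Yh Yz Yaf Ys Yeh
  -- translate
  have Yf : Y * φ pf = φ pf * Y := by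
    rw [pf1, map_mul, ← mul_assoc, Yh, mul_assoc, Yz, mul_assoc]
  have haf : pa = pa * pf * pf := by decide +kernel
  have Ya : Y * φ pa = φ pa * Y := by
    calc Y * φ pa = Y * (φ pa * φ pf) * φ pf := by rw [mul_assoc, ← map_mul, ← map_mul, ← haf]
      _ = φ pa * φ pf * (Y * φ pf) := by rw [Yaf]; group
      _ = φ pa * φ pf * φ pf * Y := by rw [Yf]; group
      _ = φ pa * Y := by rw [← map_mul, ← map_mul, ← haf]
  have heh : pe = pe * ph * ph := by decide +kernel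
  have hphw : ∀ i : ZMod 2, ph * pw ph i = pw ph i * ph := by decide +kernel
  have Yinv : Y⁻¹ = Y := inv_eq_of_mul_eq_one_left YY
  have Ye : Y * φ pe * Y⁻¹ = φ (pe * pw ph d) := by
    have h1 : Y * φ ph * Y⁻¹ = φ ph := by rw [Yh, mul_inv_cancel_right]
    calc Y * φ pe * Y⁻¹ = Y * φ (pe * ph * ph) * Y⁻¹ := by rw [← heh]
      _ = (Y * (φ pe * φ ph) * Y⁻¹) * (Y * φ ph * Y⁻¹) := by rw [map_mul, map_mul]; group
      _ = φ pe * φ ph * φ (pw ph d) * φ ph := by rw [Yeh, h1]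
      _ = φ (pe * ph * pw ph d * ph) := by simp only [map_mul]
      _ = φ (pe * pw ph d) := by
          congr 1
          rw [mul_assoc (pe * ph), ← hphw, ← mul_assoc, ← heh]
  -- the commutator of `y` and `Y`
  have yinv : y⁻¹ = y := inv_eq_of_mul_eq_one_left yy
  have hff : φ pf * φ pf = 1 := by rw [← map_mul, show pf * pf = 1 by decide +kernel, map_one]
  have hhh : φ ph * φ ph = 1 := by rw [← map_mul, show ph * ph = 1 by decide +kernel, map_one]
  have yx' : y * x = x * φ pf * y := by rw [← yx]; group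
  have Yx' : Y * x = x * φ ph * Y := by rw [← Yx]; group
  have yh : y * φ ph = φ ph * y := by
    rw [ph1, map_mul, ← mul_assoc, yf, mul_assoc, yz, mul_assoc]
  have hfh : φ pf * φ ph = φ ph * φ pf := by rw [← map_mul, ← map_mul, show pf * ph = ph * pf by decide +kernel]
  have kx : y * Y * y * Y * x = x * (y * Y * y * Y) := by
    calc y * Y * y * Y * x = y * Y * y * (Y * x) := by group
      _ = y * Y * y * (x * φ ph * Y) := by rw [Yx']
      _ = y * Y * (y * x) * φ ph * Y := by group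
      _ = y * Y * (x * φ pf * y) * φ ph * Y := by rw [yx']
      _ = y * (Y * x) * φ pf * y * φ ph * Y := by group
      _ = y * (x * φ ph * Y) * φ pf * y * φ ph * Y := by rw [Yx']
      _ = (y * x) * φ ph * Y * φ pf * y * φ ph * Y := by group
      _ = (x * φ pf * y) * φ ph * Y * φ pf * y * φ ph * Y := by rw [yx']
      _ = x * φ pf * (y * φ ph) * (Y * φ pf) * (y * φ ph) * Y := by group
      _ = x * φ pf * (φ ph * y) * (φ pf * Y) * (φ ph * y) * Y := by rw [yh, Yf]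
      _ = x * (φ pf * φ ph) * (y * φ pf) * (Y * φ ph) * y * Y := by group
      _ = x * (φ ph * φ pf) * (φ pf * y) * (φ ph * Y) * y * Y := by rw [yf, Yh, hfh]
      _ = x * φ ph * (φ pf * φ pf) * (y * φ ph) * Y * y * Y := by group
      _ = x * φ ph * (φ ph * y) * Y * y * Y := by rw [hff, yh, mul_one]
      _ = x * (φ ph * φ ph) * y * Y * y * Y := by group
      _ = x * (y * Y * y * Y) := by rw [hhh]; group
  have comm4 : ∀ g, y * g = g * y → Y * g = g * Y → y * Y * y * Y * g = g * (y * Y * y * Y) := by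
    intro g h1 h2
    calc y * Y * y * Y * g = y * Y * y * (Y * g) := by group
      _ = y * Y * (y * g) * Y := by rw [h2]; group
      _ = y * (Y * g) * y * Y := by rw [h1]; group
      _ = (y * g) * Y * y * Y := by rw [h2]; group
      _ = g * (y * Y * y * Y) := by rw [h1]; group
  have hya' : y * φ pa = φ pa * φ (pw pf c) * y := by rw [← map_mul, ← ya]; group
  have hYe' : Y * φ pe = φ pe * φ (pw ph d) * Y := by rw [← map_mul, ← Ye]; group
  have yfc : y * φ (pw pf c) = φ (pw pf c) * y := by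
    rcases zmod2 c with rfl | rfl
    · rw [pw_zero, map_one, mul_one, one_mul]
    · exact yf
  have Yfc : Y * φ (pw pf c) = φ (pw pf c) * Y := by
    rcases zmod2 c with rfl | rfl
    · rw [pw_zero, map_one, mul_one, one_mul]
    · exact Yf
  have yhd : y * φ (pw ph d) = φ (pw ph d) * y := by
    rcases zmod2 d with rfl | rfl
    · rw [pw_zero, map_one, mul_one, one_mul]
    · exact yh
  have Yhd : Y * φ (pw ph d) = φ (pw ph d) * Y := by
    rcases zmod2 d with rfl | rfl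
    · rw [pw_zero, map_one, mul_one, one_mul]
    · exact Yh
  have hcc : φ (pw pf c) * φ (pw pf c) = 1 := by
    rw [← map_mul, (by decide +kernel : ∀ i : ZMod 2, pw pf i * pw pf i = 1), map_one]
  have hdd : φ (pw ph d) * φ (pw ph d) = 1 := by
    rw [← map_mul, (by decide +kernel : ∀ i : ZMod 2, pw ph i * pw ph i = 1), map_one]
  have ka : y * Y * y * Y * φ pa = φ pa * (y * Y * y * Y) := by
    calc y * Y * y * Y * φ pa = y * Y * y * (Y * φ pa) := by group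
      _ = y * Y * (y * φ pa) * Y := by rw [Ya]; group
      _ = y * Y * (φ pa * φ (pw pf c) * y) * Y := by rw [hya']
      _ = y * (Y * φ pa) * φ (pw pf c) * y * Y := by group
      _ = y * (φ pa * Y) * φ (pw pf c) * y * Y := by rw [Ya]
      _ = (y * φ pa) * (Y * φ (pw pf c)) * y * Y := by group
      _ = (φ pa * φ (pw pf c) * y) * (φ (pw pf c) * Y) * y * Y := by rw [hya', Yfc]
      _ = φ pa * φ (pw pf c) * (y * φ (pw pf c)) * Y * y * Y := by group
      _ = φ pa * (φ (pw pf c) * φ (pw pf c)) * y * Y * y * Y := by rw [yfc]; group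
      _ = φ pa * (y * Y * y * Y) := by rw [hcc]; group
  have ke : y * Y * y * Y * φ pe = φ pe * (y * Y * y * Y) := by
    calc y * Y * y * Y * φ pe = y * Y * y * (Y * φ pe) := by group
      _ = y * Y * y * (φ pe * φ (pw ph d) * Y) := by rw [hYe']
      _ = y * Y * (y * φ pe) * φ (pw ph d) * Y := by group
      _ = y * Y * (φ pe * y) * φ (pw ph d) * Y := by rw [ye]
      _ = y * (Y * φ pe) * (y * φ (pw ph d)) * Y := by group
      _ = y * (φ pe * φ (pw ph d) * Y) * (φ (pw ph d) * y) * Y := by rw [hYe', yhd]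
      _ = (y * φ pe) * φ (pw ph d) * (Y * φ (pw ph d)) * y * Y := by group
      _ = (φ pe * y) * φ (pw ph d) * (φ (pw ph d) * Y) * y * Y := by rw [ye, Yhd]
      _ = φ pe * y * (φ (pw ph d) * φ (pw ph d)) * Y * y * Y := by group
      _ = φ pe * (y * Y * y * Y) := by rw [hdd]; group
  obtain ⟨r, s, hrs⟩ := H.mem_Z kx (comm4 _ yf Yf) (comm4 _ yz Yz) ka ke
  have hzzc : y * φ (zz r s) = φ (zz r s) * y := by
    have h1 : y * φ (pw pf r) = φ (pw pf r) * y := by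
      rcases zmod2 r with rfl | rfl
      · rw [pw_zero, map_one, mul_one, one_mul]
      · exact yf
    have h2 : y * φ (pw pz s) = φ (pw pz s) * y := by
      rcases zmod2 s with rfl | rfl
      · rw [pw_zero, map_one, mul_one, one_mul]
      · exact yz
    rw [zz, map_mul, ← mul_assoc, h1, mul_assoc, h2, mul_assoc]
  have hYzc : Y * φ (zz r s) = φ (zz r s) * Y := by
    have h1 : Y * φ (pw pf r) = φ (pw pf r) * Y := by
      rcases zmod2 r with rfl | rfl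
      · rw [pw_zero, map_one, mul_one, one_mul]
      · exact Yf
    have h2 : Y * φ (pw pz s) = φ (pw pz s) * Y := by
      rcases zmod2 s with rfl | rfl
      · rw [pw_zero, map_one, mul_one, one_mul]
      · exact Yz
    rw [zz, map_mul, ← mul_assoc, h1, mul_assoc, h2, mul_assoc]
  have hzz2 : φ (zz r s) * φ (zz r s) = 1 := by rw [← map_mul, zz_sq, map_one]
  suffices hyY : y * Y = Y * y * φ (zz r s) from
    ⟨y, Y, c, d, r, s, ⟨H, yy, YY, yx, Yx, yf, yz, ye, yr, ya, Yf, Yz, Ya, Ys, Ye, hyY⟩⟩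
  rcases hrs with h | h
  · -- `y Y y Y = φ(zz r s)`
    calc y * Y = (y * Y * y * Y) * (Y⁻¹ * y⁻¹) := by group
      _ = φ (zz r s) * (Y * y) := by rw [h, yinv, Yinv]
      _ = φ (zz r s) * Y * y := by group
      _ = Y * φ (zz r s) * y := by rw [hYzc]
      _ = Y * (φ (zz r s) * y) := by group
      _ = Y * y * φ (zz r s) := by rw [← hzzc, mul_assoc]
  · exfalso
    -- `y Y y = x ζ Y` has square `φ(ph)`
    have h1 : y * Y * y = x * φ (zz r s) * Y := by
      calc y * Y * y = (y * Y * y * Y) * Y⁻¹ := by group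
        _ = x * φ (zz r s) * Y := by rw [h, Yinv]
    have h2 : (y * Y * y) * (y * Y * y) = 1 := by
      calc (y * Y * y) * (y * Y * y) = y * Y * (y * y) * Y * y := by group
        _ = y * (Y * Y) * y := by rw [yy]; group
        _ = 1 := by rw [YY, mul_one, yy]
    have h3 : (x * φ (zz r s) * Y) * (x * φ (zz r s) * Y) = φ ph := by
      calc (x * φ (zz r s) * Y) * (x * φ (zz r s) * Y) = x * φ (zz r s) * (Y * x) * φ (zz r s) * Y := by group
        _ = x * φ (zz r s) * (x * φ ph * Y) * φ (zz r s) * Y := by rw [Yx']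
        _ = x * (φ (zz r s) * x) * φ ph * (Y * φ (zz r s)) * Y := by group
        _ = x * (x * φ (zz r s)) * φ ph * (φ (zz r s) * Y) * Y := by rw [H.comm', hYzc]
        _ = (x * x) * (φ (zz r s) * φ ph * φ (zz r s)) * (Y * Y) := by group
        _ = φ (zz r s * ph * zz r s) := by rw [H.xx, YY, map_mul, map_mul, one_mul, mul_one]
        _ = φ ph := by
            congr 1
            exact (by decide +kernel : ∀ r s : ZMod 2, zz r s * ph * zz r s = ph) r s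
    rw [← h1, h2] at h3
    exact absurd (H.phi_eq_one h3.symm) (by decide +kernel)

end SixB

end Cfsg.Agent.OddHalf.D6.SixU

end

-- merged: Cfsg.Agent.OddHalf.D6.SixU.Survive
section

/-!
# ODD D6, `q = 9`, case C3a (B): the survivors alpha, beta, gamma (helper680)
-/

set_option autoImplicit false

namespace Cfsg.Agent.OddHalf.D6.SixU

open Subgroup Equiv

variable {G : Type*} [Group G]

namespace SixY

variable {x : G} {φ : P6 →* G} {y Y : G} {c d r s : ZMod 2}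

theorem table_of [Finite G] (H : SixY x φ y Y c d r s) {L : List Code}
    (h : ∀ v, bt x φ y Y v = true ↔ v ∈ L) : Table x φ y Y L := by
  intro v f z
  rw [H.full_iff v f z 0 0, ← bt_iff, h]

theorem y_ph (H : SixY x φ y Y c d r s) : y * φ ph = φ ph * y := by
  have h := H.y_zz 1 1
  have h4 : zz 1 1 = ph := by decide +kernel
  rwa [h4] at h

theorem Y_ph (H : SixY x φ y Y c d r s) : Y * φ ph = φ ph * Y := by
  have h := H.Y_zz 1 1
  have h4 : zz 1 1 = ph := by decide +kernel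
  rwa [h4] at h

theorem theta_zz (r s : ZMod 2) : theta (zz r s) = zz r (r + s) := by
  rw [zz_eq_pu, theta_pu, zz_eq_pu]
  revert r s
  decide +kernel

/-- the dual pair -/
theorem dual (H : SixY x φ y Y c d r s) : SixY x (φ.comp theta) Y y d c r (r + s) := by
  refine ⟨H.toSixB.dual, H.YY, H.yy, ?_, ?_, ?_, ?_, ?_, ?_, ?_, ?_, ?_, ?_, ?_, ?_, ?_⟩
  · rw [MonoidHom.comp_apply, theta_pf]; exact H.Yx
  · rw [MonoidHom.comp_apply, theta_ph]; exact H.yx
  · rw [MonoidHom.comp_apply, theta_pf]; exact H.Y_ph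
  · rw [MonoidHom.comp_apply, theta_pz]; exact H.Yz
  · rw [MonoidHom.comp_apply, theta_pe, map_mul, ← mul_assoc, H.Ya, mul_assoc, H.Yf, mul_assoc]
  · rw [MonoidHom.comp_apply, theta_pr]; exact H.Ys
  · rw [MonoidHom.comp_apply, MonoidHom.comp_apply, theta_pa, map_mul theta, theta_pa, theta_pw, theta_pf]
    have h1 : Y * φ ph * Y⁻¹ = φ ph := by rw [H.Y_ph, mul_inv_cancel_right]
    calc Y * φ (pe * ph) * Y⁻¹ = (Y * φ pe * Y⁻¹) * (Y * φ ph * Y⁻¹) := by rw [map_mul]; group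
      _ = φ (pe * pw ph d * ph) := by rw [H.Ye, h1, ← map_mul]
      _ = φ (pe * ph * pw ph d) := by
          congr 1
          rcases zmod2 d with rfl | rfl
          · simp
          · simp
  · rw [MonoidHom.comp_apply, theta_pf]; exact H.y_ph
  · rw [MonoidHom.comp_apply, theta_pz]; exact H.yz
  · rw [MonoidHom.comp_apply, theta_pa, map_mul, ← mul_assoc, H.ye, mul_assoc, H.y_ph, mul_assoc]
  · rw [MonoidHom.comp_apply, theta_ps]; exact H.yr
  · rw [MonoidHom.comp_apply, MonoidHom.comp_apply, theta_pe, map_mul theta, theta_pe, theta_pw, theta_ph]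
    have h1 : y * φ pf * y⁻¹ = φ pf := by rw [H.yf, mul_inv_cancel_right]
    calc y * φ (pa * pf) * y⁻¹ = (y * φ pa * y⁻¹) * (y * φ pf * y⁻¹) := by rw [map_mul]; group
      _ = φ (pa * pw pf c * pf) := by rw [H.ya, h1, ← map_mul]
      _ = φ (pa * pf * pw pf c) := by
          congr 1
          rcases zmod2 c with rfl | rfl
          · simp
          · simp
  · rw [MonoidHom.comp_apply, theta_zz]
    have h1 : r + (r + s) = s := by
      rw [← add_assoc, z2_add_self, zero_add]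
    rw [h1, H.yY, mul_assoc (Y * y), ← map_mul, zz_sq, map_one, mul_one]

theorem elt_dual (H : SixY x φ y Y c d r s) (v : Code) (f z : ZMod 2) :
    ∃ f' z', elt x (φ.comp theta) Y y v f z = elt x φ y Y (v.1, v.2.2.1, v.2.1, v.2.2.2.2, v.2.2.2.1) f' z' := by
  obtain ⟨i, j, k, a, e⟩ := v
  simp only [elt]
  rw [MonoidHom.comp_apply, theta_pu]
  have h1 : pw x i * pw Y j * pw y k * φ (pu e a (a + e + f) (a + f + z + a * e)) =
      pw x i * (pw Y j * pw y k) * φ (pu e a (a + e + f) (a + f + z + a * e)) := by group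
  rw [h1, H.Y_y]
  refine ⟨r * j * k + (a + e + f), s * j * k + (a + f + z + a * e), ?_⟩
  have h2 : pu 0 0 (r * j * k) (s * j * k) * pu e a (a + e + f) (a + f + z + a * e) =
      pu e a (r * j * k + (a + e + f)) (s * j * k + (a + f + z + a * e)) := by
    rw [pu_mul]
    simp
  rw [← h2, map_mul]
  group

theorem list_dual : ∀ v : Code, (v.1, v.2.2.1, v.2.1, v.2.2.2.2, v.2.2.2.1) ∈ listBd ↔ v ∈ listB := by
  decide +kernel

/-- THE SURVIVORS -/
theorem survivors [Finite G] (hG : ∀ H : Subgroup G, H.index ≠ 2) (H : SixY x φ y Y c d r s) :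
    Alpha x φ y Y ∨ Beta x φ y Y ∨ Beta x (φ.comp theta) Y y ∨ Gamma x φ y Y := by
  rcases (H.tab hG).cases with ⟨rfl, rfl, rfl, rfl, h⟩ | ⟨rfl, rfl, rfl, rfl, h⟩ | ⟨rfl, rfl, rfl, rfl, h⟩ |
    ⟨rfl, rfl, rfl, rfl, h⟩
  · exact Or.inl ⟨H, H.table_of h⟩
  · exact Or.inr (Or.inl ⟨H, H.table_of h⟩)
  · refine Or.inr (Or.inr (Or.inl ⟨H.dual, ?_⟩))
    intro v f z
    obtain ⟨f', z', h1⟩ := H.elt_dual v f z
    rw [h1, H.table_of h]
    exact list_dual v
  · exact Or.inr (Or.inr (Or.inr ⟨H, H.table_of h⟩))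

end SixY

end Cfsg.Agent.OddHalf.D6.SixU

end

-- merged: Cfsg.Agent.OddHalf.D6.SixU.Gam
section

/-!
# ODD D6, `q = 9`, case C3a (B): the end of pattern gamma (helper680)

`H = N(x φ(A₁)) ∩ N({f, z})` has order 256 and preserves the blocks `B₀ = {x, x f₁, x f₂, x f₃}`, `x φ(A₁) - B₀`
(`f₁ = pf`, `f₂ = pa`, `f₃ = pa pz`); eight elements of `D ∩ H` exchange the blocks; `8 · 1440 = 45 · 256`.
-/

set_option autoImplicit false

namespace Cfsg.Agent.OddHalf.D6.SixU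

open Subgroup Equiv

variable {G : Type*} [Group G]

/-- `A₁ = ⟨pf, pz, pa⟩` is self-centralizing -/
def InB (u : P6) : Prop := u * pf = pf * u ∧ u * pz = pz * u ∧ u * pa = pa * u

instance : DecidablePred InB := fun u => by unfold InB; infer_instance

theorem inB_pu : ∀ a f z : ZMod 2, InB (pu a 0 f z) := by decide +kernel

theorem exists_inB : ∀ u : P6, InB u → ∃ a f z : ZMod 2, u = pu a 0 f z := by decide +kernel

/-- `{1, f₁, f₂, f₃}` -/
def InS (u : P6) : Prop := u = 1 ∨ u = pf ∨ u = pa ∨ u = pa * pz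

instance : DecidablePred InS := fun u => by unfold InS; infer_instance

/-- the action of `n` on `x` and `A₁` -/
structure Acts (x : G) (φ : P6 →* G) (n : G) (s0 s1 s2 s3 : P6) : Prop where
  ax : n * x * n⁻¹ = x * φ s0
  aa : n * φ pa * n⁻¹ = φ s1
  af : n * φ pf * n⁻¹ = φ s2
  az : n * φ pz * n⁻¹ = φ s3

/-- `x φ(A₁)` -/
def XA (x : G) (φ : P6 →* G) : Set G := {d | ∃ u, InB u ∧ d = x * φ u}

/-- `B₀` -/
def B0 (x : G) (φ : P6 →* G) : Set G := {d | ∃ u, InS u ∧ d = x * φ u}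

/-- `{f, z}` -/
def FZ (φ : P6 →* G) : Set G := {φ pf, φ pz}

theorem mem_normalizer_of [Finite G] {S : Set G} {n : G} (h : ∀ d ∈ S, n * d * n⁻¹ ∈ S) : n ∈ normalizer S := by
  have hinj : Set.InjOn (fun d => n * d * n⁻¹) S := fun a _ b _ hab => mul_left_cancel (mul_right_cancel hab)
  have h1 : (fun d => n * d * n⁻¹) '' S = S :=
    Set.eq_of_subset_of_ncard_le (by rintro _ ⟨d, hd, rfl⟩; exact h d hd)
      hinj.ncard_image.ge (Set.toFinite _)
  rw [Subgroup.mem_set_normalizer_iff]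
  intro d
  refine ⟨h d, fun hd => ?_⟩
  have h2 : n * d * n⁻¹ ∈ (fun d => n * d * n⁻¹) '' S := by rw [h1]; exact hd
  obtain ⟨e, he, h3⟩ := h2
  have h4 : n * e * n⁻¹ = n * d * n⁻¹ := h3
  rw [← mul_left_cancel (mul_right_cancel h4)]
  exact he

theorem conj_pw {n : G} (g : G) (i : ZMod 2) : n * pw g i * n⁻¹ = pw (n * g * n⁻¹) i := by
  rcases zmod2 i with rfl | rfl
  · rw [pw_zero, pw_zero, mul_one, mul_inv_cancel]
  · rw [pw_one, pw_one]

theorem Acts.pu {x : G} {φ : P6 →* G} {n : G} {s0 s1 s2 s3 : P6} (h : Acts x φ n s0 s1 s2 s3)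
    (a f z : ZMod 2) : n * φ (pu a 0 f z) * n⁻¹ = φ (pw s1 a * pw s2 f * pw s3 z) := by
  have e1 : n * φ (SixU.pu a 0 f z) * n⁻¹ = (n * pw (φ pa) a * n⁻¹) * (n * pw (φ pf) f * n⁻¹) *
      (n * pw (φ pz) z * n⁻¹) := by
    rw [SixU.pu, pw_zero, mul_one, map_mul, map_mul, SixY.phi_pw, SixY.phi_pw, SixY.phi_pw]; group
  rw [e1, conj_pw, conj_pw, conj_pw, h.aa, h.af, h.az, ← SixY.phi_pw, ← SixY.phi_pw, ← SixY.phi_pw,
    ← map_mul, ← map_mul]

theorem Acts.xpu {x : G} {φ : P6 →* G} {n : G} {s0 s1 s2 s3 : P6} (h : Acts x φ n s0 s1 s2 s3)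
    (a f z : ZMod 2) : n * (x * φ (SixU.pu a 0 f z)) * n⁻¹ = x * φ (s0 * (pw s1 a * pw s2 f * pw s3 z)) := by
  calc n * (x * φ (SixU.pu a 0 f z)) * n⁻¹ = (n * x * n⁻¹) * (n * φ (SixU.pu a 0 f z) * n⁻¹) := by group
    _ = _ := by rw [h.ax, h.pu, map_mul φ s0, mul_assoc]

theorem Acts.mul {x : G} {φ : P6 →* G} {n m : G} {s0 s1 s2 s3 : P6} (h : Acts x φ n s0 s1 s2 s3)
    {a0 f0 z0 a1 f1 z1 a2 f2 z2 a3 f3 z3 : ZMod 2}
    (k : Acts x φ m (SixU.pu a0 0 f0 z0) (SixU.pu a1 0 f1 z1) (SixU.pu a2 0 f2 z2) (SixU.pu a3 0 f3 z3)) :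
    Acts x φ (n * m) (s0 * (pw s1 a0 * pw s2 f0 * pw s3 z0)) (pw s1 a1 * pw s2 f1 * pw s3 z1)
      (pw s1 a2 * pw s2 f2 * pw s3 z2) (pw s1 a3 * pw s2 f3 * pw s3 z3) where
  ax := by
    calc n * m * x * (n * m)⁻¹ = n * (m * x * m⁻¹) * n⁻¹ := by group
      _ = _ := by rw [k.ax, h.xpu]
  aa := by
    calc n * m * φ pa * (n * m)⁻¹ = n * (m * φ pa * m⁻¹) * n⁻¹ := by group
      _ = _ := by rw [k.aa, h.pu]
  af := by
    calc n * m * φ pf * (n * m)⁻¹ = n * (m * φ pf * m⁻¹) * n⁻¹ := by group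
      _ = _ := by rw [k.af, h.pu]
  az := by
    calc n * m * φ pz * (n * m)⁻¹ = n * (m * φ pz * m⁻¹) * n⁻¹ := by group
      _ = _ := by rw [k.az, h.pu]

/-- the finite conditions which give membership in `H` -/
theorem mem_XA_of [Finite G] {x : G} {φ : P6 →* G} {n : G} {s0 s1 s2 s3 : P6} (h : Acts x φ n s0 s1 s2 s3)
    (hs : ∀ a f z : ZMod 2, InB (s0 * (pw s1 a * pw s2 f * pw s3 z))) : n ∈ normalizer (XA x φ) := by
  apply mem_normalizer_of
  rintro _ ⟨u, hu, rfl⟩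
  obtain ⟨a, f, z, rfl⟩ := exists_inB u hu
  exact ⟨_, hs a f z, h.xpu a f z⟩

theorem mem_B0_of [Finite G] {x : G} {φ : P6 →* G} {n : G} {s0 s1 s2 s3 : P6} (h : Acts x φ n s0 s1 s2 s3)
    (hs : ∀ a f z : ZMod 2, InS (SixU.pu a 0 f z) → InS (s0 * (pw s1 a * pw s2 f * pw s3 z))) :
    n ∈ normalizer (B0 x φ) := by
  apply mem_normalizer_of
  rintro _ ⟨u, hu, rfl⟩
  obtain ⟨a, f, z, rfl⟩ : ∃ a f z : ZMod 2, u = SixU.pu a 0 f z := by
    rcases hu with rfl | rfl | rfl | rfl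
    · exact ⟨0, 0, 0, by decide +kernel⟩
    · exact ⟨0, 1, 0, by decide +kernel⟩
    · exact ⟨1, 0, 0, by decide +kernel⟩
    · exact ⟨1, 0, 1, by decide +kernel⟩
  exact ⟨_, hs a f z hu, h.xpu a f z⟩

theorem mem_FZ_of [Finite G] {x : G} {φ : P6 →* G} {n : G} {s0 s1 s2 s3 : P6} (h : Acts x φ n s0 s1 s2 s3)
    (hs : (s2 = pf ∧ s3 = pz) ∨ (s2 = pz ∧ s3 = pf)) : n ∈ normalizer (FZ φ) := by
  apply mem_normalizer_of
  rintro d (rfl | hd)
  · rw [h.af]
    rcases hs with ⟨rfl, -⟩ | ⟨rfl, -⟩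
    · exact Or.inl rfl
    · exact Or.inr rfl
  · rw [hd, h.az]
    rcases hs with ⟨-, rfl⟩ | ⟨-, rfl⟩
    · exact Or.inr rfl
    · exact Or.inl rfl

/-- `H` -/
def HH (x : G) (φ : P6 →* G) : Subgroup G := normalizer (XA x φ) ⊓ normalizer (FZ φ)

namespace SixB

variable {x : G} {φ : P6 →* G}

/-- the action of an element of `N(x φ(A₁))` -/
theorem exists_acts (H : SixB x φ) {n : G} (hn : n ∈ normalizer (XA x φ)) :
    ∃ s0 s1 s2 s3, InB s0 ∧ InB s1 ∧ InB s2 ∧ InB s3 ∧ Acts x φ n s0 s1 s2 s3 := by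
  have key : ∀ u, InB u → ∃ s, InB s ∧ n * (x * φ u) * n⁻¹ = x * φ s := by
    intro u hu
    exact (Subgroup.mem_set_normalizer_iff.1 hn _).1 ⟨u, hu, rfl⟩
  obtain ⟨s0, h0, k0⟩ := key 1 (by decide +kernel)
  rw [map_one, mul_one] at k0
  have key2 : ∀ u, InB u → ∃ s, InB s ∧ n * φ u * n⁻¹ = φ s := by
    intro u hu
    obtain ⟨s, hs, k⟩ := key u hu
    refine ⟨s0 * s, ?_, ?_⟩
    · obtain ⟨a, f, z, rfl⟩ := exists_inB s0 h0
      obtain ⟨a', f', z', rfl⟩ := exists_inB s hs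
      rw [pu_mul, add_zero]
      exact inB_pu _ _ _
    · calc n * φ u * n⁻¹ = (n * x * n⁻¹) * (n * (x * φ u) * n⁻¹) := by
            calc n * φ u * n⁻¹ = n * 1 * φ u * n⁻¹ := by group
              _ = n * (x * x) * φ u * n⁻¹ := by rw [H.xx]
              _ = _ := by group
        _ = x * φ s0 * (x * φ s) := by rw [k0, k]
        _ = x * (φ s0 * x) * φ s := by group
        _ = (x * x) * (φ s0 * φ s) := by rw [H.comm' s0]; group
        _ = φ (s0 * s) := by rw [H.xx, one_mul, map_mul]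
  obtain ⟨s1, h1, k1⟩ := key2 pa (by decide +kernel)
  obtain ⟨s2, h2, k2⟩ := key2 pf (by decide +kernel)
  obtain ⟨s3, h3, k3⟩ := key2 pz (by decide +kernel)
  exact ⟨s0, s1, s2, s3, h0, h1, h2, h3, ⟨k0, k1, k2, k3⟩⟩

theorem FZ_cases (H : SixB x φ) {n : G} (hn : n ∈ normalizer (FZ φ)) :
    (n * φ pf * n⁻¹ = φ pf ∧ n * φ pz * n⁻¹ = φ pz) ∨ (n * φ pf * n⁻¹ = φ pz ∧ n * φ pz * n⁻¹ = φ pf) := by
  have h1 : n * φ pf * n⁻¹ ∈ FZ φ := (Subgroup.mem_set_normalizer_iff.1 hn _).1 (Or.inl rfl)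
  have h2 : n * φ pz * n⁻¹ ∈ FZ φ := (Subgroup.mem_set_normalizer_iff.1 hn _).1 (Or.inr rfl)
  have hne : pf ≠ pz := by decide +kernel
  rcases h1 with h1 | h1 <;> rcases h2 with h2 | h2
  · exact absurd (H.inj (mul_left_cancel (mul_right_cancel (h1.trans h2.symm)))) hne
  · exact Or.inl ⟨h1, h2⟩
  · exact Or.inr ⟨h1, h2⟩
  · exact absurd (H.inj (mul_left_cancel (mul_right_cancel (h1.trans h2.symm)))) hne

/-- the elements of `C(x)` in `H` -/
theorem HH_cent [Finite G] (H : SixB x φ) {n : G} (hn : n ∈ HH x φ) (hx : n * x = x * n) : n ∈ Tee x φ := by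
  have hpf : ∀ u : P6, u * pf * u⁻¹ ≠ pz := by
    intro u h
    have h1 := congrArg Perm.sign h
    rw [Perm.sign_mul, Perm.sign_mul, Perm.sign_inv, mul_comm (Perm.sign u), mul_assoc, Int.units_mul_self,
      mul_one] at h1
    exact absurd h1 (by decide +kernel)
  rcases H.FZ_cases hn.2 with ⟨h1, h2⟩ | ⟨h1, h2⟩
  · rw [mem_Tee]
    exact ⟨hx, mul_inv_eq_iff_eq_mul.1 h1, mul_inv_eq_iff_eq_mul.1 h2⟩
  · exfalso
    obtain ⟨u, rfl | rfl⟩ := H.cases hx
    · rw [← map_inv, ← map_mul, ← map_mul] at h1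
      exact hpf u (H.inj h1)
    · have h3 : x * φ u * φ pf * (x * φ u)⁻¹ = φ (u * pf * u⁻¹) := by
        rw [map_mul, map_mul, map_inv]
        calc x * φ u * φ pf * (x * φ u)⁻¹ = x * (φ u * φ pf * (φ u)⁻¹) * x⁻¹ := by group
          _ = x * φ (u * pf * u⁻¹) * x⁻¹ := by rw [map_mul, map_mul, map_inv]
          _ = φ (u * pf * u⁻¹) := by rw [H.comm, mul_inv_cancel_right]
          _ = _ := by rw [map_mul, map_mul, map_inv]
      rw [h3] at h1
      exact hpf u (H.inj h1)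

/-- the action of the elements of `T` -/
theorem acts_Tee (H : SixB x φ) {t : G} (ht : t ∈ Tee x φ) : ∃ e : ZMod 2, Acts x φ t 1 (pa * pw pz e) pf pz := by
  obtain ⟨u, hu, h⟩ := H.mem_Tee_iff.1 ht
  obtain ⟨a, e, f, z, rfl⟩ := exists_pu u hu
  obtain ⟨h1, h2, h3⟩ := mem_Tee.1 ht
  have h4 : ∀ a e f z : ZMod 2, pu a e f z * pa = pa * pw pz e * pu a e f z := by decide +kernel
  refine ⟨e, ?_, ?_, ?_, ?_⟩
  · rw [h1, mul_inv_cancel_right, map_one, mul_one]
  · rw [mul_inv_eq_iff_eq_mul]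
    rcases h with rfl | rfl
    · rw [← map_mul, ← map_mul, h4]
    · rw [mul_assoc, ← map_mul, h4, map_mul, ← mul_assoc, ← mul_assoc, H.comm]
  · rw [h2, mul_inv_cancel_right]
  · rw [h3, mul_inv_cancel_right]

theorem Tee_le_HH [Finite G] (H : SixB x φ) : Tee x φ ≤ HH x φ := by
  intro t ht
  obtain ⟨e, he⟩ := H.acts_Tee ht
  refine ⟨mem_XA_of he ?_, mem_FZ_of he (Or.inl ⟨rfl, rfl⟩)⟩
  exact (by decide +kernel : ∀ e a f z : ZMod 2, InB (1 * (pw (pa * pw pz e) a * pw pf f * pw pz z))) e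

theorem Tee_le_K [Finite G] (H : SixB x φ) : Tee x φ ≤ normalizer (B0 x φ) := by
  intro t ht
  obtain ⟨e, he⟩ := H.acts_Tee ht
  refine mem_B0_of he ?_
  exact (by decide +kernel : ∀ e a f z : ZMod 2, InS (pu a 0 f z) →
    InS (1 * (pw (pa * pw pz e) a * pw pf f * pw pz z))) e

end SixB

namespace SixY

variable {x : G} {φ : P6 →* G} {y Y : G} {c d r s : ZMod 2}

theorem acts_y (H : SixY x φ y Y c d r s) : Acts x φ y pf (pa * pw pf c) pf pz where
  ax := H.yx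
  aa := H.ya
  af := by rw [H.yf, mul_inv_cancel_right]
  az := by rw [H.yz, mul_inv_cancel_right]

theorem acts_Y (H : SixY x φ y Y c d r s) : Acts x φ Y ph pa pf pz where
  ax := H.Yx
  aa := by rw [H.Ya, mul_inv_cancel_right]
  af := by rw [H.Yf, mul_inv_cancel_right]
  az := by rw [H.Yz, mul_inv_cancel_right]

end SixY

end Cfsg.Agent.OddHalf.D6.SixU

end

-- merged: Cfsg.Agent.OddHalf.D6.SixU.GamB
section

/-!
# ODD D6, `q = 9`, case C3a (B): the end of pattern gamma, part 2 (helper680)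
-/

set_option autoImplicit false

namespace Cfsg.Agent.OddHalf.D6.SixU

open Subgroup Equiv

variable {G : Type*} [Group G]

namespace SixB

variable {x : G} {φ : P6 →* G}

theorem acts_phi (H : SixB x φ) (u : P6) : Acts x φ (φ u) 1 (u * pa * u⁻¹) (u * pf * u⁻¹) (u * pz * u⁻¹) where
  ax := by rw [H.comm', mul_inv_cancel_right, map_one, mul_one]
  aa := by simp only [map_mul, map_inv]
  af := by simp only [map_mul, map_inv]
  az := by simp only [map_mul, map_inv]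

end SixB

namespace SixY

variable {x : G} {φ : P6 →* G} {y Y : G} {c d r s : ZMod 2}

/-- `T₁` acts on `pa` -/
theorem elt_pa (H : SixY x φ y Y c d r s) (v : Code) (f z : ZMod 2) :
    elt x φ y Y v f z * φ pa * (elt x φ y Y v f z)⁻¹ = φ (pu 1 0 (c * v.2.1) v.2.2.2.2) := by
  have h1 : φ pa = elt x φ y Y (0, 0, 0, 1, 0) 0 0 := by
    have : pa = pu 1 0 0 0 := by decide +kernel
    simp [elt, ← this]
  have h2 : φ (pu 1 0 (c * v.2.1) v.2.2.2.2) = elt x φ y Y (0, 0, 0, 1, 0) (c * v.2.1) v.2.2.2.2 := by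
    simp [elt]
  rw [mul_inv_eq_iff_eq_mul, h1, h2, H.elt_mul, H.elt_mul, add_comm v]
  simp only [kf, kz]
  have key : ∀ i : ZMod 2, i + i = 0 := z2_add_self
  congr 1
  · linear_combination -(key (c * v.2.1))
  · ring

/-- `T₁` acts on `x` -/
theorem elt_x (H : SixY x φ y Y c d r s) (v : Code) (f z : ZMod 2) :
    elt x φ y Y v f z * x * (elt x φ y Y v f z)⁻¹ = x * φ (zz (v.2.1 + v.2.2.1) v.2.2.1) := by
  have h1 : x = elt x φ y Y (1, 0, 0, 0, 0) 0 0 := by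
    simp [elt, pu_zero]
  have h2 : x * φ (zz (v.2.1 + v.2.2.1) v.2.2.1) = elt x φ y Y (1, 0, 0, 0, 0) (v.2.1 + v.2.2.1) v.2.2.1 := by
    rw [zz_eq_pu]
    simp [elt]
  rw [h2, mul_inv_eq_iff_eq_mul]
  nth_rewrite 2 [h1]
  rw [H.elt_mul, H.elt_mul, add_comm v]
  simp only [kf, kz]
  congr 1 <;> ring

/-- `T₁` centralizes `pf` and `pz` -/
theorem elt_zz (H : SixY x φ y Y c d r s) (v : Code) (f z i j : ZMod 2) :
    elt x φ y Y v f z * φ (zz i j) * (elt x φ y Y v f z)⁻¹ = φ (zz i j) := by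
  have h1 : φ (zz i j) = elt x φ y Y 0 i j := by
    rw [zz_eq_pu]
    simp [elt]
  rw [mul_inv_eq_iff_eq_mul, h1, H.elt_mul, H.elt_mul, add_comm v]
  simp only [kf_zero_left, kf_zero_right, kz_zero_left, kz_zero_right]
  congr 1 <;> ring

theorem acts_elt (H : SixY x φ y Y c d r s) (v : Code) (f z : ZMod 2) :
    Acts x φ (elt x φ y Y v f z) (zz (v.2.1 + v.2.2.1) v.2.2.1) (pu 1 0 (c * v.2.1) v.2.2.2.2) pf pz where
  ax := H.elt_x v f z
  aa := H.elt_pa v f z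
  af := by
    have h1 : pf = zz 1 0 := by decide +kernel
    rw [h1]; exact H.elt_zz v f z 1 0
  az := by
    have h1 : pz = zz 0 1 := by decide +kernel
    rw [h1]; exact H.elt_zz v f z 0 1

theorem elt_mem_HH [Finite G] (H : SixY x φ y Y c d r s) (v : Code) (f z : ZMod 2) :
    elt x φ y Y v f z ∈ HH x φ := by
  refine ⟨mem_XA_of (H.acts_elt v f z) ?_, mem_FZ_of (H.acts_elt v f z) (Or.inl ⟨rfl, rfl⟩)⟩
  have key : ∀ i j k l a f z : ZMod 2, InB (zz i j * (pw (pu 1 0 k l) a * pw pf f * pw pz z)) := by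
    decide +kernel
  exact key _ _ _ _

theorem mem_T1_of_Tee (H : SixY x φ y Y c d r s) {t : G} (ht : t ∈ Tee x φ) :
    ∃ v f z, t = elt x φ y Y v f z ∧ v.2.1 = 0 ∧ v.2.2.1 = 0 := by
  obtain ⟨u, hu, h⟩ := H.mem_Tee_iff.1 ht
  obtain ⟨a, e, f, z, rfl⟩ := exists_pu u hu
  rcases h with rfl | rfl
  · exact ⟨(0, 0, 0, a, e), f, z, by simp [elt], rfl, rfl⟩
  · exact ⟨(1, 0, 0, a, e), f, z, by simp [elt], rfl, rfl⟩

end SixY

namespace Gamma

variable {x : G} {φ : P6 →* G} {y Y : G}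

/-- the element `g` -/
def gg (φ : P6 →* G) (y : G) : G := φ ps * (y * φ pe) * φ ps⁻¹

theorem acts_g (H : Gamma x φ y Y) : Acts x φ (gg φ y) pa pa pz pf := by
  have e1 : Acts x φ (φ ps⁻¹) (pu 0 0 0 0) (pu 0 0 1 0) (pu 1 0 0 1) (pu 1 0 1 0) := by
    have h := H.acts_phi ps⁻¹
    have k1 : (1 : P6) = pu 0 0 0 0 := by decide +kernel
    have k2 : ps⁻¹ * pa * ps⁻¹⁻¹ = pu 0 0 1 0 := by decide +kernel
    have k3 : ps⁻¹ * pf * ps⁻¹⁻¹ = pu 1 0 0 1 := by decide +kernel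
    have k4 : ps⁻¹ * pz * ps⁻¹⁻¹ = pu 1 0 1 0 := by decide +kernel
    rwa [k1, k2, k3, k4] at h
  have e2 : Acts x φ (φ pe) (pu 0 0 0 0) (pu 1 0 0 1) (pu 0 0 1 0) (pu 0 0 0 1) := by
    have h := H.acts_phi pe
    have k1 : (1 : P6) = pu 0 0 0 0 := by decide +kernel
    have k2 : pe * pa * pe⁻¹ = pu 1 0 0 1 := by decide +kernel
    have k3 : pe * pf * pe⁻¹ = pu 0 0 1 0 := by decide +kernel
    have k4 : pe * pz * pe⁻¹ = pu 0 0 0 1 := by decide +kernel
    rwa [k1, k2, k3, k4] at h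
  have e3 : Acts x φ (y * φ pe) (pu 0 0 1 0) (pu 1 0 1 1) (pu 0 0 1 0) (pu 0 0 0 1) := by
    have h := H.acts_y.mul e2
    have k1 : pf * (pw (pa * pw pf 1) 0 * pw pf 0 * pw pz 0) = pu 0 0 1 0 := by decide +kernel
    have k2 : pw (pa * pw pf 1) 1 * pw pf 0 * pw pz 1 = pu 1 0 1 1 := by decide +kernel
    have k3 : pw (pa * pw pf 1) 0 * pw pf 1 * pw pz 0 = pu 0 0 1 0 := by decide +kernel
    have k4 : pw (pa * pw pf 1) 0 * pw pf 0 * pw pz 1 = pu 0 0 0 1 := by decide +kernel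
    rwa [k1, k2, k3, k4] at h
  have e4 := (H.acts_phi ps).mul e3
  have k1 : 1 * (pw (ps * pa * ps⁻¹) 0 * pw (ps * pf * ps⁻¹) 1 * pw (ps * pz * ps⁻¹) 0) = pa := by decide +kernel
  have k2 : pw (ps * pa * ps⁻¹) 1 * pw (ps * pf * ps⁻¹) 1 * pw (ps * pz * ps⁻¹) 1 = pa * pf := by decide +kernel
  have k3 : pw (ps * pa * ps⁻¹) 0 * pw (ps * pf * ps⁻¹) 1 * pw (ps * pz * ps⁻¹) 0 = pa := by decide +kernel
  have k4 : pw (ps * pa * ps⁻¹) 0 * pw (ps * pf * ps⁻¹) 0 * pw (ps * pz * ps⁻¹) 1 = pa * pf * pz := by decide +kernel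
  rw [k1, k2, k3, k4] at e4
  have e5 := e4.mul e1
  have l1 : pa * (pw (pa * pf) 0 * pw pa 0 * pw (pa * pf * pz) 0) = pa := by decide +kernel
  have l2 : pw (pa * pf) 0 * pw pa 1 * pw (pa * pf * pz) 0 = pa := by decide +kernel
  have l3 : pw (pa * pf) 1 * pw pa 0 * pw (pa * pf * pz) 1 = pz := by decide +kernel
  have l4 : pw (pa * pf) 1 * pw pa 1 * pw (pa * pf * pz) 0 = pf := by decide +kernel
  rw [l1, l2, l3, l4] at e5
  exact e5

end Gamma

end Cfsg.Agent.OddHalf.D6.SixU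

end

-- merged: Cfsg.Agent.OddHalf.D6.SixU.GamC
section

/-!
# ODD D6, `q = 9`, case C3a (B): the end of pattern gamma, part 3 (helper680)
-/

set_option autoImplicit false

namespace Cfsg.Agent.OddHalf.D6.SixU

open Subgroup Equiv

variable {G : Type*} [Group G]

namespace Gamma

variable {x : G} {φ : P6 →* G} {y Y : G}

theorem y_mem (H : Gamma x φ y Y) [Finite G] : y ∈ HH x φ ⊓ normalizer (B0 x φ) := by
  refine ⟨⟨mem_XA_of H.acts_y ?_, mem_FZ_of H.acts_y (Or.inl ⟨rfl, rfl⟩)⟩, mem_B0_of H.acts_y ?_⟩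
  · decide +kernel
  · decide +kernel

theorem g_mem (H : Gamma x φ y Y) [Finite G] : gg φ y ∈ HH x φ ⊓ normalizer (B0 x φ) := by
  refine ⟨⟨mem_XA_of H.acts_g ?_, mem_FZ_of H.acts_g (Or.inr ⟨rfl, rfl⟩)⟩, mem_B0_of H.acts_g ?_⟩
  · decide +kernel
  · decide +kernel

theorem Y_mem (H : Gamma x φ y Y) [Finite G] : Y ∈ HH x φ := by
  refine ⟨mem_XA_of H.acts_Y ?_, mem_FZ_of H.acts_Y (Or.inl ⟨rfl, rfl⟩)⟩
  decide +kernel

/-- an element of `x φ(A₁)` in `B₀` -/
theorem mem_B0 (H : Gamma x φ y Y) {u : P6} : x * φ u ∈ B0 x φ ↔ InS u := by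
  constructor
  · rintro ⟨v, hv, h⟩
    rw [H.inj (mul_left_cancel h)]
    exact hv
  · exact fun h => ⟨u, h, rfl⟩

theorem x_mem_B0 (_ : Gamma x φ y Y) : x ∈ B0 x φ := ⟨1, Or.inl rfl, by rw [map_one, mul_one]⟩

theorem Y_notMem (H : Gamma x φ y Y) : Y ∉ normalizer (B0 x φ) := by
  intro h
  have h1 := (Subgroup.mem_set_normalizer_iff.1 h x).1 H.x_mem_B0
  rw [H.Yx, H.mem_B0] at h1
  exact absurd h1 (by decide +kernel)

theorem pw_mem {K : Subgroup G} {g : G} (hg : g ∈ K) (i : ZMod 2) : pw g i ∈ K := by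
  rcases zmod2 i with rfl | rfl
  · exact K.one_mem
  · exact hg

/-- the decomposition of `H` -/
theorem decomp (H : Gamma x φ y Y) [Finite G] {n : G} (hn : n ∈ HH x φ) :
    ∃ k i j : ZMod 2, ∃ t ∈ Tee x φ, n = pw Y k * (pw (gg φ y) i * (pw y j * t)) := by
  obtain ⟨s0, s1, s2, s3, h0, -, -, -, ha⟩ := H.exists_acts hn.1
  obtain ⟨a, f, z, rfl⟩ := exists_inB s0 h0
  -- the action of the product on `x`
  have key : ∀ k i j : ZMod 2, (pw Y k * (pw (gg φ y) i * pw y j)) * x * (pw Y k * (pw (gg φ y) i * pw y j))⁻¹ =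
      x * φ (pw ph k * (pw pa i * (pw pf (j * (1 + i)) * pw pz (j * i)))) := by
    intro k i j
    have e1 : pw y j * x * (pw y j)⁻¹ = x * φ (pw pf j) := by
      rcases zmod2 j with rfl | rfl
      · simp
      · exact H.yx
    have e2 : pw (gg φ y) i * (x * φ (pw pf j)) * (pw (gg φ y) i)⁻¹ =
        x * φ (pw pa i * (pw pf (j * (1 + i)) * pw pz (j * i))) := by
      rcases zmod2 i with rfl | rfl
      · simp
      · have hg := H.acts_g.xpu 0 j 0
        have k1 : pu 0 0 j 0 = pw pf j := by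
          rcases zmod2 j with rfl | rfl <;> decide +kernel
        rw [k1] at hg
        rw [pw_one, hg]
        congr 2
        rcases zmod2 j with rfl | rfl <;> decide +kernel
    have e3 : ∀ u, InB u → pw Y k * (x * φ u) * (pw Y k)⁻¹ = x * φ (pw ph k * u) := by
      intro u hu
      rcases zmod2 k with rfl | rfl
      · simp
      · obtain ⟨a, f, z, rfl⟩ := exists_inB u hu
        rw [pw_one, H.acts_Y.xpu a f z]
        congr 2
    calc (pw Y k * (pw (gg φ y) i * pw y j)) * x * (pw Y k * (pw (gg φ y) i * pw y j))⁻¹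
        = pw Y k * (pw (gg φ y) i * (pw y j * x * (pw y j)⁻¹) * (pw (gg φ y) i)⁻¹) * (pw Y k)⁻¹ := by group
      _ = _ := by
          rw [e1, e2, e3]
          exact (by decide +kernel : ∀ i j : ZMod 2, InB (pw pa i * (pw pf (j * (1 + i)) * pw pz (j * i)))) i j
  have surj : ∀ a f z : ZMod 2, ∃ k i j : ZMod 2,
      pu a 0 f z = pw ph k * (pw pa i * (pw pf (j * (1 + i)) * pw pz (j * i))) := by decide +kernel
  obtain ⟨k, i, j, hk⟩ := surj a f z
  have h1 := key k i j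
  rw [← hk, ← ha.ax] at h1
  refine ⟨k, i, j, (pw Y k * (pw (gg φ y) i * pw y j))⁻¹ * n, ?_, by group⟩
  apply H.HH_cent
  · refine (HH x φ).mul_mem ((HH x φ).inv_mem ((HH x φ).mul_mem (pw_mem H.Y_mem k)
      ((HH x φ).mul_mem (pw_mem H.g_mem.1 i) (pw_mem H.y_mem.1 j)))) hn
  · exact Six.Parity.aux h1

/-- `|H| = 256` -/
theorem card_HH (H : Gamma x φ y Y) [Finite G] : Nat.card (HH x φ) = 256 := by
  rw [Six.Parity.card_orbit x (HH x φ)]
  have h1 : (HH x φ ⊓ centralizer {x} : Subgroup G) = Tee x φ := by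
    apply le_antisymm
    · rintro n ⟨hn, hx⟩
      exact H.HH_cent hn (mem_centralizer_singleton_iff.1 hx)
    · intro t ht
      exact ⟨H.Tee_le_HH ht, H.Tee_le ht⟩
  have h2 : {d : G | ∃ h ∈ HH x φ, h * x * h⁻¹ = d} = XA x φ := by
    ext d
    constructor
    · rintro ⟨n, hn, rfl⟩
      exact (Subgroup.mem_set_normalizer_iff.1 hn.1 x).1 ⟨1, by decide +kernel, by rw [map_one, mul_one]⟩
    · rintro ⟨u, hu, rfl⟩
      obtain ⟨a, f, z, rfl⟩ := exists_inB u hu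
      have e1 : ∀ n ∈ HH x φ, ∀ m ∈ HH x φ, n * m ∈ HH x φ := fun n hn m hm => (HH x φ).mul_mem hn hm
      -- explicit elements
      rcases zmod2 a with rfl | rfl
      · -- `pu 0 0 f z`, by `elt`
        refine ⟨elt x φ y Y (0, f + z, z, 0, 0) 0 0, H.elt_mem_HH _ _ _, ?_⟩
        rw [H.elt_x, zz_eq_pu]
        congr 3
        revert f z; decide
      · refine ⟨gg φ y * elt x φ y Y (0, z + f, f, 0, 0) 0 0, e1 _ H.g_mem.1 _ (H.elt_mem_HH _ _ _), ?_⟩
        have h3 := H.elt_x (0, z + f, f, 0, 0) 0 0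
        rw [zz_eq_pu] at h3
        have h4 := H.acts_g.xpu 0 (z + f + f) f
        calc gg φ y * elt x φ y Y (0, z + f, f, 0, 0) 0 0 * x * (gg φ y * elt x φ y Y (0, z + f, f, 0, 0) 0 0)⁻¹
            = gg φ y * (elt x φ y Y (0, z + f, f, 0, 0) 0 0 * x * (elt x φ y Y (0, z + f, f, 0, 0) 0 0)⁻¹) *
                (gg φ y)⁻¹ := by group
          _ = x * φ (pu 1 0 f z) := by
              rw [h3]
              rw [h4]
              congr 2
              exact (by decide +kernel : ∀ f z : ZMod 2,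
                pa * (pw pa 0 * pw pz (z + f + f) * pw pf f) = pu 1 0 f z) f z
  rw [h1, h2, H.card_Tee]
  have h3 : (XA x φ).ncard = 8 := by
    have h4 : XA x φ = (fun p : ZMod 2 × ZMod 2 × ZMod 2 => x * φ (pu p.1 0 p.2.1 p.2.2)) '' Set.univ := by
      ext d
      constructor
      · rintro ⟨u, hu, rfl⟩
        obtain ⟨a, f, z, rfl⟩ := exists_inB u hu
        exact ⟨(a, f, z), Set.mem_univ _, rfl⟩
      · rintro ⟨p, -, rfl⟩
        exact ⟨_, inB_pu _ _ _, rfl⟩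
    rw [h4, Set.ncard_image_of_injective, Set.ncard_univ, Nat.card_eq_fintype_card]
    · rfl
    · rintro ⟨a, f, z⟩ ⟨a', f', z'⟩ h
      have h5 := pu_inj _ _ _ _ _ _ _ _ (H.inj (mul_left_cancel h))
      obtain ⟨h6, -, h7, h8⟩ := h5
      have h6' : a = a' := h6
      have h7' : f = f' := h7
      have h8' : z = z' := h8
      rw [h6', h7', h8']
  rw [h3]

/-- an element of `H` which centralizes `pf` is in `T₁` -/
theorem mem_T1 (H : Gamma x φ y Y) [Finite G] {n : G} (hn : n ∈ HH x φ) (hf : n * φ pf * n⁻¹ = φ pf) :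
    ∃ v f z, n = elt x φ y Y v f z := by
  obtain ⟨k, i, j, t, ht, rfl⟩ := H.decomp hn
  obtain ⟨v, f, z, rfl, hv⟩ := H.mem_T1_of_Tee ht
  have hi : i = 0 := by
    rcases zmod2 i with rfl | rfl
    · rfl
    · exfalso
      have e1 := H.elt_zz v f z 1 0
      have k1 : zz 1 0 = pf := by decide +kernel
      rw [k1] at e1
      have e2 : pw y j * φ pf * (pw y j)⁻¹ = φ pf := by
        rcases zmod2 j with rfl | rfl
        · simp
        · rw [pw_one, H.yf, mul_inv_cancel_right]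
      have e3 : pw Y k * φ pz * (pw Y k)⁻¹ = φ pz := by
        rcases zmod2 k with rfl | rfl
        · simp
        · rw [pw_one, H.Yz, mul_inv_cancel_right]
      have e4 : pw Y k * (pw (gg φ y) 1 * (pw y j * elt x φ y Y v f z)) * φ pf *
          (pw Y k * (pw (gg φ y) 1 * (pw y j * elt x φ y Y v f z)))⁻¹ = φ pz := by
        calc pw Y k * (pw (gg φ y) 1 * (pw y j * elt x φ y Y v f z)) * φ pf *
              (pw Y k * (pw (gg φ y) 1 * (pw y j * elt x φ y Y v f z)))⁻¹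
            = pw Y k * (pw (gg φ y) 1 * (pw y j * (elt x φ y Y v f z * φ pf * (elt x φ y Y v f z)⁻¹) *
                (pw y j)⁻¹) * (pw (gg φ y) 1)⁻¹) * (pw Y k)⁻¹ := by group
          _ = φ pz := by rw [e1, e2, pw_one, H.acts_g.af, e3]
      rw [hf] at e4
      exact absurd (H.inj e4) (by decide +kernel)
  subst hi
  have e1 : pw Y k = elt x φ y Y (0, 0, k, 0, 0) 0 0 := by simp [elt, pu_zero]
  have e2 : pw y j = elt x φ y Y (0, j, 0, 0, 0) 0 0 := by simp [elt, pu_zero]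
  rw [pw_zero, one_mul, e1, e2, H.elt_mul, H.elt_mul]
  exact ⟨_, _, _, rfl⟩

end Gamma

end Cfsg.Agent.OddHalf.D6.SixU

end
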