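import Cfsg.Agent.OddHalf.D6.SixU.AlphaFalse
import Cfsg.Agent.OddHalf.D6.SixU.BetaFalse
import Cfsg.Agent.OddHalf.D6.SixU.GamD
import Cfsg.Agent.OddHalf.D6.SixU.NoSwap
import Cfsg.Agent.OddHalf.D6.SixU.GamC
import Cfsg.Agent.OddHalf.D6.Six.Reduce

/-!
# ODD D6, `q = 9`: an involution with centralizer `⟨x⟩ × S₆` does not exist (helper680)
-/

set_option autoImplicit false

namespace Cfsg.Agent.OddHalf.D6.SixU

open Subgroup Equiv

/-- **the uniform case (B)** -/
theorem SixB.false {G : Type*} [Group G] [Finite G] (hG : ∀ H : Subgroup G, H.index ≠ 2) {x : G} {φ : P6 →* G}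
    (H : SixB x φ) : False := by
  obtain ⟨y, Y, c, d, r, s, h⟩ := H.exists_pair (fun n hn hs => H.no_swap hG hn hs)
  rcases h.survivors hG with h | h | h | h
  · exact h.false hG
  · exact h.false hG
  · exact h.false hG
  · exact h.false hG

/-- **C3a**: the case `C(x) = ⟨x⟩ × S₆` is impossible -/
theorem ssix_false {G : Type*} [Group G] [Finite G] (hG : ∀ H : Subgroup G, H.index ≠ 2)
    (hr : ¬ SectionalPRankLE 2 4 G) {x : G} {φ : Perm (Fin 6) →* G} (S : Six.SSix x φ) : False := by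
  obtain ⟨φ', U⟩ := S.reduce (hom_trivial hG) hr
  exact (SixB.ofUni U).false hG

end Cfsg.Agent.OddHalf.D6.SixU
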