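import Cfsg.Agent.OddHalf.D6.SixU.SwapA
import Cfsg.Agent.OddHalf.D6.SixU.TFabTwo

/-!
# ODD D6, `C_G(x) = ⟨x⟩ × S₆`, uniform pattern: no element of `N_G(T)` swaps the two `E₁₆` of `T` (helper708)

helper751's #11768 (2): the two applications of the transfer formula, both with `H = N_G(T)`.
-/

set_option autoImplicit false

namespace Cfsg.Agent.OddHalf.D6.SixU.SwapA

open Subgroup Equiv
open Cfsg.Agent.OddHalf.D6.Six
open Cfsg.Agent.OddHalf.D6.SixU.NT Cfsg.Agent.OddHalf.D6.SixU.TwoE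

variable {G : Type*} [Group G] {x : G} {φ : Perm (Fin 6) →* G}

/-! `NY_c1` by the image of `0` (only to make the kernel checks light) -/

set_option Elab.async false in
theorem NY_c1_0 : ∀ p : Perm (Fin 6), p 0 = 0 → NY e0 p → p * c1 = c1 * p := by decide +kernel
set_option Elab.async false in
theorem NY_c1_1 : ∀ p : Perm (Fin 6), p 0 = 1 → NY e0 p → p * c1 = c1 * p := by decide +kernel
set_option Elab.async false in
theorem NY_c1_2 : ∀ p : Perm (Fin 6), p 0 = 2 → NY e0 p → p * c1 = c1 * p := by decide +kernel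
set_option Elab.async false in
theorem NY_c1_3 : ∀ p : Perm (Fin 6), p 0 = 3 → NY e0 p → p * c1 = c1 * p := by decide +kernel
set_option Elab.async false in
theorem NY_c1_4 : ∀ p : Perm (Fin 6), p 0 = 4 → NY e0 p → p * c1 = c1 * p := by decide +kernel
set_option Elab.async false in
theorem NY_c1_5 : ∀ p : Perm (Fin 6), p 0 = 5 → NY e0 p → p * c1 = c1 * p := by decide +kernel

theorem NY_c1 : ∀ p : Perm (Fin 6), NY e0 p → p * c1 = c1 * p := by
  have key : ∀ k : Fin 6, ∀ p : Perm (Fin 6), p 0 = k → NY e0 p → p * c1 = c1 * p := by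
    intro k
    fin_cases k
    · exact NY_c1_0
    · exact NY_c1_1
    · exact NY_c1_2
    · exact NY_c1_3
    · exact NY_c1_4
    · exact NY_c1_5
  exact fun p => key (p 0) p rfl

set_option Elab.async false in
/-- the orbit of `x` under `N(E_e)` is `x V₁` -/
theorem dec3 : ∀ p : Perm (Fin 6), YY e0 p → ((ZZ p → p = 1 ∨ p = c2) ∧
      (ZZ (r1 * p * r1⁻¹) → r1 * p * r1⁻¹ = 1 ∨ r1 * p * r1⁻¹ = c2) ∧
      (ZZ (r1 * (r1 * p * r1⁻¹) * r1⁻¹) → r1 * (r1 * p * r1⁻¹) * r1⁻¹ = 1 ∨ r1 * (r1 * p * r1⁻¹) * r1⁻¹ = c2)) →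
      (p = 1 ∨ p = c2) ∨ p = e0 ∨ p = c2 * e0 := by decide +kernel

set_option Elab.async false in
/-- the orbit of `x` under `N(E_a)` is `x V₂` -/
theorem dec4 : ∀ p : Perm (Fin 6), YY a0 p → ((ZZ p → p = 1 ∨ p = c2) ∧
      (ZZ (r2 * p * r2⁻¹) → r2 * p * r2⁻¹ = 1 ∨ r2 * p * r2⁻¹ = c2) ∧
      (ZZ (r2 * (r2 * p * r2⁻¹) * r2⁻¹) → r2 * (r2 * p * r2⁻¹) * r2⁻¹ = 1 ∨ r2 * (r2 * p * r2⁻¹) * r2⁻¹ = c2)) →
      (p = 1 ∨ p = c2) ∨ p = a0 * c1 ∨ p = c2 * (a0 * c1) := by decide +kernel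

set_option Elab.async false in
theorem dec5 : ∀ p : Perm (Fin 6), PP p → (ZZ p ∨ ZZ (a0 * p)) ∨ ZZ (e0 * p) ∨ ZZ (a0 * (e0 * p)) := by
  decide +kernel

section perms

set_option Elab.async false

theorem q1 : c2 * (c3 * c2) = c3 := by decide +kernel
theorem q2 : c1 * c2 = c3 := by decide +kernel
theorem q3 : c3 * c2 = c1 := by decide +kernel
theorem q4 : c1 * c3 = c2 := by decide +kernel
theorem q5 : c3 * c1 = c2 := by decide +kernel
theorem q6 : r1 * e0 * r1⁻¹ = c2 := by decide +kernel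
theorem q7 : r1 * (r1 * (c2 * e0) * r1⁻¹) * r1⁻¹ = c2 := by decide +kernel
theorem q8 : r1 * (r1 * c2 * r1⁻¹) * r1⁻¹ = e0 := by decide +kernel
theorem q9 : c2 * c2 = 1 := by decide +kernel
theorem q10 : c2 * (c2 * e0) = e0 := by decide +kernel
theorem q11 : r2 * c2 * r2⁻¹ = a0 * c1 ∨ r2 * (r2 * c2 * r2⁻¹) * r2⁻¹ = a0 * c1 := by decide +kernel
theorem q12 : c2 * (a0 * c1) * c1 = c2 * a0 := by decide +kernel
theorem q13 : c2 * (c2 * (a0 * c1)) * c1 = a0 := by decide +kernel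
theorem q14 : e0 * a0 * e0⁻¹ = c2 * a0 := by decide +kernel
theorem q15 : a0 * e0 * a0⁻¹ = c2 * e0 := by decide +kernel
theorem q16 : a0 * e0 * a0 * (a0 * e0)⁻¹ = c2 * a0 := by decide +kernel
theorem q17 : a0 * e0 * e0 * (a0 * e0)⁻¹ = c2 * e0 := by decide +kernel
theorem q18 : c2 * (c2 * a0) = a0 := by decide +kernel
theorem q19 : e0 * e0 * e0⁻¹ = e0 := by decide +kernel
theorem q20 : a0 * a0 * a0⁻¹ = a0 := by decide +kernel
theorem q21 : c1 * c1 = 1 := by decide +kernel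
theorem q22 : r1 * c1 = c1 * r1 := by decide +kernel
theorem q23 : r2 * c1 ≠ c1 * r2 := by decide +kernel
theorem q24 : (1 : Perm (Fin 6)) ≠ c2 := by decide +kernel
theorem q25 : c2 ≠ 1 := by decide +kernel
theorem q26 : e0 ≠ c2 := by decide +kernel
theorem q27 : e0 ≠ 1 := by decide +kernel
theorem q28 : a0 * c1 ≠ c2 := by decide +kernel
theorem q29 : a0 * c1 ≠ 1 := by decide +kernel
theorem q30 : a0 * a0 = 1 := by decide +kernel
theorem q31 : e0 * e0 = 1 := by decide +kernel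
theorem PP_a0 : PP a0 := by decide +kernel
theorem PP_e0 : PP e0 := by decide +kernel
theorem PP_ae : PP (a0 * e0) := by decide +kernel
theorem PP_one : PP 1 := by decide +kernel

end perms

namespace Sw

variable {n : G}

/-- `g` centralises `φ c₁` -/
theorem g_c1 [Finite G] (U : Uni x φ) {g : G} (hg : g ∈ normalizer (TT x φ : Set G))
    (hgx : g * x * g⁻¹ = x * φ c2) : g * φ c1 * g⁻¹ = φ c1 := by
  have S := U.toSSix
  rcases conj_c1 U hg with h | h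
  · exact h
  · exfalso
    have h1 : g * (x * φ c3) * g⁻¹ = x * φ c3 := by
      calc g * (x * φ c3) * g⁻¹ = (g * x * g⁻¹) * ((g * φ c1 * g⁻¹) * (g * φ c2 * g⁻¹)) := by
            rw [← q2, map_mul φ c1 c2]; group
        _ = x * φ c2 * (φ c3 * φ c2) := by rw [hgx, h, fix_c2 S hg]
        _ = x * φ (c2 * (c3 * c2)) := by rw [map_mul φ c2 (c3 * c2), map_mul φ c3 c2, mul_assoc]
        _ = x * φ c3 := by rw [q1]
    have h2 := fix_xs U hg c3_mem h1
    have h3 : g * x * g⁻¹ = x := by rw [(mem_TT.1 h2).1, mul_inv_cancel_right]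
    rw [hgx] at h3
    have h4 := S.mul_inj (h3.trans (by rw [map_one, mul_one] : x = x * φ 1))
    exact q25 h4

/-- `N(E_e)` centralises `φ c₁` -/
theorem norm_c1 [Finite G] (W : Sw x φ n) {g : G} (hg : g ∈ P0 x φ) (hgx : g * x * g⁻¹ = x * φ c2)
    (hP : ∀ h ∈ P0 x φ, h * x * h⁻¹ = x ∨ h * x * h⁻¹ = x * φ c2) {h : G}
    (hh : h ∈ normalizer (EB x φ e0 : Set G)) : h * φ c1 = φ c1 * h := by
  have S := W.uni.toSSix
  -- elements fixing `x`
  have h0 : ∀ k ∈ normalizer (EB x φ e0 : Set G), k * x * k⁻¹ = x → k * φ c1 = φ c1 * k := by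
    intro k hk hkx
    obtain ⟨p, hp⟩ := S.cx k (mul_inv_eq_iff_eq_mul.1 hkx)
    have h1 := NY_c1 p ((mem_norm_iff S (Or.inr rfl) hp).1 hk)
    have h2 := conj_phi S (q := c1) hp
    rw [h1, mul_inv_cancel_right] at h2
    exact mul_inv_eq_iff_eq_mul.1 h2
  have hgc : g * φ c1 = φ c1 * g := mul_inv_eq_iff_eq_mul.1 (g_c1 W.uni hg.1 hgx)
  have hgN : g ∈ normalizer (EB x φ e0 : Set G) := MM_normalizer.1 (P0_MM S (Or.inr rfl) hg)
  -- elements mapping `x` to `x φ c₂`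
  have h1 : ∀ k ∈ normalizer (EB x φ e0 : Set G), k * x * k⁻¹ = x ∨ k * x * k⁻¹ = x * φ c2 →
      k * φ c1 = φ c1 * k := by
    rintro k hk (hkx | hkx)
    · exact h0 k hk hkx
    · have h2 := h0 (g⁻¹ * k) (mul_mem (inv_mem hgN) hk) (by
        calc g⁻¹ * k * x * (g⁻¹ * k)⁻¹ = g⁻¹ * (k * x * k⁻¹) * g := by group
          _ = g⁻¹ * (g * x * g⁻¹) * g := by rw [hkx, hgx]
          _ = x := by group)
      calc k * φ c1 = g * (g⁻¹ * k * φ c1) := by group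
        _ = g * φ c1 * (g⁻¹ * k) := by rw [h2]; group
        _ = φ c1 * k := by rw [hgc]; group
  obtain ⟨p, hp, h2⟩ := orb_mem W.uni hh
  have hr : φ r1 * φ c1 = φ c1 * φ r1 := by
    rw [← map_mul φ r1 c1, ← map_mul φ c1 r1, q22]
  have hrc : ∀ k, φ r1 * k * φ c1 = φ c1 * (φ r1 * k) → k * φ c1 = φ c1 * k := by
    intro k hk
    apply mul_left_cancel (a := φ r1)
    calc φ r1 * (k * φ c1) = φ r1 * k * φ c1 := by group
      _ = φ c1 * φ r1 * k := by rw [hk]; group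
      _ = φ r1 * (φ c1 * k) := by rw [← hr]; group
  obtain ⟨h3, h4⟩ := orb_rot S (Or.inr rfl : BB e0) NY_r1 hh h2
  obtain ⟨h5, h6⟩ := orb_rot S (Or.inr rfl : BB e0) NY_r1 h3 h4
  rcases dec3 p hp (W.orb_cond hP (Or.inr rfl) NY_r1 hh h2) with (rfl | rfl) | rfl | rfl
  · exact h1 h hh (Or.inl (by rw [h2, map_one, mul_one]))
  · exact h1 h hh (Or.inr h2)
  · apply hrc
    apply h1 _ h3
    right
    rw [h4, q6]
  · apply hrc
    apply hrc
    apply h1 _ h5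
    right
    rw [h6, q7]

/-- `n φ(c₁) n⁻¹ = φ(c₃)` -/
theorem n_c1 [Finite G] (W : Sw x φ n) : n * φ c1 * n⁻¹ = φ c3 := by
  have S := W.uni.toSSix
  obtain ⟨g, hg, hgx, hP⟩ := W.exists_g2
  rcases conj_c1 W.uni W.hn with h | h
  · exfalso
    have h1 : φ r2 ∈ normalizer (EB x φ a0 : Set G) := (mem_norm_iff S (Or.inl rfl) (Or.inl rfl)).2 NY_r2
    have h2 : n⁻¹ * φ r2 * n ∈ normalizer (EB x φ e0 : Set G) :=
      MM_normalizer.1 ((W.ea.inv.mul (MM_normalizer.2 h1)).mul W.ea)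
    have h3 := W.norm_c1 hg hgx hP h2
    have h4 : φ r2 * φ c1 = φ c1 * φ r2 := by
      calc φ r2 * φ c1 = φ r2 * (n * φ c1 * n⁻¹) := by rw [h]
        _ = n * (n⁻¹ * φ r2 * n * φ c1) * n⁻¹ := by group
        _ = n * (φ c1 * (n⁻¹ * φ r2 * n)) * n⁻¹ := by rw [h3]
        _ = (n * φ c1 * n⁻¹) * φ r2 := by group
        _ = φ c1 * φ r2 := by rw [h]
    exact q23 (S.comm_iff.1 h4)
  · exact h

/-- `n² x n⁻² = x φ(c₂)` -/
theorem n_sq [Finite G] (W : Sw x φ n) : n * n * x * (n * n)⁻¹ = x * φ c2 := by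
  have S := W.uni.toSSix
  obtain ⟨g, hg, hgx, hP⟩ := W.exists_g2
  obtain ⟨s, hs, h⟩ := conj_x W.uni W.hn
  have h1 := W.n_c1
  have h2 := fix_c2 S W.hn
  have h3 : n * φ c3 * n⁻¹ = φ c1 := by
    calc n * φ c3 * n⁻¹ = (n * φ c1 * n⁻¹) * (n * φ c2 * n⁻¹) := by
          rw [← q2, map_mul φ c1 c2]; group
      _ = φ (c3 * c2) := by rw [h1, h2, map_mul φ c3 c2]
      _ = φ c1 := by rw [q3]
  have h4 : n * n * x * (n * n)⁻¹ = x * φ s * (n * φ s * n⁻¹) := by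
    calc n * n * x * (n * n)⁻¹ = n * (n * x * n⁻¹) * n⁻¹ := by group
      _ = (n * x * n⁻¹) * (n * φ s * n⁻¹) := by rw [h]; group; rw [← h]; group
      _ = x * φ s * (n * φ s * n⁻¹) := by rw [h]
  rcases hs with rfl | rfl | rfl | rfl
  · exfalso
    rw [map_one, mul_one] at h
    exact W.nP0 (T_le_P0 S (fix S W.hn h))
  · rw [h4, h1, mul_assoc, ← map_mul φ c1 c3, q4]
  · exfalso
    apply W.nP0
    have h5 : g⁻¹ * n ∈ TT x φ := by
      apply fix S (mul_mem (inv_mem hg.1) W.hn)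
      calc g⁻¹ * n * x * (g⁻¹ * n)⁻¹ = g⁻¹ * (n * x * n⁻¹) * g := by group
        _ = g⁻¹ * (g * x * g⁻¹) * g := by rw [h, hgx]
        _ = x := by group
    have h6 := mul_mem hg (T_le_P0 S h5)
    rwa [mul_inv_cancel_left] at h6
  · rw [h4, h3, mul_assoc, ← map_mul φ c3 c1, q5]

/-- every element of `N(T) - P0` swaps -/
theorem of_notMem (W : Sw x φ n) {h : G} (hh : h ∈ normalizer (TT x φ : Set G)) (h0 : h ∉ P0 x φ) :
    Sw x φ h := by
  have S := W.uni.toSSix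
  rcases MM_cases S hh with h2 | h2
  · exact absurd (mem_P0_a hh h2.1) h0
  · exact ⟨W.uni, hh, h2.1, h2.2⟩

/-- a conjugate of `x` in `N(T)` is in `P0` -/
theorem D_P0 [Finite G] (W : Sw x φ n) {h : G} (hh : h ∈ normalizer (TT x φ : Set G)) (hx : IsConj x h) :
    h ∈ P0 x φ := by
  by_contra h0
  have S := W.uni.toSSix
  have h1 := (W.of_notMem hh h0).n_sq
  obtain ⟨c, rfl⟩ := isConj_iff.1 hx
  have h2 : c * x * c⁻¹ * (c * x * c⁻¹) = 1 := by
    calc c * x * c⁻¹ * (c * x * c⁻¹) = c * (x * x) * c⁻¹ := by group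
      _ = 1 := by rw [S.xx]; group
  rw [h2] at h1
  have h3 : x * φ 1 = x * φ c2 := by rw [← h1, map_one]; group
  exact q24 (S.mul_inj h3)

/-- the adjusted `g` -/
structure Ad (x : G) (φ : Perm (Fin 6) →* G) (g : G) : Prop where
  mem : g ∈ P0 x φ
  gx : g * x * g⁻¹ = x * φ c2
  comm : ∀ p, PP p → g * φ p = φ p * g
  P0 : ∀ h ∈ P0 x φ, h * x * h⁻¹ = x ∨ h * x * h⁻¹ = x * φ c2

theorem exists_ad [Finite G] (W : Sw x φ n) : ∃ g, Ad x φ g := by
  have S := W.uni.toSSix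
  obtain ⟨g, hg, hgx, hP⟩ := W.exists_g2
  have hgc1 := g_c1 W.uni hg.1 hgx
  have hgc2 := fix_c2 S hg.1
  have hgNe : g ∈ normalizer (EB x φ e0 : Set G) := MM_normalizer.1 (P0_MM S (Or.inr rfl) hg)
  have hgNa : g ∈ normalizer (EB x φ a0 : Set G) := MM_normalizer.1 (P0_MM S (Or.inl rfl) hg)
  have hinj : ∀ u v : Perm (Fin 6), g * φ u * g⁻¹ = g * φ v * g⁻¹ → u = v := fun u v h =>
    S.inj (mul_left_cancel (mul_right_cancel h))
  have hc2' : φ c2 * φ c2 = 1 := by rw [← map_mul φ c2 c2, q9, map_one]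
  -- the image of `φ e0`
  have he : g * φ e0 * g⁻¹ = φ e0 ∨ g * φ e0 * g⁻¹ = φ (c2 * e0) := by
    -- `x φ(e0)` is in the orbit of `N(E_e)`
    obtain ⟨k1, k2⟩ := orb_rot S (Or.inr rfl : BB e0) NY_r1 hgNe hgx
    obtain ⟨k3, k4⟩ := orb_rot S (Or.inr rfl : BB e0) NY_r1 k1 k2
    have k5 : φ r1 * (φ r1 * g) * x * (φ r1 * (φ r1 * g))⁻¹ = x * φ e0 := by
      rw [k4, q8]
    have k6 : (g * (φ r1 * (φ r1 * g))) * x * (g * (φ r1 * (φ r1 * g)))⁻¹ = x * (φ c2 * (g * φ e0 * g⁻¹)) := by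
      calc (g * (φ r1 * (φ r1 * g))) * x * (g * (φ r1 * (φ r1 * g)))⁻¹
          = g * (φ r1 * (φ r1 * g) * x * (φ r1 * (φ r1 * g))⁻¹) * g⁻¹ := by group
        _ = (g * x * g⁻¹) * (g * φ e0 * g⁻¹) := by rw [k5]; group
        _ = x * (φ c2 * (g * φ e0 * g⁻¹)) := by rw [hgx, mul_assoc]
    have k7 := mul_mem hgNe k3
    obtain ⟨p, hp, h2⟩ := orb_mem W.uni k7
    have h3 := dec3 p hp (W.orb_cond hP (Or.inr rfl) NY_r1 k7 h2)
    have h4 : φ c2 * (g * φ e0 * g⁻¹) = φ p := mul_left_cancel (k6.symm.trans h2)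
    have h5 : g * φ e0 * g⁻¹ = φ (c2 * p) := by
      rw [map_mul φ c2 p, ← h4, ← mul_assoc, hc2', one_mul]
    rcases h3 with (rfl | rfl) | rfl | rfl
    · exfalso
      rw [mul_one, ← hgc2] at h5
      exact q26 (hinj _ _ h5)
    · exfalso
      rw [q9, map_one] at h5
      exact q27 (hinj e0 1 (by rw [h5, map_one]; group))
    · exact Or.inr h5
    · left
      rw [h5, q10]
  -- the image of `φ a0`
  have ha : g * φ a0 * g⁻¹ = φ a0 ∨ g * φ a0 * g⁻¹ = φ (c2 * a0) := by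
    obtain ⟨k1, k2⟩ := orb_rot S (Or.inl rfl : BB a0) NY_r2 hgNa hgx
    obtain ⟨k3, k4⟩ := orb_rot S (Or.inl rfl : BB a0) NY_r2 k1 k2
    have k4' : ∃ k ∈ normalizer (EB x φ a0 : Set G), k * x * k⁻¹ = x * φ (a0 * c1) := by
      rcases q11 with hd | hd
      · exact ⟨_, k1, by rw [k2, hd]⟩
      · exact ⟨_, k3, by rw [k4, hd]⟩
    obtain ⟨k, k3, k5⟩ := k4'
    have k6 : (g * k) * x * (g * k)⁻¹ = x * (φ c2 * (g * φ (a0 * c1) * g⁻¹)) := by
      calc (g * k) * x * (g * k)⁻¹ = g * (k * x * k⁻¹) * g⁻¹ := by group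
        _ = (g * x * g⁻¹) * (g * φ (a0 * c1) * g⁻¹) := by rw [k5]; group
        _ = x * (φ c2 * (g * φ (a0 * c1) * g⁻¹)) := by rw [hgx, mul_assoc]
    have k7 := mul_mem hgNa k3
    obtain ⟨p, hp, h2⟩ := orb_mem W.uni k7
    have h3 := dec4 p hp (W.orb_cond hP (Or.inl rfl) NY_r2 k7 h2)
    have h4 : φ c2 * (g * φ (a0 * c1) * g⁻¹) = φ p := mul_left_cancel (k6.symm.trans h2)
    have h5 : g * φ (a0 * c1) * g⁻¹ = φ (c2 * p) := by
      rw [map_mul φ c2 p, ← h4, ← mul_assoc, hc2', one_mul]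
    have h6 : g * φ a0 * g⁻¹ = φ (c2 * p * c1) := by
      calc g * φ a0 * g⁻¹ = (g * φ (a0 * c1) * g⁻¹) * (g * φ c1 * g⁻¹) := by
            rw [map_mul φ a0 c1]
            calc g * φ a0 * g⁻¹ = g * φ a0 * 1 * g⁻¹ := by group
              _ = g * φ a0 * (φ c1 * φ c1) * g⁻¹ := by
                rw [← map_mul φ c1 c1, q21, map_one]
              _ = _ := by group
        _ = φ (c2 * p * c1) := by rw [h5, hgc1, map_mul φ (c2 * p) c1]
    rcases h3 with (rfl | rfl) | rfl | rfl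
    · exfalso
      rw [mul_one, ← hgc2] at h5
      exact q28 (hinj _ _ h5)
    · exfalso
      rw [q9, map_one] at h5
      exact q29 (hinj (a0 * c1) 1 (by rw [h5, map_one]; group))
    · right
      rw [h6, q12]
    · left
      rw [h6, q13]
  -- adjust
  have hadj : ∃ k : Perm (Fin 6), PP k ∧ (g * φ k) * φ a0 * (g * φ k)⁻¹ = φ a0 ∧
      (g * φ k) * φ e0 * (g * φ k)⁻¹ = φ e0 := by
    have hk : ∀ k q : Perm (Fin 6), (g * φ k) * φ q * (g * φ k)⁻¹ = g * φ (k * q * k⁻¹) * g⁻¹ := by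
      intro k q
      rw [map_mul φ (k * q) k⁻¹, map_mul φ k q, map_inv φ k]; group
    have hm : ∀ v : Perm (Fin 6), g * φ (c2 * v) * g⁻¹ = φ c2 * (g * φ v * g⁻¹) := by
      intro v
      rw [map_mul φ c2 v]
      calc g * (φ c2 * φ v) * g⁻¹ = (g * φ c2 * g⁻¹) * (g * φ v * g⁻¹) := by group
        _ = _ := by rw [hgc2]
    rcases he with he | he <;> rcases ha with ha | ha
    · exact ⟨1, PP_one, by rw [hk, one_mul, inv_one, mul_one, ha], by rw [hk, one_mul, inv_one, mul_one, he]⟩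
    · exact ⟨e0, PP_e0, by rw [hk, q14, hm, ha, ← map_mul φ c2 (c2 * a0), q18], by rw [hk, q19, he]⟩
    · exact ⟨a0, PP_a0, by rw [hk, q20, ha], by rw [hk, q15, hm, he, ← map_mul φ c2 (c2 * e0), q10]⟩
    · exact ⟨a0 * e0, PP_ae, by rw [hk, q16, hm, ha, ← map_mul φ c2 (c2 * a0), q18],
        by rw [hk, q17, hm, he, ← map_mul φ c2 (c2 * e0), q10]⟩
  obtain ⟨k, hk, h1, h2⟩ := hadj
  have hkT : φ k ∈ TT x φ := (phi_mem S).2 hk
  have hmem : g * φ k ∈ P0 x φ := mul_mem hg (T_le_P0 S hkT)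
  have hx' : g * φ k * x * (g * φ k)⁻¹ = x * φ c2 := by
    calc g * φ k * x * (g * φ k)⁻¹ = g * (φ k * x) * (φ k)⁻¹ * g⁻¹ := by group
      _ = g * x * g⁻¹ := by rw [S.comm']; group
      _ = x * φ c2 := hgx
  refine ⟨g * φ k, hmem, hx', ?_, hP⟩
  have e1 : g * φ k * φ a0 = φ a0 * (g * φ k) := mul_inv_eq_iff_eq_mul.1 h1
  have e2 : g * φ k * φ e0 = φ e0 * (g * φ k) := mul_inv_eq_iff_eq_mul.1 h2
  have e3 : g * φ k * φ c1 = φ c1 * (g * φ k) := mul_inv_eq_iff_eq_mul.1 (g_c1 W.uni hmem.1 hx')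
  have e4 : g * φ k * φ c2 = φ c2 * (g * φ k) := mul_inv_eq_iff_eq_mul.1 (fix_c2 S hmem.1)
  generalize g * φ k = y at e1 e2 e3 e4
  have hmul : ∀ u v : Perm (Fin 6), y * φ u = φ u * y → y * φ v = φ v * y → y * φ (u * v) = φ (u * v) * y := by
    intro u v hu hv
    rw [map_mul φ u v, ← mul_assoc, hu, mul_assoc, hv, mul_assoc]
  have hz : ∀ s, ZZ s → y * φ s = φ s * y := by
    rintro s (rfl | rfl | rfl | rfl)
    · rw [map_one, mul_one, one_mul]
    · exact e3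
    · exact e4
    · rw [← q2]
      exact hmul _ _ e3 e4
  intro p hp
  rcases dec5 p hp with (h | h) | h | h
  · exact hz p h
  · have : p = a0 * (a0 * p) := by rw [← mul_assoc, q30, one_mul]
    rw [this]
    exact hmul _ _ e1 (hz _ h)
  · have : p = e0 * (e0 * p) := by rw [← mul_assoc, q31, one_mul]
    rw [this]
    exact hmul _ _ e2 (hz _ h)
  · have : p = e0 * (a0 * (a0 * (e0 * p))) := by
      rw [← mul_assoc a0 a0, q30, one_mul, ← mul_assoc, q31, one_mul]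
    rw [this]
    exact hmul _ _ e2 (hmul _ _ e1 (hz _ h))

end Sw

end Cfsg.Agent.OddHalf.D6.SixU.SwapA
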